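import Cfsg.Agent.Lib.Counting.Kulakoff
import Cfsg.Agent.Lib.Metacyclic

/-!
# A `p`-group which is the product of two cyclic subgroups with trivial intersection
-/

set_option autoImplicit false
set_option linter.unusedSectionVars false
set_option linter.unusedVariables false
set_option linter.style.haveILetI false

namespace CfsgLib.BicyclicFactor

open Subgroup

universe u

variable {P : Type u} [Group P] [Finite P] {p : ℕ} [hp : Fact p.Prime]

/-- The group is the product of the powers of `a` and the powers of `b`, with unique expression. -/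
structure Fac (p : ℕ) (P : Type u) [Group P] (a b : P) : Prop where
  pgroup : IsPGroup p P
  prod : ∀ g : P, ∃ u ∈ zpowers a, ∃ v ∈ zpowers b, g = u * v
  disj : zpowers a ⊓ zpowers b = ⊥

variable {a b : P}

theorem Fac.unique (h : Fac p P a b) {u u' v v' : P} (hu : u ∈ zpowers a) (hu' : u' ∈ zpowers a)
    (hv : v ∈ zpowers b) (hv' : v' ∈ zpowers b) (e : u * v = u' * v') : u = u' ∧ v = v' := by
  have h1 : u'⁻¹ * u = v' * v⁻¹ := by
    rw [inv_mul_eq_iff_eq_mul, ← mul_assoc, ← e, mul_inv_cancel_right]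
  have h2 : u'⁻¹ * u ∈ zpowers a ⊓ zpowers b :=
    mem_inf.mpr ⟨mul_mem (inv_mem hu') hu, h1 ▸ mul_mem hv' (inv_mem hv)⟩
  rw [h.disj, mem_bot] at h2
  have h3 := h2
  rw [h1] at h3
  exact ⟨(inv_mul_eq_one.mp h2).symm, (mul_inv_eq_one.mp h3).symm⟩

theorem Fac.card_eq (h : Fac p P a b) : Nat.card P = orderOf a * orderOf b := by
  rw [← Nat.card_zpowers, ← Nat.card_zpowers, ← Nat.card_prod]
  refine (Nat.card_congr (Equiv.ofBijective (fun x : zpowers a × zpowers b => (x.1 : P) * x.2) ⟨?_, ?_⟩)).symm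
  · rintro ⟨x, y⟩ ⟨x', y'⟩ e
    obtain ⟨e1, e2⟩ := h.unique x.2 x'.2 y.2 y'.2 e
    exact Prod.ext (Subtype.ext e1) (Subtype.ext e2)
  · intro g
    obtain ⟨u, hu, v, hv, rfl⟩ := h.prod g
    exact ⟨(⟨u, hu⟩, ⟨v, hv⟩), rfl⟩

theorem Fac.symm (h : Fac p P a b) : Fac p P b a := by
  refine ⟨h.pgroup, fun g => ?_, by rw [inf_comm]; exact h.disj⟩
  obtain ⟨u, hu, v, hv, e⟩ := h.prod g⁻¹
  exact ⟨v⁻¹, inv_mem hv, u⁻¹, inv_mem hu, by rw [← mul_inv_rev, ← e, inv_inv]⟩

theorem zpowers_pow_le (x : P) (n : ℕ) : zpowers (x ^ n) ≤ zpowers x :=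
  zpowers_le.mpr (pow_mem (mem_zpowers x) n)

theorem orderOf_pow_prime (hP : IsPGroup p P) {x : P} (hx : x ≠ 1) : p * orderOf (x ^ p) = orderOf x := by
  obtain ⟨k, hk⟩ := IsPGroup.iff_orderOf.mp hP x
  have hd : p ∣ orderOf x := by
    rw [hk]
    refine dvd_pow_self p fun h0 => hx ?_
    rw [← orderOf_eq_one_iff, hk, h0, pow_zero]
  rw [orderOf_pow_of_dvd hp.out.ne_zero hd, Nat.mul_div_cancel' hd]

theorem Fac.eq_one_of_isCyclic (h : Fac p P a b) (hc : IsCyclic P) : a = 1 ∨ b = 1 := by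
  by_contra hne
  push Not at hne
  obtain ⟨ha, hb⟩ := hne
  have hp1 : ∀ {x : P}, x ≠ 1 → ∃ y ∈ zpowers x, y ≠ 1 ∧ y ^ p = 1 := by
    intro x hx
    obtain ⟨k, hk⟩ := IsPGroup.iff_orderOf.mp h.pgroup x
    rcases k with _ | k
    · exact absurd (orderOf_eq_one_iff.mp (by simpa using hk)) hx
    refine ⟨x ^ p ^ k, pow_mem (mem_zpowers x) _, fun e => ?_, ?_⟩
    · have := Nat.le_of_dvd (pow_pos hp.out.pos k) (orderOf_dvd_of_pow_eq_one e)
      rw [hk, pow_succ] at this
      exact absurd this (not_le.mpr (lt_mul_of_one_lt_right (pow_pos hp.out.pos k) hp.out.one_lt))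
    · rw [← pow_mul, ← pow_succ, ← hk, pow_orderOf_eq_one]
  obtain ⟨x, hxa, hx1, hxp⟩ := hp1 ha
  obtain ⟨y, hyb, hy1, hyp⟩ := hp1 hb
  have h1 : y ∈ zpowers a ⊓ zpowers b :=
    ⟨(zpowers_le.mpr hxa) (CfsgLib.Metacyclic.mem_zpowers_of_isCyclic hxp hx1 hyp), hyb⟩
  rw [h.disj, mem_bot] at h1
  exact hy1 h1

/-- The Frattini subgroup consists of the products of `p`-th powers. -/
theorem Fac.mem_frattini (h : Fac p P a b) (x : P) :
    x ∈ frattini P ↔ ∃ u ∈ zpowers (a ^ p), ∃ v ∈ zpowers (b ^ p), x = u * v := by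
  have hle : ∀ y : P, zpowers (y ^ p) ≤ frattini P :=
    fun y => zpowers_le.mpr (CfsgLib.pow_mem_frattini_pGroup h.pgroup y)
  refine ⟨fun hx => ?_, ?_⟩
  swap
  · rintro ⟨u, hu, v, hv, rfl⟩
    exact mul_mem (hle a hu) (hle b hv)
  let f : zpowers (a ^ p) × zpowers (b ^ p) → frattini P :=
    fun y => ⟨(y.1 : P) * y.2, mul_mem (hle a y.1.2) (hle b y.2.2)⟩
  have hf : Function.Injective f := by
    rintro ⟨u, v⟩ ⟨u', v'⟩ e
    obtain ⟨e1, e2⟩ := h.unique (zpowers_pow_le a p u.2) (zpowers_pow_le a p u'.2) (zpowers_pow_le b p v.2)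
      (zpowers_pow_le b p v'.2) (congrArg Subtype.val e)
    exact Prod.ext (Subtype.ext e1) (Subtype.ext e2)
  have hcard : Nat.card (frattini P) ≤ Nat.card (zpowers (a ^ p) × zpowers (b ^ p)) := by
    rw [Nat.card_prod, Nat.card_zpowers, Nat.card_zpowers]
    have hP := h.card_eq
    have hmul := (frattini P).card_mul_index
    by_cases hc : IsCyclic P
    · by_cases ha : a = 1
      · by_cases hb : b = 1
        · have : Nat.card P = 1 := by rw [hP, ha, hb]; simp
          rw [this] at hmul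
          rw [Nat.eq_one_of_mul_eq_one_right hmul, ha, hb]; simp
        · have hne : (frattini P).index ≠ 1 := fun e => by
            have hnc : (⊤ : Subgroup P) = ⊥ :=
              (frattini_nongenerating (K := ⊥) (by rw [bot_sup_eq, Subgroup.index_eq_one.mp e])).symm
            exact hb (mem_bot.mp (hnc ▸ mem_top b))
          obtain ⟨k, hk⟩ := h.pgroup.index (frattini P)
          rcases k with _ | k
          · exact absurd (by simpa using hk) hne
          have hb' := orderOf_pow_prime h.pgroup hb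
          rw [hk, hP, ha, orderOf_one, one_mul, ← hb'] at hmul
          rw [ha, one_pow, orderOf_one, one_mul]
          refine Nat.le_of_mul_le_mul_right ?_ hp.out.pos
          rw [mul_comm (orderOf _) p, ← hmul, pow_succ]
          exact Nat.mul_le_mul_left _ (Nat.le_mul_of_pos_left _ (pow_pos hp.out.pos k))
      · have hb := (h.eq_one_of_isCyclic hc).resolve_left ha
        have hne : (frattini P).index ≠ 1 := fun e => by
          have hnc : (⊤ : Subgroup P) = ⊥ :=
            (frattini_nongenerating (K := ⊥) (by rw [bot_sup_eq, Subgroup.index_eq_one.mp e])).symm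
          exact ha (mem_bot.mp (hnc ▸ mem_top a))
        obtain ⟨k, hk⟩ := h.pgroup.index (frattini P)
        rcases k with _ | k
        · exact absurd (by simpa using hk) hne
        have ha' := orderOf_pow_prime h.pgroup ha
        rw [hk, hP, hb, orderOf_one, mul_one, ← ha'] at hmul
        rw [hb, one_pow, orderOf_one, mul_one]
        refine Nat.le_of_mul_le_mul_right ?_ hp.out.pos
        rw [mul_comm (orderOf _) p, ← hmul, pow_succ]
        exact Nat.mul_le_mul_left _ (Nat.le_mul_of_pos_left _ (pow_pos hp.out.pos k))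
    · obtain ⟨h1, h2⟩ := CfsgLib.Kulakoff.index_frattini h.pgroup hc
      obtain ⟨k, hk⟩ := h.pgroup.index (frattini P)
      rcases k with _ | _ | k
      · exact absurd (by simpa using hk) h2
      · exact absurd (by simpa using hk) h1
      have ha : a ≠ 1 := fun e => hc ⟨⟨b, fun g => by
        obtain ⟨u, hu, v, hv, rfl⟩ := h.prod g
        rw [e, zpowers_one_eq_bot, mem_bot] at hu
        rw [hu, one_mul]; exact hv⟩⟩
      have hb : b ≠ 1 := fun e => hc ⟨⟨a, fun g => by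
        obtain ⟨u, hu, v, hv, rfl⟩ := h.prod g
        rw [e, zpowers_one_eq_bot, mem_bot] at hv
        rw [hv, mul_one]; exact hu⟩⟩
      rw [hk, hP, ← orderOf_pow_prime h.pgroup ha, ← orderOf_pow_prime h.pgroup hb] at hmul
      refine Nat.le_of_mul_le_mul_right ?_ (Nat.mul_pos hp.out.pos hp.out.pos)
      calc Nat.card (frattini P) * (p * p) ≤ Nat.card (frattini P) * p ^ (k + 1 + 1) :=
            Nat.mul_le_mul_left _ (by
              rw [pow_succ, pow_succ, mul_assoc]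
              exact Nat.le_mul_of_pos_left _ (pow_pos hp.out.pos k))
        _ = _ := by rw [hmul]; ring
  have hbij : Function.Bijective f := by
    refine (Nat.bijective_iff_injective_and_card f).mpr ⟨hf, le_antisymm ?_ hcard⟩
    exact Nat.card_le_card_of_injective f hf
  obtain ⟨⟨u, v⟩, e⟩ := hbij.2 ⟨x, hx⟩
  exact ⟨u, u.2, v, v.2, (congrArg Subtype.val e).symm⟩

/-- The subgroups of iterated Frattini type. -/
def Q (p : ℕ) (a b : P) (i : ℕ) : Subgroup P := closure {a ^ p ^ i, b ^ p ^ i}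

theorem left_mem_Q (a b : P) (i : ℕ) : a ^ p ^ i ∈ Q p a b i := subset_closure (Or.inl rfl)

theorem right_mem_Q (a b : P) (i : ℕ) : b ^ p ^ i ∈ Q p a b i := subset_closure (Or.inr rfl)

theorem zpowers_le_Q_left (a b : P) (i : ℕ) : zpowers (a ^ p ^ i) ≤ Q p a b i :=
  zpowers_le.mpr (left_mem_Q a b i)

theorem zpowers_le_Q_right (a b : P) (i : ℕ) : zpowers (b ^ p ^ i) ≤ Q p a b i :=
  zpowers_le.mpr (right_mem_Q a b i)

theorem Q_zero (h : Fac p P a b) : Q p a b 0 = ⊤ := by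
  refine eq_top_iff.mpr fun g _ => ?_
  obtain ⟨u, hu, v, hv, rfl⟩ := h.prod g
  exact mul_mem (zpowers_le_Q_left a b 0 (by simpa using hu)) (zpowers_le_Q_right a b 0 (by simpa using hv))

/-- The sets of products are the subgroups `Q i`, which are normal. -/
theorem Fac.Q_facts (h : Fac p P a b) (i : ℕ) :
    (Q p a b i).Normal ∧ ∀ x, x ∈ Q p a b i ↔ ∃ u ∈ zpowers (a ^ p ^ i), ∃ v ∈ zpowers (b ^ p ^ i), x = u * v := by
  induction i with
  | zero =>
    rw [Q_zero h]
    refine ⟨inferInstance, fun x => ⟨fun _ => ?_, fun _ => mem_top x⟩⟩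
    simpa using h.prod x
  | succ i ih =>
    obtain ⟨hn, hmem⟩ := ih
    haveI := hn
    let a' : Q p a b i := ⟨a ^ p ^ i, left_mem_Q a b i⟩
    let b' : Q p a b i := ⟨b ^ p ^ i, right_mem_Q a b i⟩
    have hlift : ∀ {c : P} (hc : c ∈ Q p a b i) {u : P} (hu : u ∈ Q p a b i),
        u ∈ zpowers c ↔ (⟨u, hu⟩ : Q p a b i) ∈ zpowers (⟨c, hc⟩ : Q p a b i) := by
      intro c hc u hu
      simp [mem_zpowers_iff, Subtype.ext_iff]
    have hFac : Fac p ↥(Q p a b i) a' b' := by
      refine ⟨h.pgroup.to_subgroup _, fun g => ?_, ?_⟩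
      · obtain ⟨u, hu, v, hv, e⟩ := (hmem g).mp g.2
        exact ⟨⟨u, zpowers_le_Q_left a b i hu⟩, (hlift _ _).mp hu, ⟨v, zpowers_le_Q_right a b i hv⟩,
          (hlift _ _).mp hv, Subtype.ext e⟩
      · rw [eq_bot_iff]
        rintro ⟨g, hg⟩ ⟨h1, h2⟩
        have hg1 : g ∈ zpowers a := zpowers_pow_le a _ ((hlift _ hg).mpr h1)
        have hg2 : g ∈ zpowers b := zpowers_pow_le b _ ((hlift _ hg).mpr h2)
        have : g ∈ zpowers a ⊓ zpowers b := ⟨hg1, hg2⟩
        rw [h.disj, mem_bot] at this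
        exact mem_bot.mpr (Subtype.ext this)
    have key : ∀ x, x ∈ (frattini ↥(Q p a b i)).map (Q p a b i).subtype ↔
        ∃ u ∈ zpowers (a ^ p ^ (i + 1)), ∃ v ∈ zpowers (b ^ p ^ (i + 1)), x = u * v := by
      intro x
      simp only [mem_map, hFac.mem_frattini, mem_zpowers_iff]
      constructor
      · rintro ⟨y, ⟨u, ⟨k, rfl⟩, v, ⟨l, rfl⟩, rfl⟩, rfl⟩
        exact ⟨_, ⟨k, rfl⟩, _, ⟨l, rfl⟩, by simp [a', b', pow_succ, pow_mul]⟩
      · rintro ⟨u, ⟨k, rfl⟩, v, ⟨l, rfl⟩, rfl⟩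
        exact ⟨(a' ^ p) ^ k * (b' ^ p) ^ l, ⟨_, ⟨k, rfl⟩, _, ⟨l, rfl⟩, rfl⟩,
          by simp [a', b', pow_succ, pow_mul]⟩
    have heq : Q p a b (i + 1) = (frattini ↥(Q p a b i)).map (Q p a b i).subtype := by
      refine le_antisymm ((closure_le _).mpr ?_) fun x hx => ?_
      · rintro x (rfl | rfl)
        · exact (key _).mpr ⟨_, mem_zpowers _, 1, one_mem _, (mul_one _).symm⟩
        · exact (key _).mpr ⟨1, one_mem _, _, mem_zpowers _, (one_mul _).symm⟩
      · obtain ⟨u, hu, v, hv, rfl⟩ := (key x).mp hx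
        exact mul_mem (zpowers_le_Q_left a b (i + 1) hu) (zpowers_le_Q_right a b (i + 1) hv)
    rw [heq]
    exact ⟨inferInstance, key⟩

theorem Fac.normal_Q (h : Fac p P a b) (i : ℕ) : (Q p a b i).Normal := (h.Q_facts i).1

theorem Fac.mem_Q (h : Fac p P a b) {i : ℕ} {x : P} :
    x ∈ Q p a b i ↔ ∃ u ∈ zpowers (a ^ p ^ i), ∃ v ∈ zpowers (b ^ p ^ i), x = u * v := (h.Q_facts i).2 x

theorem Fac.Q_succ_le (h : Fac p P a b) (i : ℕ) : Q p a b (i + 1) ≤ Q p a b i := by
  refine (closure_le _).mpr ?_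
  rintro x (rfl | rfl)
  · rw [SetLike.mem_coe, pow_succ, pow_mul]; exact pow_mem (left_mem_Q a b i) _
  · rw [SetLike.mem_coe, pow_succ, pow_mul]; exact pow_mem (right_mem_Q a b i) _

theorem Fac.Q_antitone (h : Fac p P a b) {i j : ℕ} (hij : i ≤ j) : Q p a b j ≤ Q p a b i := by
  induction hij with
  | refl => exact le_rfl
  | step _ ih => exact (h.Q_succ_le _).trans ih

/-- Components of a member of `Q i`. -/
theorem Fac.mem_Q_split (h : Fac p P a b) {i : ℕ} {u v : P} (hu : u ∈ zpowers a) (hv : v ∈ zpowers b)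
    (hx : u * v ∈ Q p a b i) : u ∈ zpowers (a ^ p ^ i) ∧ v ∈ zpowers (b ^ p ^ i) := by
  obtain ⟨u', hu', v', hv', e⟩ := h.mem_Q.mp hx
  obtain ⟨e1, e2⟩ := h.unique hu (zpowers_pow_le a _ hu') hv (zpowers_pow_le b _ hv') e
  exact ⟨e1 ▸ hu', e2 ▸ hv'⟩

end CfsgLib.BicyclicFactor
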