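import Cfsg.Agent.Lib.BicyclicFactor.Roots
import Cfsg.Agent.S0572

/-!
# The classes of involutions outside the Frattini subgroup of a bicyclic two-group
-/

set_option autoImplicit false
set_option linter.unusedSectionVars false
set_option linter.unusedVariables false
set_option linter.unusedSimpArgs false
set_option linter.style.haveILetI false

namespace CfsgLib.BicyclicFactor

open Subgroup
open scoped commutatorElement

universe u

variable {P : Type u} [Group P] [Finite P]

/-- In a two-group generated by `a` and an involution `e`, with abelian derived subgroup `K` having at most four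
square roots of one, the elements `e * k` with `k ∈ K` are conjugate to `e`. -/
theorem isConj_mul_commutator (hP : IsPGroup 2 P) {a e : P} (he : e * e = 1)
    (hgen : closure ({a, e} : Set P) = ⊤) (hab : IsMulCommutative ↥(commutator P))
    (hroots : Nat.card {x : ↥(commutator P) // x * x = 1} ≤ 4) {k : P} (hk : k ∈ commutator P) :
    IsConj e (e * k) := by
  classical
  set K := commutator P with hK
  have hc : ∀ x ∈ K, ∀ y ∈ K, x * y = y * x := fun x hx y hy =>
    congrArg Subtype.val (hab.is_comm.comm (⟨x, hx⟩ : K) ⟨y, hy⟩)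
  have hcomm : ∀ g h : P, g * h * g⁻¹ * h⁻¹ ∈ K := fun g h =>
    commutator_mem_commutator (mem_top g) (mem_top h)
  haveI hKn : K.Normal := inferInstance
  have einv : e⁻¹ = e := inv_eq_of_mul_eq_one_right he
  set c0 : P := e * a * e * a⁻¹ with hc0
  have hc0K : c0 ∈ K := by have := hcomm e a; rwa [einv] at this
  -- the element `d0`
  set d0 : P := a⁻¹ * c0 * a with hd0
  have hd0' : d0 = a⁻¹ * e * a * e := by rw [hd0, hc0]; group
  have hd0K : d0 ∈ K := by
    have := hKn.conj_mem c0 hc0K a⁻¹; rwa [inv_inv] at this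
  have hinvd0 : e * d0 * e = d0⁻¹ := by
    rw [hd0', mul_inv_rev, mul_inv_rev, mul_inv_rev, inv_inv, einv]
    calc e * (a⁻¹ * e * a * e) * e = e * a⁻¹ * e * a * (e * e) := by simp [mul_assoc]
      _ = e * (a⁻¹ * (e * a)) := by rw [he, mul_one]; simp [mul_assoc]
  have hea : e * a * e = a * d0 := by
    rw [hd0']; group
  set K0 : Subgroup P := closure (Set.range fun n : ℤ => a ^ n * d0 * (a ^ n)⁻¹) with hK0
  have hK0K : K0 ≤ K := (closure_le _).mpr (by rintro _ ⟨n, rfl⟩; exact hKn.conj_mem d0 hd0K _)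
  have hinv0 : ∀ x ∈ K0, e * x * e = x⁻¹ := by
    intro x hx
    induction hx using closure_induction with
    | mem x hx =>
      obtain ⟨n, rfl⟩ := hx
      have h1 : e * a ^ n * e = (a * d0) ^ n := by
        rw [← hea]
        conv_lhs => rw [show e * a ^ n * e = e * a ^ n * e⁻¹ by rw [einv]]
        rw [← conj_zpow, einv]
      have h2 : (a ^ n)⁻¹ * (a * d0) ^ n ∈ K := by
        haveI : K.Normal := hKn
        refine (QuotientGroup.eq_one_iff _).mp ?_
        have hd : ((d0 : P) : P ⧸ K) = 1 := (QuotientGroup.eq_one_iff _).mpr hd0K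
        simp [hd]
      set k0 := (a ^ n)⁻¹ * (a * d0) ^ n with hk0
      have h3 : (a * d0) ^ n = a ^ n * k0 := by rw [hk0, mul_inv_cancel_left]
      calc e * (a ^ n * d0 * (a ^ n)⁻¹) * e
          = (e * a ^ n * e) * (e * d0 * e) * (e * (a ^ n)⁻¹ * e) := by
            simp only [mul_assoc, mul_eq_one_iff_inv_eq.mpr einv, ← mul_assoc e e, one_mul, he]
        _ = (a * d0) ^ n * d0⁻¹ * ((a * d0) ^ n)⁻¹ := by
            have h4 : e * (a ^ n)⁻¹ * e = ((a * d0) ^ n)⁻¹ := by
              rw [← h1, mul_inv_rev, mul_inv_rev, einv, mul_assoc e]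
            rw [h1, hinvd0, h4]
        _ = a ^ n * (k0 * d0⁻¹ * k0⁻¹) * (a ^ n)⁻¹ := by rw [h3]; group
        _ = a ^ n * d0⁻¹ * (a ^ n)⁻¹ := by
            rw [hc k0 h2 d0⁻¹ (inv_mem hd0K), mul_inv_cancel_right]
        _ = _ := by group
    | one => rw [mul_one, he, inv_one]
    | mul x y hx hy ihx ihy =>
      calc e * (x * y) * e = e * x * (e * e) * y * e := by rw [he]; simp [mul_assoc]
        _ = (e * x * e) * (e * y * e) := by simp [mul_assoc]
        _ = x⁻¹ * y⁻¹ := by rw [ihx, ihy]
        _ = (x * y)⁻¹ := by rw [mul_inv_rev, hc _ (inv_mem (hK0K hx)) _ (inv_mem (hK0K hy))]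
    | inv x hx ih =>
      calc e * x⁻¹ * e = (e⁻¹ * x * e⁻¹)⁻¹ := by group
        _ = _ := by rw [einv, ih]
  have hK0n : K0.Normal := by
    refine normalizer_eq_top_iff.mp (eq_top_iff.mpr ?_)
    rw [← hgen, closure_le]
    have hclosed : ∀ g : P, (∀ x ∈ K0, g * x * g⁻¹ ∈ K0) → g ∈ normalizer (K0 : Set P) := by
      intro g hg
      exact mem_normalizer_fintype fun x hx => hg x hx
    rintro g (rfl | rfl)
    · refine hclosed g fun x hx => ?_
      induction hx using closure_induction with
      | mem x hx =>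
        obtain ⟨n, rfl⟩ := hx
        refine subset_closure ⟨1 + n, ?_⟩
        show g ^ (1 + n) * d0 * (g ^ (1 + n))⁻¹ = _
        rw [zpow_add, zpow_one]; group
      | one => rw [mul_one, mul_inv_cancel]; exact one_mem _
      | mul x y hx hy ihx ihy => rw [conj_mul.symm]; exact mul_mem ihx ihy
      | inv x hx ih => rw [← conj_inv]; exact inv_mem ih
    · exact hclosed g fun x hx => by rw [einv, hinv0 x hx]; exact inv_mem hx
  have hKK0 : K ≤ K0 := by
    haveI := hK0n
    refine Subgroup.Normal.quotient_commutative_iff_commutator_le.mp ?_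
    let π := QuotientGroup.mk' K0
    have hab' : π a * π e = π e * π a := by
      have h1 : π d0 = 1 := (QuotientGroup.eq_one_iff _).mpr (subset_closure ⟨0, by simp⟩)
      calc π a * π e = π (a * d0) * π e := by rw [map_mul π a d0, h1, mul_one]
        _ = π (e * a * (e * e)) := by rw [← hea, ← map_mul]; simp [mul_assoc]
        _ = π e * π a := by rw [he, mul_one, map_mul]
    have htop : closure ({π a, π e} : Set (P ⧸ K0)) = ⊤ := by
      rw [← MonoidHom.range_eq_top.mpr (QuotientGroup.mk'_surjective K0), MonoidHom.range_eq_map, ← hgen,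
        MonoidHom.map_closure, Set.image_pair]
    refine ⟨⟨fun x y => ?_⟩⟩
    have hx : x ∈ centralizer (closure ({π a, π e} : Set (P ⧸ K0)) : Set (P ⧸ K0)) := by
      rw [centralizer_closure]
      have : x ∈ closure ({π a, π e} : Set (P ⧸ K0)) := by rw [htop]; trivial
      refine (closure_le (K := centralizer ({π a, π e} : Set (P ⧸ K0)))).mpr ?_ this
      rintro z (rfl | rfl) w (rfl | rfl) <;> first | rfl | exact hab'.symm | exact hab'
    exact (hx y (by rw [htop]; trivial)).symm
  have hinv : ∀ x ∈ K, e * x * e = x⁻¹ := fun x hx => hinv0 x (hKK0 hx)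
  -- the orbit
  let α : P → P := fun x => a * x * a⁻¹
  have hαK : ∀ x ∈ K, α x ∈ K := fun x hx => hKn.conj_mem x hx a
  let O : Set P := {d | d ∈ K ∧ IsConj e (e * d)}
  have hO1 : (1 : P) ∈ O := ⟨one_mem K, by rw [mul_one]⟩
  have hOinv : ∀ d ∈ O, d⁻¹ ∈ O := fun d hd => ⟨inv_mem hd.1, hd.2.trans (isConj_iff.mpr ⟨e, by
    rw [einv, ← mul_assoc, he, one_mul, ← hinv d hd.1, ← mul_assoc, ← mul_assoc, he, one_mul]⟩)⟩
  let f : P → P := fun d => c0 * α d
  have hOf : ∀ d ∈ O, f d ∈ O := fun d hd => ⟨mul_mem hc0K (hαK d hd.1), hd.2.trans (isConj_iff.mpr ⟨a, by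
    calc a * (e * d) * a⁻¹ = e * (e * a * e * a⁻¹) * (a * d * a⁻¹) := by
          simp only [mul_assoc, ← mul_assoc e e, he, one_mul, inv_mul_cancel_left]
      _ = e * f d := by simp [f, α, hc0, mul_assoc]⟩)⟩
  have hfinj : Function.Injective f := fun x y h => by simpa [f, α] using h
  have hbij : ∀ d ∈ O, ∃ d' ∈ O, f d' = d := fun d hd => by
    let g : O → O := fun x => ⟨f x.1, hOf x.1 x.2⟩
    have hg : Function.Surjective g :=
      Finite.injective_iff_surjective.mp fun x y h => Subtype.ext (hfinj (congrArg Subtype.val h))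
    obtain ⟨d', hd'⟩ := hg ⟨d, hd⟩
    exact ⟨d'.1, d'.2, congrArg Subtype.val hd'⟩
  have hsq : ∀ d ∈ O, c0 * c0 * d ∈ O := by
    intro d hd
    obtain ⟨d', hd', hf'⟩ := hbij _ (hOinv d hd)
    have h1 := hOf _ (hOinv d' hd')
    have h2 : f d'⁻¹ = c0 * c0 * d := by
      have hα : α d'⁻¹ = (α d')⁻¹ := by simp [α, mul_assoc]
      have h3 : α d' = c0⁻¹ * d⁻¹ := by rw [← hf']; simp [f]
      show c0 * α d'⁻¹ = _
      rw [hα, h3, mul_inv_rev, inv_inv, inv_inv, hc d hd.1 c0 hc0K]
      exact (mul_assoc c0 c0 d).symm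
    rwa [h2] at h1
  let αn : ℤ → P := fun n => a ^ n * c0 * (a ^ n)⁻¹
  have hαn : ∀ n, αn n ∈ K := fun n => hKn.conj_mem _ hc0K _
  have hshift : ∀ (n : ℕ), ∀ d ∈ O, αn n * αn n * d ∈ O := by
    intro n
    induction n with
    | zero => intro d hd; simpa [αn] using hsq d hd
    | succ n ih =>
      intro d hd
      obtain ⟨d', hd', rfl⟩ := hbij d hd
      have h1 := hOf _ (ih d' hd')
      have e1 : αn (n + 1 : ℕ) = α (αn n) := by
        simp only [αn, α, Nat.cast_succ, add_comm (n : ℤ) 1, zpow_add, zpow_one]; group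
      have h2 : f (αn n * αn n * d') = αn (n + 1 : ℕ) * αn (n + 1 : ℕ) * f d' := by
        rw [e1]
        simp only [f]
        have : α (αn n * αn n * d') = α (αn n) * α (αn n) * α d' := by simp [α, mul_assoc]
        rw [this, ← mul_assoc c0, hc c0 hc0K (α (αn n) * α (αn n)) (mul_mem (hαK _ (hαn n)) (hαK _ (hαn n))),
          mul_assoc, mul_assoc]
      rwa [h2] at h1
  let K2 : Subgroup P :=
    { carrier := {z | z ∈ K ∧ ∀ d ∈ O, z * d ∈ O}
      one_mem' := ⟨one_mem K, fun d hd => by rwa [one_mul]⟩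
      mul_mem' := fun {x y} hx hy => ⟨mul_mem hx.1 hy.1, fun d hd => by
        rw [mul_assoc]; exact hx.2 _ (hy.2 d hd)⟩
      inv_mem' := fun {x} hx => ⟨inv_mem hx.1, fun d hd => by
        have h1 := hOinv _ (hx.2 _ (hOinv d hd))
        rwa [mul_inv_rev, inv_inv, hc d hd.1 x⁻¹ (inv_mem hx.1)] at h1⟩ }
  let K3 : Subgroup P :=
    { carrier := {x | x ∈ K ∧ x * x ∈ K2}
      one_mem' := ⟨one_mem K, by rw [one_mul]; exact one_mem K2⟩
      mul_mem' := fun {x y} hx hy => ⟨mul_mem hx.1 hy.1, by
        rw [show x * y * (x * y) = x * (y * x) * y by group, hc y hy.1 x hx.1,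
          show x * (x * y) * y = (x * x) * (y * y) by group]
        exact mul_mem hx.2 hy.2⟩
      inv_mem' := fun {x} hx => ⟨inv_mem hx.1, by rw [← mul_inv_rev]; exact inv_mem hx.2⟩ }
  have hgenK : K ≤ closure (Set.range fun n : ℕ => αn n) := by
    refine hKK0.trans ((closure_le _).mpr ?_)
    rintro _ ⟨n, rfl⟩
    obtain ⟨m, hm⟩ : ∃ m : ℕ, a ^ (m : ℤ) = a ^ (n - 1) := by
      obtain ⟨m, hm⟩ := (mem_powers_iff_mem_zpowers (x := a) (y := a ^ (n - 1))).mpr ⟨n - 1, rfl⟩
      exact ⟨m, by rw [zpow_natCast]; exact hm⟩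
    refine subset_closure ⟨m, ?_⟩
    simp only [αn, hm, hd0, zpow_sub, zpow_one]
    group
  have hsqK : ∀ x ∈ K, x * x ∈ K2 := by
    intro x hx
    have : closure (Set.range fun n : ℕ => αn n) ≤ K3 :=
      (closure_le _).mpr (by rintro _ ⟨n, rfl⟩; exact ⟨hαn _, mul_mem (hαn _) (hαn _), hshift n⟩)
    exact (this (hgenK hx)).2
  -- the quotient by the squares
  haveI : IsMulCommutative ↥K := hab
  let _ : CommGroup ↥K := { (inferInstance : Group ↥K) with mul_comm := fun x y => hab.is_comm.comm x y }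
  let φ : ↥K →* ↥K := powMonoidHom 2
  have hidx : Nat.card (↥K ⧸ φ.range) ≤ 4 := by
    have h1 := φ.range.card_mul_index
    have h2 := φ.ker.card_mul_index
    rw [← Subgroup.index_eq_card]
    have h3 : φ.ker.index = Nat.card φ.range := by
      rw [Subgroup.index_eq_card]; exact Nat.card_congr (QuotientGroup.quotientKerEquivRange φ).toEquiv
    have h4 : Nat.card φ.ker ≤ 4 := by
      refine le_trans (le_of_eq ?_) hroots
      exact Nat.card_congr (Equiv.subtypeEquivRight fun x => by simp [φ, powMonoidHom, pow_two])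
    rw [h3, mul_comm] at h2
    exact le_of_eq_of_le (Nat.eq_of_mul_eq_mul_left Nat.card_pos (h1.trans h2.symm)) h4
  have hrange : ∀ x : ↥K, x ∈ φ.range → (x : P) ∈ K2 := by
    rintro _ ⟨x, rfl⟩
    simpa [φ, powMonoidHom, pow_two] using hsqK x x.2
  let c1 : ↥K := ⟨c0, hc0K⟩
  let c2 : ↥K := ⟨α c0, hαK _ hc0K⟩
  let c3 : ↥K := ⟨α (α c0), hαK _ (hαK _ hc0K)⟩
  let q := QuotientGroup.mk' φ.range
  have hcong : ∀ (x : ↥K) (d : P) (hd : d ∈ K), d ∈ O → q x = q ⟨d, hd⟩ → (x : P) ∈ O := by
    intro x d hd hdO e'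
    have h1 := hrange _ (QuotientGroup.eq.mp e'.symm)
    have h2 := h1.2 d hdO
    simp only [Subgroup.coe_mul, InvMemClass.coe_inv] at h2
    rwa [hc _ (mul_mem (inv_mem hd) x.2) d hd, mul_inv_cancel_left] at h2
  have hO2 : c0 ∈ O := by simpa [f, α] using hOf 1 hO1
  have hO3 : c0 * α c0 ∈ O := hOf _ hO2
  have hO4 : c0 * (α c0 * α (α c0)) ∈ O := by
    have h1 := hOf _ hO3
    simp only [f, α] at h1 ⊢
    convert h1 using 1
    group
  suffices h : ∀ x : ↥K, (x : P) ∈ O from (h ⟨k, hk⟩).2
  -- the images generate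
  let W : ↥K →* ↥K ⧸ φ.range := q
  let αK : ↥K →* ↥K :=
    { toFun := fun x => ⟨α x, hαK x x.2⟩
      map_one' := Subtype.ext (by simp [α])
      map_mul' := fun x y => Subtype.ext (by simp [α, mul_assoc]) }
  have hαrange : ∀ x ∈ φ.range, αK x ∈ φ.range := by
    rintro _ ⟨x, rfl⟩
    exact ⟨αK x, (map_pow αK x 2).symm⟩
  let ω : ↥K ⧸ φ.range →* ↥K ⧸ φ.range := QuotientGroup.map φ.range φ.range αK hαrange
  have hωq : ∀ x, ω (q x) = q (αK x) := fun x => rfl
  have hω2 : ∃ N : ℕ, ∀ x, ω^[2 ^ N] x = x := by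
    obtain ⟨N, hN⟩ := IsPGroup.iff_orderOf.mp hP a
    refine ⟨N, fun x => ?_⟩
    obtain ⟨x, rfl⟩ := QuotientGroup.mk'_surjective _ x
    have hit : ∀ n : ℕ, ω^[n] (q x) = q (αK^[n] x) := by
      intro n
      induction n with
      | zero => rfl
      | succ n ih => rw [Function.iterate_succ_apply', Function.iterate_succ_apply', ih, hωq]
    have hit2 : ∀ n : ℕ, ((αK^[n] x : ↥K) : P) = a ^ n * x * (a ^ n)⁻¹ := by
      intro n
      induction n with
      | zero => simp
      | succ n ih =>
        rw [Function.iterate_succ_apply']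
        show α _ = _
        simp only [α, ih, pow_succ', mul_inv_rev, mul_assoc]
    rw [show (QuotientGroup.mk' φ.range) x = q x from rfl, hit]
    congr 1
    refine Subtype.ext ?_
    rw [hit2, ← hN, pow_orderOf_eq_one, one_mul, inv_one, mul_one]
  set u := q c1 with hu
  set w := q c2 with hw
  have hw' : ω u = w := rfl
  have hu2 : ∀ z : ↥K ⧸ φ.range, z * z = 1 := by
    intro z
    obtain ⟨z, rfl⟩ := QuotientGroup.mk'_surjective _ z
    rw [← map_mul]
    exact (QuotientGroup.eq_one_iff _).mpr ⟨z, pow_two z⟩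
  have hcl : ∀ S : Subgroup (↥K ⧸ φ.range), u ∈ S → (∀ z ∈ S, ω z ∈ S) → ∀ z, z ∈ S := by
    intro S huS hωS z
    obtain ⟨z, rfl⟩ := QuotientGroup.mk'_surjective _ z
    have h1 : ∀ n : ℕ, q ⟨αn n, hαn n⟩ ∈ S := by
      intro n
      induction n with
      | zero => convert huS using 2; exact Subtype.ext (by simp [αn, c1])
      | succ n ih =>
        have e1 : (⟨αn (n + 1 : ℕ), hαn _⟩ : ↥K) = αK ⟨αn n, hαn n⟩ := Subtype.ext (by
          show _ = α _
          simp only [αn, α, Nat.cast_succ, add_comm (n : ℤ) 1, zpow_add, zpow_one]; group)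
        rw [e1, ← hωq]
        exact hωS _ ih
    have h2 : closure (Set.range fun n : ℕ => αn n) ≤ (S.comap q).map K.subtype :=
      (closure_le _).mpr (by rintro _ ⟨n, rfl⟩; exact ⟨⟨αn n, hαn n⟩, h1 n, rfl⟩)
    obtain ⟨y, hy, e'⟩ := h2 (hgenK z.2)
    rw [← (Subtype.ext e' : y = z)]
    exact hy
  intro x
  have hx : q x = 1 ∨ q x = u ∨ q x = u * w ∨ q x = u * (w * ω w) := by
    by_cases hfix : w = u
    · have := hcl (zpowers u) (mem_zpowers u) (fun z hz => by
        obtain ⟨n, rfl⟩ := mem_zpowers_iff.mp hz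
        rw [map_zpow, hw', hfix]; exact zpow_mem (mem_zpowers u) n) (q x)
      obtain ⟨n, hn⟩ := mem_zpowers_iff.mp this
      rw [← hn]
      rcases Int.even_or_odd' n with ⟨m, rfl | rfl⟩
      · left; rw [zpow_mul, zpow_two, hu2, one_zpow]
      · right; left; rw [zpow_add, zpow_mul, zpow_two, hu2, one_zpow, one_mul, zpow_one]
    by_cases hu1 : u = 1
    · exact absurd (by rw [← hw', hu1, map_one] : w = u) hfix
    have hw1 : w ≠ 1 := by
      intro h1
      obtain ⟨N, hN⟩ := hω2
      have : ∀ n : ℕ, 0 < n → ω^[n] u = 1 := by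
        intro n hn
        obtain ⟨m, rfl⟩ := Nat.exists_eq_add_one.mpr hn
        rw [Function.iterate_succ_apply, hw', h1]
        exact iterate_map_one ω m
      exact hu1 ((hN u).symm.trans (this _ (pow_pos two_pos N)))
    have huw : u * w ≠ 1 := fun h1 => hfix (mul_left_cancel (h1.trans (hu2 u).symm))
    have hfour : ∀ z, z = 1 ∨ z = u ∨ z = w ∨ z = u * w := by
      classical
      intro z
      by_contra hz
      push Not at hz
      haveI : Fintype (↥K ⧸ φ.range) := Fintype.ofFinite _
      have hle := Finset.card_le_univ ({z, 1, u, w, u * w} : Finset (↥K ⧸ φ.range))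
      rw [Finset.card_insert_of_notMem (by simp [hz.1, hz.2.1, hz.2.2.1, hz.2.2.2]),
        Finset.card_insert_of_notMem (by simp [Ne.symm hu1, Ne.symm hw1, Ne.symm huw]),
        Finset.card_insert_of_notMem (by
          simp [Ne.symm hfix, hw1]),
        Finset.card_insert_of_notMem (by
          simp only [Finset.mem_singleton]
          exact fun h => hu1 (mul_right_cancel (show u * w = 1 * w by rw [one_mul, ← h]))),
        Finset.card_singleton, ← Nat.card_eq_fintype_card] at hle
      omega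
    have hωw : ω w = u := by
      rcases hfour (ω w) with h1 | h1 | h1 | h1
      · exfalso
        obtain ⟨N, hN⟩ := hω2
        rcases N with _ | N
        · exact hfix (hw'.symm.trans (by simpa using hN u))
        · have : ω^[2 ^ (N + 1)] u = 1 := by
            obtain ⟨m, hm⟩ : ∃ m, 2 ^ (N + 1) = m + 2 :=
              ⟨2 ^ (N + 1) - 2, by have := Nat.one_le_two_pow (n := N); rw [pow_succ]; omega⟩
            rw [hm, Function.iterate_succ_apply, hw', Function.iterate_succ_apply, h1]
            exact iterate_map_one ω m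
          exact hu1 ((hN u).symm.trans this)
      · exact h1
      · exfalso
        obtain ⟨N, hN⟩ := hω2
        have : ∀ n : ℕ, 0 < n → ω^[n] u = w := by
          intro n hn
          obtain ⟨m, rfl⟩ := Nat.exists_eq_add_one.mpr hn
          rw [Function.iterate_succ_apply, hw']
          exact Function.iterate_fixed h1 m
        exact hfix ((this _ (pow_pos two_pos N)).symm.trans (hN u))
      · exfalso
        obtain ⟨N, hN⟩ := hω2
        have h3 : ∀ n : ℕ, ω^[3 * n] u = u := by
          intro n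
          induction n with
          | zero => rfl
          | succ n ih =>
            rw [show 3 * (n + 1) = 3 * n + 3 by ring, Function.iterate_add_apply]
            simp only [Function.iterate_succ_apply', Function.iterate_zero_apply, hw', h1, map_mul]
            rw [show w * (u * w) = u * (w * w) from mul_left_comm _ _ _, hu2, mul_one, ih]
        have h4 := hN u
        have hr : 2 ^ N % 3 = 1 ∨ 2 ^ N % 3 = 2 := by
          have : 2 ^ N % 3 ≠ 0 := fun h0 => by
            have := (Nat.Prime.dvd_of_dvd_pow Nat.prime_three (Nat.dvd_of_mod_eq_zero h0))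
            omega
          omega
        rw [← Nat.mod_add_div (2 ^ N) 3, Function.iterate_add_apply, h3] at h4
        rcases hr with hr | hr <;> rw [hr] at h4
        · rw [Function.iterate_one, hw'] at h4; exact hfix h4
        · simp only [Function.iterate_succ_apply', Function.iterate_zero_apply, hw', h1] at h4
          exact hw1 (mul_left_cancel (h4.trans (mul_one u).symm))
    rcases hfour (q x) with h1 | h1 | h1 | h1
    · exact Or.inl h1
    · exact Or.inr (Or.inl h1)
    · exact Or.inr (Or.inr (Or.inr (by rw [h1, hωw, mul_comm w u, ← mul_assoc, hu2, one_mul])))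
    · exact Or.inr (Or.inr (Or.inl h1))
  rcases hx with h1 | h1 | h1 | h1
  · exact hcong x 1 (one_mem K) hO1 (h1.trans (map_one q).symm)
  · exact hcong x c0 hc0K hO2 h1
  · exact hcong x _ (mul_mem hc0K (hαK _ hc0K)) hO3 (h1.trans (map_mul q c1 c2).symm)
  · refine hcong x _ (mul_mem hc0K (mul_mem (hαK _ hc0K) (hαK _ (hαK _ hc0K)))) hO4 (h1.trans ?_)
    rw [hw, hu, hωq, ← map_mul, ← map_mul]
    rfl

end CfsgLib.BicyclicFactor
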