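import Cfsg.Agent.Lib.BicyclicFactor.OddMain
import Cfsg.Agent.Lib.AlmostCyclic.DFinal
import Cfsg.Agent.Lib.AlmostCyclic.Reduction
import Cfsg.Agent.Lib.AlmostCyclic.PSLFacts
import Cfsg.Agent.Lib.Components

/-!
# The group modulo its solvable radical
-/

set_option autoImplicit false
set_option linter.unusedSectionVars false
set_option linter.unusedVariables false
set_option linter.style.haveILetI false
set_option maxHeartbeats 400000

namespace CfsgLib.BicyclicFactor

open Subgroup CfsgLib.AlmostCyclic

universe u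

theorem quotient_hyp {G : Type u} [Group G] [Finite G] (hG : ¬ Group.IsSolvable G) (A B : Subgroup G)
    (hA : IsCyclic ↥A) (hB : ∀ (q : ℕ) [Fact q.Prime] (Q : Sylow q ↥B), IsCyclic ↥(Q : Subgroup ↥B))
    (hAB : ∀ g : G, ∃ a ∈ A, ∃ b ∈ B, g = a * b) (R : Subgroup G) [R.Normal] (hRs : Group.IsSolvable ↥R)
    (hRmax : ∀ N : Subgroup G, N.Normal → Group.IsSolvable ↥N → N ≤ R) :
    Hyp (G ⧸ R) (A.map (QuotientGroup.mk' R)) (B.map (QuotientGroup.mk' R)) := by
  haveI := hA
  haveI := hRs
  haveI hBZ : IsZGroup ↥B := ⟨fun p hp P => by haveI := Fact.mk hp; exact hB p P⟩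
  haveI : IsZGroup ↥(B.map (QuotientGroup.mk' R)) :=
    IsZGroup.of_surjective (f := (QuotientGroup.mk' R).subgroupMap B) ((QuotientGroup.mk' R).subgroupMap_surjective B)
  refine ⟨fun hs => hG ?_,
    isCyclic_of_surjective ((QuotientGroup.mk' R).subgroupMap A) ((QuotientGroup.mk' R).subgroupMap_surjective A),
    fun q _ Q => inferInstance, fun g => ?_, fun K hK hKs => ?_⟩
  · haveI := hs
    exact Group.isSolvable_of_ker_le_range R.subtype (QuotientGroup.mk' R)
      (by rw [QuotientGroup.ker_mk', range_subtype])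
  · obtain ⟨g, rfl⟩ := QuotientGroup.mk'_surjective R g
    obtain ⟨a, ha, b, hb, rfl⟩ := hAB g
    exact ⟨_, mem_map_of_mem _ ha, _, mem_map_of_mem _ hb, map_mul _ _ _⟩
  · haveI := hK
    haveI := hKs
    have hle : R ≤ K.comap (QuotientGroup.mk' R) := fun r hr => by
      rw [mem_comap, show QuotientGroup.mk' R r = 1 from (QuotientGroup.eq_one_iff r).mpr hr]
      exact one_mem _
    have hs : Group.IsSolvable ↥(K.comap (QuotientGroup.mk' R)) := by
      refine Group.isSolvable_of_ker_le_range (inclusion hle) ((QuotientGroup.mk' R).subgroupComap K) fun x hx => ?_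
      have h1 : QuotientGroup.mk' R (x : G) = 1 := congrArg Subtype.val hx
      exact ⟨⟨x, (QuotientGroup.eq_one_iff _).mp h1⟩, rfl⟩
    refine eq_bot_iff.mpr fun k hk => ?_
    obtain ⟨g, rfl⟩ := QuotientGroup.mk'_surjective R k
    exact mem_bot.mpr ((QuotientGroup.eq_one_iff g).mpr (hRmax _ inferInstance hs (mem_comap.mpr hk)))

section Psl

variable {p : ℕ} [Fact p.Prime]

local notation "PSLp" => Matrix.ProjectiveSpecialLinearGroup (Fin 2) (ZMod p)

theorem center_PSLp (hp5 : 5 ≤ p) : Subgroup.center PSLp = ⊥ := by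
  haveI : IsSimpleGroup PSLp :=
    Matrix.ProjectiveSpecialLinearGroup.rank_two_simple (by rw [Nat.card_zmod]; omega)
  exact ((inferInstance : (Subgroup.center PSLp).Normal).eq_bot_or_eq_top).resolve_right fun h =>
    psl_not_solvable hp5 (IsSimpleGroup.comm_iff_isSolvable.mp fun a b =>
      Subgroup.mem_center_iff.mp (show b ∈ Subgroup.center PSLp by rw [h]; trivial) a)

/-- A group with a proper self-centralising normal `PSL₂(p)` is `PGL₂(p)`. -/
theorem exists_PG {G : Type u} [Group G] [Finite G] (hp5 : 5 ≤ p) (N : Subgroup G) [N.Normal] (e : ↥N ≃* PSLp)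
    (hC : centralizer (N : Set G) = ⊥) (hN : N ≠ ⊤) : Nonempty (G ≃* PG (ZMod p)) := by
  obtain ⟨Θ⟩ := exists_autEquiv (p := p)
  let Φ : G →* PG (ZMod p) :=
    Θ.symm.toMonoidHom.comp ((MulAut.congr e).toMonoidHom.comp (MulAut.conjNormal (H := N)))
  have hinj : Function.Injective Φ := by
    rw [injective_iff_map_eq_one]
    intro g hg
    have h1 : (MulAut.congr e) (MulAut.conjNormal g : MulAut ↥N) = 1 := by
      have := congrArg Θ hg
      simpa [Φ] using this
    have h2 : (MulAut.conjNormal g : MulAut ↥N) = 1 := (MulAut.congr e).injective (h1.trans (map_one _).symm)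
    have h3 : g ∈ centralizer (N : Set G) := fun n hn => by
      have h4 := congrArg Subtype.val (DFunLike.congr_fun h2 ⟨n, hn⟩)
      rw [MulAut.conjNormal_apply] at h4
      exact (mul_inv_eq_iff_eq_mul.mp h4).symm
    rwa [hC, mem_bot] at h3
  refine ⟨MulEquiv.ofBijective Φ ((Nat.bijective_iff_injective_and_card Φ).mpr ⟨hinj, ?_⟩)⟩
  have hd : Nat.card G ∣ Nat.card (PG (ZMod p)) := Subgroup.card_dvd_of_injective Φ hinj
  have hPG : Nat.card (PG (ZMod p)) = 2 * Nat.card ↥N := by
    rw [card_PG, ZMod.card, Nat.card_congr e.toEquiv, card_psl_two (p := p) (by omega)]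
  have hidx := N.card_mul_index
  rw [hPG, ← hidx, mul_comm 2] at hd
  rcases (Nat.dvd_prime Nat.prime_two).mp (Nat.dvd_of_mul_dvd_mul_left Nat.card_pos hd) with h | h
  · exact absurd (index_eq_one.mp h) hN
  · rw [hPG, ← hidx, h, mul_comm]

theorem solvable_of_card_dvd_two {T : Type*} [Group T] [Finite T] (h : Nat.card T ∣ 2) : Group.IsSolvable T := by
  haveI := Fact.mk Nat.prime_two
  haveI : IsCyclic T := by
    rcases (Nat.dvd_prime Nat.prime_two).mp h with h1 | h1
    · haveI : Subsingleton T := Finite.card_le_one_iff_subsingleton.mp (le_of_eq h1)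
      infer_instance
    · exact isCyclic_of_prime_card (p := 2) h1
  let _ : CommGroup T := IsCyclic.commGroup
  exact Group.isSolvable_of_comm fun a b => mul_comm a b

/-- The only nonsolvable simple normal subgroup of `PGL₂(p)`. -/
theorem simple_normal_PG (hp5 : 5 ≤ p) (X : Subgroup (PG (ZMod p))) [X.Normal] (hXs : IsSimpleGroup ↥X)
    (hXns : ¬ Group.IsSolvable ↥X) : Nonempty (↥X ≃* PSLp) := by
  obtain ⟨Θ⟩ := exists_autEquiv (p := p)
  haveI : IsSimpleGroup PSLp :=
    Matrix.ProjectiveSpecialLinearGroup.rank_two_simple (by rw [Nat.card_zmod]; omega)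
  set c : PSLp →* PG (ZMod p) := Θ.symm.toMonoidHom.comp MulAut.conj with hc
  have hcinj : Function.Injective c := Θ.symm.injective.comp ((injective_iff_map_eq_one _).mpr fun b hb => by
    rw [← Subgroup.mem_bot, ← center_PSLp hp5]
    refine Subgroup.mem_center_iff.mpr fun x => ?_
    have := DFunLike.congr_fun hb x
    rw [MulAut.conj_apply, MulAut.one_apply] at this
    exact (mul_inv_eq_iff_eq_mul.mp this).symm)
  set I := c.range with hI
  haveI : I.Normal := ⟨by
    rintro _ ⟨b, rfl⟩ g
    refine ⟨Θ g b, Θ.injective ?_⟩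
    simp only [hc, MonoidHom.comp_apply, MulEquiv.coe_toMonoidHom, map_mul, map_inv, MulEquiv.apply_symm_apply]
    exact MulEquiv.ext fun x => by simp [MulAut.conj_apply]⟩
  have hIc : Nat.card I = Nat.card PSLp := (Nat.card_congr (MonoidHom.ofInjective hcinj).toEquiv).symm
  have hidx : I.index = 2 := by
    have h1 := I.card_mul_index
    rw [card_PG, ZMod.card, ← card_psl_two (p := p) (by omega), hIc, mul_comm 2] at h1
    exact Nat.eq_of_mul_eq_mul_left Nat.card_pos h1
  haveI := hXs
  have hXI : X ≤ I := by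
    rcases (inferInstance : (I.subgroupOf X).Normal).eq_bot_or_eq_top with e | e
    · exfalso
      refine hXns ?_
      haveI : Group.IsSolvable (PG (ZMod p) ⧸ I) := solvable_of_card_dvd_two (by
        rw [← Subgroup.index_eq_card, hidx])
      refine Group.isSolvable_of_isSolvable_injective (f := (QuotientGroup.mk' I).comp X.subtype)
        ((injective_iff_map_eq_one _).mpr fun x hx => ?_)
      have h1 : x ∈ I.subgroupOf X := (QuotientGroup.eq_one_iff (x : PG (ZMod p))).mp hx
      rwa [e, mem_bot] at h1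
    · exact subgroupOf_eq_top.mp e
  let e1 : ↥I ≃* PSLp := (MonoidHom.ofInjective hcinj).symm
  haveI : IsSimpleGroup ↥I := MulEquiv.isSimpleGroup e1
  haveI : (X.subgroupOf I).Normal := inferInstance
  rcases (inferInstance : (X.subgroupOf I).Normal).eq_bot_or_eq_top with e | e
  · exfalso
    refine hXns ?_
    have hX : X = ⊥ := by
      rw [eq_bot_iff]
      intro x hx
      have h1 : (⟨x, hXI hx⟩ : I) ∈ X.subgroupOf I := hx
      rw [e, mem_bot] at h1
      exact mem_bot.mpr (congrArg Subtype.val h1)
    rw [hX]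
    infer_instance
  · have hX : X = I := le_antisymm hXI (subgroupOf_eq_top.mp e)
    exact ⟨(MulEquiv.subgroupCongr hX).trans e1⟩

end Psl

/-- The group modulo its solvable radical is `PGL₂(p)`. -/
theorem Hyp.main : ∀ (n : ℕ) (G : Type u) [Group G] [Finite G] (A B : Subgroup G), Nat.card G = n → Hyp G A B →
    ∃ (p : ℕ) (_ : Fact p.Prime), 5 ≤ p ∧ Nonempty (G ≃* PG (ZMod p)) := by
  intro n
  induction n using Nat.strong_induction_on with
  | _ n IH =>
    intro G _ _ A B hn h
    classical
    obtain ⟨N, hNn, hNs, hNns, hC, hmin⟩ := h.exists_socle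
    haveI := hNn
    haveI := hNs
    suffices hkey : ∃ (p : ℕ) (_ : Fact p.Prime), 5 ≤ p ∧ N ≠ ⊤ ∧
        Nonempty (↥N ≃* Matrix.ProjectiveSpecialLinearGroup (Fin 2) (ZMod p)) by
      obtain ⟨p, hp, hp5, hN, ⟨e⟩⟩ := hkey
      exact ⟨p, hp, hp5, exists_PG hp5 N e hC hN⟩
    by_cases hB : IsCoatom B
    · -- primitive case
      have hac := h.socle_ac hB hNns
      obtain ⟨p, hp, hp5, he⟩ := simple_psl hac hNns fun H _ hH => str_main (hac.subgroup H) hH
      refine ⟨p, hp, hp5, fun htop => ?_, he⟩
      -- a generator of the cyclic factor is an odd permutation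
      haveI : IsSimpleGroup G := by
        subst htop
        exact MulEquiv.isSimpleGroup (Subgroup.topEquiv (G := G)).symm
      haveI := Fintype.ofFinite (G ⧸ B)
      set σ := Equiv.Perm.sign.comp (MulAction.toPermHom G (G ⧸ B)) with hσ
      have hσ1 : ∀ g, σ g = 1 := by
        rcases (inferInstance : σ.ker.Normal).eq_bot_or_eq_top with e | e
        · exfalso
          exact h.hns (Group.isSolvable_of_isSolvable_injective (f := σ) ((MonoidHom.ker_eq_bot_iff _).mp e))
        · exact fun g => MonoidHom.mem_ker.mp (e ▸ mem_top g)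
      haveI := h.hA
      obtain ⟨⟨a, ha⟩, hgen⟩ := IsCyclic.exists_generator (α := A)
      set π := MulAction.toPerm (α := G) (β := G ⧸ B) a with hπ
      have hfree : ∀ (c : G), c ∈ A → ∀ ω : G ⧸ B, c • ω = ω → c = 1 := by
        intro c hc ω hω
        induction ω using QuotientGroup.induction_on with
        | H k =>
          refine h.not_conj hc (g := k⁻¹) ?_
          have h1 : ((c * k : G) : G ⧸ B) = (k : G ⧸ B) := hω
          rw [QuotientGroup.eq, mul_inv_rev] at h1
          have := inv_mem h1
          simpa [mul_assoc] using this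
      have htrans : ∀ ω : G ⧸ B, ∃ i : ℤ, a ^ i • ((1 : G) : G ⧸ B) = ω := by
        intro ω
        induction ω using QuotientGroup.induction_on with
        | H k =>
          obtain ⟨c, hc, b, hb, rfl⟩ := h.hAB k
          obtain ⟨i, hi⟩ := mem_zpowers_iff.mp (hgen ⟨c, hc⟩)
          refine ⟨i, ?_⟩
          rw [show a ^ i = c from congrArg Subtype.val hi]
          show ((c * 1 : G) : G ⧸ B) = ((c * b : G) : G ⧸ B)
          rw [mul_one, QuotientGroup.eq, inv_mul_cancel_left]
          exact hb
      have hne : ∀ ω : G ⧸ B, π ω ≠ ω := by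
        intro ω hω
        have ha1 : a = 1 := hfree a ha ω hω
        have h2 := h.two_dvd_A
        have hA1 : Nat.card A = 1 := by
          rw [← orderOf_eq_card_of_forall_mem_zpowers hgen, orderOf_mk, ha1, orderOf_one]
        rw [hA1] at h2
        norm_num at h2
      have hpow : ∀ (i : ℤ) (ω : G ⧸ B), (π ^ i) ω = a ^ i • ω := by
        intro i ω
        have : π ^ i = MulAction.toPermHom G (G ⧸ B) (a ^ i) := by rw [map_zpow]; rfl
        rw [this]
        rfl
      have hcyc : π.IsCycle := by
        refine ⟨((1 : G) : G ⧸ B), hne _, fun ω _ => ?_⟩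
        obtain ⟨i, hi⟩ := htrans ω
        exact ⟨i, by rw [hpow, hi]⟩
      have hsupp : π.support = Finset.univ := Finset.eq_univ_of_forall fun ω => Equiv.Perm.mem_support.mpr (hne ω)
      have hcard : Nat.card (G ⧸ B) = Nat.card A := by
        have h1 := B.card_mul_index
        rw [h.card_eq, mul_comm (Nat.card A), Subgroup.index] at h1
        exact Nat.eq_of_mul_eq_mul_left Nat.card_pos h1
      have hsign : Equiv.Perm.sign π = 1 := hσ1 a
      rw [hcyc.sign, hsupp, Finset.card_univ, ← Nat.card_eq_fintype_card, hcard,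
        (even_iff_two_dvd.mpr h.two_dvd_A).neg_one_pow] at hsign
      exact absurd hsign (by decide)
    · -- an intermediate subgroup
      obtain ⟨M, hBM, hM⟩ : ∃ M : Subgroup G, B < M ∧ M ≠ ⊤ := by
        by_contra hc
        push Not at hc
        exact hB ⟨h.ne_top, fun M hM => hc M hM⟩
      have hfacM : ∀ m ∈ M, ∃ c ∈ A ⊓ M, ∃ b ∈ B, m = c * b := by
        intro m hm
        obtain ⟨c, hc, b, hb, e⟩ := h.hAB m
        refine ⟨c, mem_inf.mpr ⟨hc, ?_⟩, b, hb, e⟩
        have := mul_mem hm (inv_mem (hBM.le hb))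
        rwa [e, mul_inv_cancel_right] at this
      have hNM : N ≤ M := by
        obtain ⟨m, hmM, hmB⟩ := SetLike.exists_of_lt hBM
        obtain ⟨c, hc, b, hb, e⟩ := hfacM m hmM
        obtain ⟨hcA, hcM⟩ := mem_inf.mp hc
        have hc1 : c ≠ 1 := fun e1 => hmB (by rw [e, e1, one_mul]; exact hb)
        refine (hmin (normalClosure {c}) inferInstance fun e1 => hc1 ?_).trans ?_
        · exact mem_bot.mp (e1 ▸ subset_normalClosure rfl)
        · refine (closure_le _).mpr ?_
          intro w hw
          obtain ⟨c', hc', hcw⟩ := Group.mem_conjugatesOfSet_iff.mp hw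
          rw [Set.mem_singleton_iff] at hc'
          subst hc'
          obtain ⟨g, rfl⟩ := isConj_iff.mp hcw
          obtain ⟨a1, ha1, b1, hb1, e2⟩ := h.hAB g⁻¹
          have hg' : g = b1⁻¹ * a1⁻¹ := by rw [← mul_inv_rev, ← e2, inv_inv]
          rw [SetLike.mem_coe, hg', mul_inv_rev, inv_inv, inv_inv,
            show b1⁻¹ * a1⁻¹ * c' * (a1 * b1) = b1⁻¹ * (a1⁻¹ * (c' * a1)) * b1 by group, h.commA hcA ha1,
            inv_mul_cancel_left]
          exact mul_mem (mul_mem (inv_mem (hBM.le hb1)) hcM) (hBM.le hb1)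
      have hMns : ¬ Group.IsSolvable ↥M := fun hs => hNns (isSolvable_of_le hs hNM)
      haveI := h.hA
      haveI := h.isZGroup
      haveI : IsCyclic ↥(A.subgroupOf M) :=
        isCyclic_of_injective (f := ((M.subtype.comp (A.subgroupOf M).subtype).codRestrict A fun w => w.2))
          fun w w' e => Subtype.ext (Subtype.ext (congrArg (fun z : A => (z : G)) e))
      haveI : IsZGroup ↥(B.subgroupOf M) :=
        IsZGroup.of_injective (f := ((M.subtype.comp (B.subgroupOf M).subtype).codRestrict B fun w => w.2))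
          fun w w' e => Subtype.ext (Subtype.ext (congrArg (fun z : B => (z : G)) e))
      have hRs : Group.IsSolvable ↥(CfsgLib.solvableRadical ↥M) := CfsgLib.isSolvable_solvableRadical
      have hq := quotient_hyp hMns (A.subgroupOf M) (B.subgroupOf M) inferInstance (fun q _ Q => inferInstance)
        (fun m => by
          obtain ⟨c, hc, b, hb, e⟩ := hfacM m m.2
          exact ⟨⟨c, (mem_inf.mp hc).2⟩, (mem_inf.mp hc).1, ⟨b, hBM.le hb⟩, hb, Subtype.ext e⟩)
        (CfsgLib.solvableRadical ↥M) hRs (fun K hK hs => @CfsgLib.le_solvableRadical _ _ K hK hs)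
      have hlt : Nat.card (↥M ⧸ CfsgLib.solvableRadical ↥M) < n := by
        refine lt_of_le_of_lt (Nat.le_of_dvd Nat.card_pos (Subgroup.card_quotient_dvd_card _)) ?_
        rw [← hn]
        refine lt_of_le_of_ne (Subgroup.card_le_card_group M) fun e => hM (Subgroup.eq_top_of_card_eq M e)
      obtain ⟨p, hp, hp5, ⟨e⟩⟩ := IH _ hlt _ _ _ rfl hq
      refine ⟨p, hp, hp5, fun htop => hM (eq_top_iff.mpr (htop ▸ hNM)), ?_⟩
      let ψ : ↥M →* PG (ZMod p) := e.toMonoidHom.comp (QuotientGroup.mk' (CfsgLib.solvableRadical ↥M))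
      have hψ : Function.Surjective ψ := e.surjective.comp (QuotientGroup.mk'_surjective _)
      let χ : ↥N →* PG (ZMod p) := ψ.comp (inclusion hNM)
      have hχ : Function.Injective χ := by
        rcases (inferInstance : χ.ker.Normal).eq_bot_or_eq_top with e1 | e1
        · exact (MonoidHom.ker_eq_bot_iff _).mp e1
        · exfalso
          refine hNns ?_
          have hle : N.subgroupOf M ≤ CfsgLib.solvableRadical ↥M := by
            intro w hw
            have h1 : (⟨(w : G), hw⟩ : N) ∈ χ.ker := e1 ▸ mem_top _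
            have h2 : ψ w = 1 := MonoidHom.mem_ker.mp h1
            exact (QuotientGroup.eq_one_iff w).mp (e.injective (h2.trans (map_one e).symm))
          haveI := isSolvable_of_le hRs hle
          exact Group.isSolvable_of_surjective (f := (subgroupOfEquivOfLe hNM).toMonoidHom) (MulEquiv.surjective _)
      have hXeq : χ.range = (N.subgroupOf M).map ψ := by
        ext z
        constructor
        · rintro ⟨w, rfl⟩
          exact ⟨inclusion hNM w, w.2, rfl⟩
        · rintro ⟨w, hw, rfl⟩
          exact ⟨⟨(w : G), hw⟩, rfl⟩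
      haveI : χ.range.Normal := by
        rw [hXeq]
        exact (inferInstance : (N.subgroupOf M).Normal).map ψ hψ
      let e2 : ↥N ≃* ↥χ.range := MonoidHom.ofInjective hχ
      haveI : IsSimpleGroup ↥χ.range := MulEquiv.isSimpleGroup e2.symm
      obtain ⟨e3⟩ := simple_normal_PG hp5 χ.range inferInstance fun hs => hNns (by
        haveI := hs
        exact Group.isSolvable_of_isSolvable_injective (f := e2.toMonoidHom) e2.injective)
      exact ⟨e2.trans e3⟩

end CfsgLib.BicyclicFactor
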