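import Cfsg.Agent.Lib.TransferApps
import Cfsg.Agent.S5076
import Cfsg.Agent.S5234
import Cfsg.Agent.S1447

/-!
# A perfect group whose Sylow subgroup for an odd prime is metacyclic
-/

set_option autoImplicit false
set_option linter.unusedSectionVars false
set_option linter.unusedVariables false
set_option linter.style.haveILetI false
set_option maxHeartbeats 400000

namespace CfsgLib.BicyclicFactor

open Subgroup
open scoped commutatorElement

universe u

variable {N : Type u} [Group N] [Finite N] {q : ℕ} [hq : Fact q.Prime]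

/-- The normaliser of a metacyclic Sylow subgroup of odd order controls fusion in it. -/
theorem metacyclic_control (hq2 : q ≠ 2) (S : Sylow q N) (hm : Cfsg.IsMetacyclic ↥(S : Subgroup N)) :
    ∀ x ∈ (S : Subgroup N), ∀ g : N, g * x * g⁻¹ ∈ (S : Subgroup N) →
      ∃ n ∈ Subgroup.normalizer ((S : Subgroup N) : Set N), n * x * n⁻¹ = g * x * g⁻¹ := by
  set F := Cfsg.groupFusionSystem (S : Subgroup N) with hF
  have hsc : F.StronglyClosed (S : Subgroup N) := ⟨le_rfl, fun R hR φ hφ x => hφ.2.1 x⟩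
  obtain ⟨-, hn⟩ := Cfsg.Agent.S5234.result q S.2 F (Cfsg.Agent.S5076.result q S) _ hsc hq2 hm
  intro x hx g hg
  have hle : zpowers x ≤ (S : Subgroup N) := zpowers_le.mpr hx
  obtain ⟨ψ, ⟨-, -, n, hn'⟩, hψx, hψS⟩ := hn (zpowers x) (Cfsg.conjHom (zpowers x) g) ⟨hle, fun w => by
    obtain ⟨i, hi⟩ := mem_zpowers_iff.mp w.2
    show g * (w : N) * g⁻¹ ∈ (S : Subgroup N)
    rw [← hi, ← conj_zpow]
    exact zpow_mem hg i, g, fun w => rfl⟩
  refine ⟨n, ?_, ?_⟩
  · have hmem : ∀ w ∈ (S : Subgroup N), n * w * n⁻¹ ∈ (S : Subgroup N) := by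
      intro w hw
      have h1 : ψ ⟨w, mem_sup_right hw⟩ ∈ ((S : Subgroup N).subgroupOf (zpowers x ⊔ S)).map ψ :=
        mem_map_of_mem ψ hw
      rw [hψS, hn'] at h1
      exact h1
    have e : (S : Subgroup N).map (MulAut.conj n).toMonoidHom = S :=
      Subgroup.eq_of_le_of_card_ge (by rintro _ ⟨w, hw, rfl⟩; exact hmem w hw)
        (le_of_eq (Subgroup.card_map_of_injective (MulEquiv.injective (MulAut.conj n))).symm)
    refine Subgroup.mem_normalizer_iff.mpr fun w => ⟨hmem w, fun hw => ?_⟩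
    rw [← e] at hw
    obtain ⟨v, hv, e2⟩ := hw
    exact ((MulAut.conj n).injective e2) ▸ hv
  · have := hψx ⟨x, mem_zpowers x⟩
    rw [hn'] at this
    exact this

/-- A perfect group cannot have such a Sylow subgroup when its normaliser fixes a point. -/
theorem no_perfect (hperf : commutator N = ⊤) (hq2 : q ≠ 2) (S : Sylow q N) (hS : (S : Subgroup N) ≠ ⊥)
    (hm : Cfsg.IsMetacyclic ↥(S : Subgroup N))
    (hab : IsMulCommutative ↥(S : Subgroup N) → ∀ K : Subgroup N,
      K ≤ Subgroup.normalizer ((S : Subgroup N) : Set N) → (Nat.card K).Coprime q →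
      ∃ e ∈ (S : Subgroup N), e ≠ 1 ∧ ∀ k ∈ K, Commute k e) : False := by
  classical
  set S' : Subgroup N := (S : Subgroup N) with hS'
  set R := Subgroup.normalizer (S' : Set N) with hR
  have hSR : S' ≤ R := le_normalizer
  have hfocal : S' ≤ ⁅S', R⁆ := by
    refine le_trans ?_ (CfsgLib.TransferApps.focalSubgroup_le_of_control S' R ⁅S', R⁆ (metacyclic_control hq2 S hm)
      fun x hx n hn _ => commutator_mem_commutator hx hn)
    rw [hS', ← Subgroup.commutator_inf_eq_focalSubgroup S, hperf, top_inf_eq]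
  -- a complement in the normaliser
  haveI : (S'.subgroupOf R).Normal := inferInstance
  have hcop : (Nat.card ↥(S'.subgroupOf R)).Coprime (S'.subgroupOf R).index := by
    rw [Nat.card_congr (Subgroup.subgroupOfEquivOfLe hSR).toEquiv]
    obtain ⟨k, hk⟩ := S.2.exists_card_eq
    rw [hk]
    refine Nat.Coprime.pow_left _ (hq.out.coprime_iff_not_dvd.mpr fun hd => ?_)
    exact S.not_dvd_index (hd.trans (relIndex_dvd_index_of_le hSR))
  obtain ⟨K0, hK0⟩ := exists_right_complement'_of_coprime hcop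
  set K := K0.map R.subtype with hKdef
  have hKR : K ≤ R := map_subtype_le _
  have hKcop : (Nat.card K).Coprime q := by
    rw [hKdef, Subgroup.card_map_of_injective R.subtype_injective, ← hK0.symm.index_eq_card, Nat.coprime_comm,
      hq.out.coprime_iff_not_dvd]
    exact fun hd => S.not_dvd_index (hd.trans (relIndex_dvd_index_of_le hSR))
  have hCnorm : ∀ s ∈ S', ∀ u ∈ ⁅S', K⁆, s * u * s⁻¹ ∈ ⁅S', K⁆ := by
    intro s hs u hu
    have hle : ⁅S', K⁆ ≤ (⁅S', K⁆).comap (MulAut.conj s).toMonoidHom := by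
      rw [commutator_le]
      intro a ha k hk
      show s * ⁅a, k⁆ * s⁻¹ ∈ ⁅S', K⁆
      have := mul_mem (commutator_mem_commutator (mul_mem hs ha) hk)
        (inv_mem (commutator_mem_commutator hs hk))
      convert this using 1
      simp only [commutatorElement_def]
      group
    exact hle hu
  have hDnorm : ∀ s ∈ S', ∀ u ∈ ⁅S', S'⁆, s * u * s⁻¹ ∈ ⁅S', S'⁆ := by
    intro s hs u hu
    have hle : ⁅S', S'⁆ ≤ (⁅S', S'⁆).comap (MulAut.conj s).toMonoidHom := by
      rw [commutator_le]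
      intro a ha k hk
      show s * ⁅a, k⁆ * s⁻¹ ∈ ⁅S', S'⁆
      have := mul_mem (commutator_mem_commutator (mul_mem hs ha) hk)
        (inv_mem (commutator_mem_commutator hs hk))
      convert this using 1
      simp only [commutatorElement_def]
      group
    exact hle hu
  have hgen : ⁅S', R⁆ ≤ ⁅S', S'⁆ ⊔ ⁅S', K⁆ := by
    rw [commutator_le]
    intro s hs r hr
    have h1 : (⟨r, hr⟩ : R) ∈ S'.subgroupOf R ⊔ K0 := hK0.sup_eq_top ▸ mem_top _
    rw [← SetLike.mem_coe, Subgroup.normal_mul] at h1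
    obtain ⟨s1, hs1, k1, hk1, e⟩ := h1
    have e' : r = (s1 : N) * k1 := (congrArg Subtype.val e).symm
    rw [e', show ⁅s, (s1 : N) * k1⁆ = ⁅s, (s1 : N)⁆ * ((s1 : N) * ⁅s, (k1 : N)⁆ * (s1 : N)⁻¹) by
      simp only [commutatorElement_def]; group]
    exact mul_mem (mem_sup_left (commutator_mem_commutator hs hs1))
      (mem_sup_right (hCnorm _ hs1 _ (commutator_mem_commutator hs (mem_map_of_mem _ hk1))))
  have hSK : K ≤ Subgroup.normalizer (S' : Set N) := hKR
  obtain ⟨-, hsup, hinf, hnon⟩ := Cfsg.Agent.S1447.result q hq2 S' K S.2 hm hSK hKcop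
  have hproper : ∀ C : Subgroup N, C ≤ S' → C ≠ ⊥ → C ≤ centralizer (K : Set N) → ¬ S' ≤ ⁅S', K⁆ := by
    intro C hCS hC hCK hle
    refine hC (eq_bot_iff.mpr fun c hc => ?_)
    rw [← hinf]
    exact ⟨hle (hCS hc), hCS hc, hCK hc⟩
  have hderived : ¬ S' ≤ ⁅S', S'⁆ := by
    intro hle
    haveI : Nontrivial ↥S' := (nontrivial_iff_ne_bot _).mpr hS
    haveI : Group.IsNilpotent ↥S' := S.2.isNilpotent
    have hlt := Group.IsSolvable.commutator_lt_top_of_nontrivial ↥S'
    refine hlt.ne (Subgroup.map_injective S'.subtype_injective ?_)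
    rw [map_subtype_commutator, ← MonoidHom.range_eq_map, range_subtype]
    exact le_antisymm (commutator_le_self S') hle
  have hS_le := hfocal.trans hgen
  by_cases hc : IsMulCommutative ↥S'
  · have hbot : ⁅S', S'⁆ = ⊥ := by
      rw [eq_bot_iff, commutator_le]
      intro a ha b hb
      rw [mem_bot, commutatorElement_eq_one_iff_mul_comm]
      exact congrArg Subtype.val (hc.is_comm.comm (⟨a, ha⟩ : S') ⟨b, hb⟩)
    rw [hbot, bot_sup_eq] at hS_le
    obtain ⟨e, he, he1, hek⟩ := hab hc K hKR hKcop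
    refine hproper (zpowers e) (zpowers_le.mpr he) (zpowers_ne_bot.mpr he1) (zpowers_le.mpr ?_) hS_le
    exact fun k hk => (hek k hk).eq
  · by_cases hK : K ≤ centralizer (S' : Set N)
    · have hbot : ⁅S', K⁆ = ⊥ := by
        rw [commutator_comm, commutator_eq_bot_iff_le_centralizer]
        exact hK
      rw [hbot, sup_bot_eq] at hS_le
      exact hderived hS_le
    · obtain ⟨-, -, hC, -, hle⟩ := hnon hc hK
      exact hproper _ inf_le_left hC inf_le_right (hS_le.trans (sup_le hle le_rfl))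

end CfsgLib.BicyclicFactor
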