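import Cfsg.Agent.Lib.BicyclicFactor.Base

/-!
# The layers of a product of two cyclic `p`-groups
-/

set_option autoImplicit false
set_option linter.unusedSectionVars false
set_option linter.unusedVariables false
set_option linter.style.haveILetI false

namespace CfsgLib.BicyclicFactor

open Subgroup
open scoped commutatorElement

universe u

variable {P : Type u} [Group P] [Finite P] {p : ℕ} [hp : Fact p.Prime] {a b : P}

/-- Centrality of a layer from two commutators. -/
theorem Fac.comm_Q_of_gens (h : Fac p P a b) {i : ℕ} (h1 : ⁅b, a ^ p ^ i⁆ ∈ Q p a b (i + 1))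
    (h2 : ⁅a, b ^ p ^ i⁆ ∈ Q p a b (i + 1)) :
    ∀ g : P, ∀ x ∈ Q p a b i, ⁅g, x⁆ ∈ Q p a b (i + 1) := by
  haveI := h.normal_Q (i + 1)
  let π := QuotientGroup.mk' (Q p a b (i + 1))
  have hker : ∀ {y z : P}, ⁅y, z⁆ ∈ Q p a b (i + 1) ↔ Commute (π y) (π z) := fun {y z} => by
    rw [← commutatorElement_eq_one_iff_commute, ← map_commutatorElement]
    exact (QuotientGroup.eq_one_iff _).symm
  have ha : Commute (π a) (π (a ^ p ^ i)) := ((Commute.refl a).pow_right _).map π
  have hb : Commute (π b) (π (b ^ p ^ i)) := ((Commute.refl b).pow_right _).map π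
  have h1' := hker.mp h1
  have h2' := hker.mp h2
  intro g x hx
  rw [hker]
  obtain ⟨u, hu, v, hv, rfl⟩ := h.mem_Q.mp hx
  obtain ⟨k, rfl⟩ := mem_zpowers_iff.mp hu
  obtain ⟨l, rfl⟩ := mem_zpowers_iff.mp hv
  obtain ⟨c, hc, d, hd, rfl⟩ := h.prod g
  obtain ⟨m, rfl⟩ := mem_zpowers_iff.mp hc
  obtain ⟨n, rfl⟩ := mem_zpowers_iff.mp hd
  simp only [map_mul, map_zpow]
  exact ((ha.zpow_zpow m k).mul_right (h2'.zpow_zpow m l)).mul_left
    ((h1'.zpow_zpow n k).mul_right (hb.zpow_zpow n l))

/-- The `p`-th power of an element shifted by a central layer element. -/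
theorem conj_pow_eq {L : Type*} [Group L] {x y : L} (hc : Commute ⁅x, y⁆ y) (hcp : ⁅x, y⁆ ^ p = 1) :
    Commute x (y ^ p) := by
  have h1 : x * y * x⁻¹ = ⁅x, y⁆ * y := by rw [commutatorElement_def, inv_mul_cancel_right]
  have h2 : x * y ^ p * x⁻¹ = y ^ p := by rw [← conj_pow, h1, hc.mul_pow, hcp, one_mul]
  exact mul_inv_eq_iff_eq_mul.mp h2

/-- Every layer is central in the group. -/
theorem Fac.comm_Q (h : Fac p P a b) : ∀ (i : ℕ) (g : P), ∀ x ∈ Q p a b i, ⁅g, x⁆ ∈ Q p a b (i + 1) := by
  intro i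
  induction i with
  | zero =>
    intro g x _
    have h1 : ⁅g, x⁆ ∈ frattini P := CfsgLib.commutator_le_frattini_pGroup h.pgroup
      (Subgroup.commutator_mem_commutator (mem_top g) (mem_top x))
    obtain ⟨u, hu, v, hv, e⟩ := (h.mem_frattini _).mp h1
    rw [h.mem_Q]
    exact ⟨u, by simpa using hu, v, by simpa using hv, e⟩
  | succ i ih =>
    haveI := h.normal_Q (i + 2)
    haveI := h.normal_Q (i + 1)
    let π := QuotientGroup.mk' (Q p a b (i + 2))
    have hker : ∀ {y z : P}, ⁅y, z⁆ ∈ Q p a b (i + 2) ↔ Commute (π y) (π z) := fun {y z} => by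
      rw [← commutatorElement_eq_one_iff_commute, ← map_commutatorElement]
      exact (QuotientGroup.eq_one_iff _).symm
    have hP' : IsPGroup p (P ⧸ Q p a b (i + 2)) := h.pgroup.to_quotient _
    haveI : Group.IsNilpotent (P ⧸ Q p a b (i + 2)) := hP'.isNilpotent
    let V := (Q p a b (i + 1)).map π
    haveI hVn : V.Normal := (inferInstance : (Q p a b (i + 1)).Normal).map π (QuotientGroup.mk'_surjective _)
    have hexp : π (a ^ p ^ (i + 1)) ^ p = 1 ∧ π (b ^ p ^ (i + 1)) ^ p = 1 := by
      constructor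
      · rw [← map_pow, ← pow_mul, ← pow_succ]; exact (QuotientGroup.eq_one_iff _).mpr (left_mem_Q a b (i + 2))
      · rw [← map_pow, ← pow_mul, ← pow_succ]; exact (QuotientGroup.eq_one_iff _).mpr (right_mem_Q a b (i + 2))
    set A := π a with hA
    set B := π b with hB
    set A' := π (a ^ p ^ (i + 1)) with hA'
    set B' := π (b ^ p ^ (i + 1)) with hB'
    have hAA : Commute A A' := ((Commute.refl a).pow_right _).map π
    have hBB : Commute B B' := ((Commute.refl b).pow_right _).map π
    -- a central element in the layer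
    have hsplit : Commute A B' ∨ Commute B A' := by
      by_cases hV : V = ⊥
      · left
        have hb : B' ∈ V := mem_map_of_mem π (right_mem_Q a b (i + 1))
        rw [hV, mem_bot] at hb
        rw [hb]; exact Commute.one_right _
      obtain ⟨z, hz, hz1⟩ :=
        (bot_or_exists_ne_one _).resolve_left (CfsgLib.inf_center_ne_bot_of_nilpotent hV)
      obtain ⟨hzV, hzc⟩ := mem_inf.mp hz
      obtain ⟨w, hw, rfl⟩ := mem_map.mp hzV
      obtain ⟨u, hu, v, hv, rfl⟩ := h.mem_Q.mp hw
      obtain ⟨k, rfl⟩ := mem_zpowers_iff.mp hu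
      obtain ⟨l, rfl⟩ := mem_zpowers_iff.mp hv
      rw [map_mul, map_zpow, map_zpow] at hz1 hzc
      by_cases hl : B' ^ l = 1
      · -- then a power of `A'` is central and nontrivial
        right
        rw [hl, mul_one] at hz1 hzc
        have hgen : A' ∈ zpowers (A' ^ k) :=
          CfsgLib.Metacyclic.mem_zpowers_swap hexp.1 (zpow_mem (mem_zpowers A') k) hz1
        obtain ⟨m, hm⟩ := mem_zpowers_iff.mp hgen
        rw [← hm]
        exact ((show Commute B (A' ^ k) from Subgroup.mem_center_iff.mp hzc B)).zpow_right m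
      · left
        have h1 : Commute A (A' ^ k * B' ^ l) := Subgroup.mem_center_iff.mp hzc A
        have h2 : Commute A (B' ^ l) := by
          have := ((hAA.zpow_right k).inv_right).mul_right h1
          rwa [← mul_assoc, inv_mul_cancel, one_mul] at this
        obtain ⟨m, hm⟩ := mem_zpowers_iff.mp
          (CfsgLib.Metacyclic.mem_zpowers_swap hexp.2 (zpow_mem (mem_zpowers B') l) hl)
        rw [← hm]
        exact h2.zpow_right m
    -- the layer is generated by the two images
    have hlayer : ∀ {c : P}, c ∈ Q p a b (i + 1) → ∃ k l : ℤ, π c = A' ^ k * B' ^ l := by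
      intro c hc
      obtain ⟨u, hu, v, hv, rfl⟩ := h.mem_Q.mp hc
      obtain ⟨k, rfl⟩ := mem_zpowers_iff.mp hu
      obtain ⟨l, rfl⟩ := mem_zpowers_iff.mp hv
      exact ⟨k, l, by rw [map_mul, map_zpow, map_zpow]⟩
    have hA'B' : Commute A' B' := by
      rcases hsplit with h' | h'
      · rw [hA', map_pow]; exact h'.pow_left _
      · rw [hB', map_pow]; exact (h'.pow_left _).symm
    have hcp : ∀ {c : P}, c ∈ Q p a b (i + 1) → π c ^ p = 1 := by
      intro c hc
      obtain ⟨k, l, e⟩ := hlayer hc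
      rw [e, (hA'B'.zpow_zpow k l).mul_pow, ← zpow_natCast, ← zpow_natCast, ← zpow_mul, ← zpow_mul, mul_comm k,
        mul_comm l, zpow_mul, zpow_mul, zpow_natCast, zpow_natCast, hexp.1, hexp.2, one_zpow, one_zpow, one_mul]
    have hroot : ∀ {x y : P}, ⁅x, y⁆ ∈ Q p a b (i + 1) → Commute (π ⁅x, y⁆) (π y) → Commute (π x) (π (y ^ p)) := by
      intro x y hxy hc
      rw [map_pow]
      refine conj_pow_eq (p := p) ?_ ?_
      · rwa [← map_commutatorElement]
      · rw [← map_commutatorElement]; exact hcp hxy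
    have hboth : Commute A B' ∧ Commute B A' := by
      rcases hsplit with h' | h'
      · refine ⟨h', ?_⟩
        have hc : Commute (π ⁅b, a ^ p ^ i⁆) (π (a ^ p ^ i)) := by
          obtain ⟨k, l, e⟩ := hlayer (ih b _ (left_mem_Q a b i))
          rw [e, map_pow]
          exact ((hAA.symm.zpow_left k).mul_left (h'.symm.zpow_left l)).pow_right _
        have := hroot (ih b _ (left_mem_Q a b i)) hc
        rwa [← pow_mul, ← pow_succ] at this
      · refine ⟨?_, h'⟩
        have hc : Commute (π ⁅a, b ^ p ^ i⁆) (π (b ^ p ^ i)) := by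
          obtain ⟨k, l, e⟩ := hlayer (ih a _ (right_mem_Q a b i))
          rw [e, map_pow]
          exact ((h'.symm.zpow_left k).mul_left (hBB.symm.zpow_left l)).pow_right _
        have := hroot (ih a _ (right_mem_Q a b i)) hc
        rwa [← pow_mul, ← pow_succ] at this
    exact h.comm_Q_of_gens (hker.mpr hboth.2) (hker.mpr hboth.1)

theorem Fac.pow_mem_Q (h : Fac p P a b) {i : ℕ} {x : P} (hx : x ∈ Q p a b i) : x ^ p ∈ Q p a b (i + 1) := by
  haveI := h.normal_Q (i + 1)
  let π := QuotientGroup.mk' (Q p a b (i + 1))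
  obtain ⟨u, hu, v, hv, rfl⟩ := h.mem_Q.mp hx
  have hc : Commute (π u) (π v) := by
    rw [← commutatorElement_eq_one_iff_commute, ← map_commutatorElement]
    exact (QuotientGroup.eq_one_iff _).mpr (h.comm_Q i u v (zpowers_le_Q_right a b i hv))
  obtain ⟨k, rfl⟩ := mem_zpowers_iff.mp hu
  obtain ⟨l, rfl⟩ := mem_zpowers_iff.mp hv
  refine (QuotientGroup.eq_one_iff _).mp (?_ : π _ = 1)
  rw [map_pow, map_mul, hc.mul_pow, ← map_pow, ← map_pow, ← map_mul]
  refine (QuotientGroup.eq_one_iff _).mpr (mul_mem ?_ ?_)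
  · rw [← zpow_natCast, ← zpow_mul, mul_comm, zpow_mul, zpow_natCast, ← pow_mul, ← pow_succ]
    exact zpow_mem (left_mem_Q a b (i + 1)) k
  · rw [← zpow_natCast, ← zpow_mul, mul_comm, zpow_mul, zpow_natCast, ← pow_mul, ← pow_succ]
    exact zpow_mem (right_mem_Q a b (i + 1)) l

/-- The product of a `p`-th power formula in a group where the commutator is central of exponent `p`. -/
theorem mul_pow_central {L : Type*} [Group L] {x y : L} (hx : Commute ⁅y, x⁆ x) (hy : Commute ⁅y, x⁆ y) (n : ℕ) :
    (x * y) ^ n = x ^ n * y ^ n * ⁅y, x⁆ ^ (n.choose 2) := by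
  set c := ⁅y, x⁆ with hc
  have hsw : ∀ m : ℕ, y ^ m * x = x * y ^ m * c ^ m := by
    intro m
    induction m with
    | zero => simp
    | succ m ih =>
      have h0 : y * x = c * x * y := by rw [hc, commutatorElement_def]; group
      calc y ^ (m + 1) * x = y ^ m * (y * x) := by rw [pow_succ, mul_assoc]
        _ = y ^ m * c * x * y := by rw [h0]; simp [mul_assoc]
        _ = c * (y ^ m * x) * y := by rw [(hy.pow_right m).symm.eq]; simp [mul_assoc]
        _ = c * (x * y ^ m * c ^ m) * y := by rw [ih]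
        _ = x * y ^ m * c ^ (m + 1) * y := by
            rw [show c * (x * y ^ m * c ^ m) = x * y ^ m * (c * c ^ m) by
              rw [← mul_assoc, (((hx.mul_right (hy.pow_right m)))).eq, mul_assoc], ← pow_succ']
        _ = x * y ^ (m + 1) * c ^ (m + 1) := by
            rw [mul_assoc, (hy.pow_left (m + 1)).eq, ← mul_assoc, mul_assoc x, ← pow_succ]
  induction n with
  | zero => simp
  | succ n ih =>
    calc (x * y) ^ (n + 1) = x ^ n * y ^ n * c ^ n.choose 2 * (x * y) := by rw [pow_succ, ih]
      _ = x ^ n * (y ^ n * x) * y * c ^ n.choose 2 := by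
          rw [mul_assoc (x ^ n * y ^ n), ((hx.mul_right hy).pow_left _).eq]
          simp [mul_assoc]
      _ = x ^ n * (x * y ^ n * c ^ n) * y * c ^ n.choose 2 := by rw [hsw]
      _ = x ^ (n + 1) * (y ^ (n + 1)) * (c ^ n * c ^ n.choose 2) := by
          simp only [mul_assoc, pow_succ]
          rw [← mul_assoc (c ^ n) y, (hy.pow_left n).eq, mul_assoc]
      _ = x ^ (n + 1) * y ^ (n + 1) * c ^ (n + 1).choose 2 := by
          rw [← pow_add, Nat.choose_succ_succ n 1, Nat.choose_one_right]

/-- `p`-th powers are multiplicative between layers. -/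
theorem Fac.mul_pow_mem (h : Fac p P a b) {i : ℕ} {x y : P} (hx : x ∈ Q p a b i)
    (hy : p ≠ 2 ∨ y ∈ Q p a b 1) :
    (x ^ p * y ^ p)⁻¹ * (x * y) ^ p ∈ Q p a b (i + 2) := by
  haveI := h.normal_Q (i + 2)
  let π := QuotientGroup.mk' (Q p a b (i + 2))
  have hcQ : ⁅y, x⁆ ∈ Q p a b (i + 1) := h.comm_Q i y x hx
  have hcent : ∀ z : P, Commute (π ⁅y, x⁆) (π z) := by
    intro z
    refine Commute.symm ?_
    rw [← commutatorElement_eq_one_iff_commute, ← map_commutatorElement]
    exact (QuotientGroup.eq_one_iff _).mpr (h.comm_Q (i + 1) z _ hcQ)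
  have hcp : π ⁅y, x⁆ ^ p = 1 := by
    rw [← map_pow]; exact (QuotientGroup.eq_one_iff _).mpr (h.pow_mem_Q hcQ)
  have key : π ⁅y, x⁆ ^ p.choose 2 = 1 := by
    by_cases h2 : p = 2
    · have hy1 := hy.resolve_left (not_not.mpr h2)
      have h1 : π ⁅y, x⁆ = 1 := by
        obtain ⟨u, hu, v, hv, rfl⟩ := h.mem_Q.mp hy1
        obtain ⟨k, rfl⟩ := mem_zpowers_iff.mp hu
        obtain ⟨l, rfl⟩ := mem_zpowers_iff.mp hv
        rw [map_commutatorElement, commutatorElement_eq_one_iff_commute, map_mul, map_zpow, map_zpow, pow_one]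
        have hg : ∀ g : P, Commute (π (g ^ p)) (π x) := by
          intro g
          refine Commute.symm ?_
          have hc1 : ⁅x, g⁆ ∈ Q p a b (i + 1) := by
            rw [← commutatorElement_inv]; exact inv_mem (h.comm_Q i g x hx)
          have hc2 : ∀ z : P, Commute (π ⁅x, g⁆) (π z) := by
            intro z
            refine Commute.symm ?_
            rw [← commutatorElement_eq_one_iff_commute, ← map_commutatorElement]
            exact (QuotientGroup.eq_one_iff _).mpr (h.comm_Q (i + 1) z _ hc1)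
          rw [map_pow]
          refine conj_pow_eq (p := p) ?_ ?_
          · rw [← map_commutatorElement]; exact hc2 g
          · rw [← map_commutatorElement, ← map_pow]
            exact (QuotientGroup.eq_one_iff _).mpr (h.pow_mem_Q hc1)
        exact ((hg a).zpow_left k).mul_left ((hg b).zpow_left l)
      rw [h1, one_pow]
    · have hp' := hp.out
      obtain ⟨t, ht⟩ : p ∣ p.choose 2 := Nat.Prime.dvd_choose_self hp' two_ne_zero
        (lt_of_le_of_ne hp'.two_le (Ne.symm h2))
      rw [ht, pow_mul, hcp, one_pow]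
  refine (QuotientGroup.eq_one_iff _).mp (?_ : π _ = 1)
  rw [map_mul, map_inv, inv_mul_eq_one, map_mul, map_pow, map_pow, map_pow, map_mul,
    mul_pow_central (by rw [← map_commutatorElement]; exact hcent x) (by rw [← map_commutatorElement]; exact hcent y),
    ← map_commutatorElement, key, mul_one]

end CfsgLib.BicyclicFactor
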