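import Cfsg.Agent.Lib.BicyclicFactor.Roots
import Cfsg.Agent.S3888

/-!
# A product of two cyclic groups of odd prime power order is metacyclic
-/

set_option autoImplicit false
set_option linter.unusedSectionVars false
set_option linter.unusedVariables false
set_option linter.style.haveILetI false

namespace CfsgLib.BicyclicFactor

open Subgroup
open scoped commutatorElement

universe u

variable {P : Type u} [Group P] [Finite P] {p : ℕ} [hp : Fact p.Prime] {a b y t : P}

theorem root_eq_pow {c z w : P} (hz : z ∈ zpowers c) (hz1 : z ≠ 1) (hzp : z ^ p = 1) (hw : w ∈ zpowers c)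
    (hwp : w ^ p = 1) : ∃ i : ℕ, i < p ∧ w = z ^ i := by
  obtain ⟨k, rfl⟩ := mem_zpowers_iff.mp (mem_zpowers_of_root hz hw hz1 hzp hwp)
  refine ⟨(k % p).toNat, ?_, ?_⟩
  · have := Int.emod_lt_of_pos k (b := (p : ℤ)) (by exact_mod_cast hp.out.pos)
    have := Int.emod_nonneg k (b := (p : ℤ)) (by exact_mod_cast hp.out.ne_zero)
    omega
  · rw [← zpow_natCast, Int.toNat_of_nonneg (Int.emod_nonneg k (by exact_mod_cast hp.out.ne_zero))]
    conv_lhs => rw [← Int.emod_add_mul_ediv k p, zpow_add, zpow_mul, zpow_natCast, hzp, one_zpow, mul_one]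

theorem Fac.root_form (h : Fac p P a b) (hp2 : p ≠ 2) (hy : y ∈ zpowers a) (hy1 : y ≠ 1) (hyp : y ^ p = 1)
    (ht : t ∈ zpowers b) (ht1 : t ≠ 1) (htp : t ^ p = 1) {x : P} (hx : x ^ p = 1) :
    ∃ i j : ℕ, i < p ∧ j < p ∧ x = y ^ i * t ^ j := by
  obtain ⟨u, hu, v, hv, rfl⟩ := h.prod x
  obtain ⟨e1, e2⟩ := h.roots hu hv (Or.inl hp2) hx
  obtain ⟨i, hi, rfl⟩ := root_eq_pow hy hy1 hyp hu e1
  obtain ⟨j, hj, rfl⟩ := root_eq_pow ht ht1 htp hv e2
  exact ⟨i, j, hi, hj, rfl⟩

/-- The roots in the two factors commute. -/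
theorem Fac.roots_commute (h : Fac p P a b) (hp2 : p ≠ 2) (hy : y ∈ zpowers a) (hy1 : y ≠ 1) (hyp : y ^ p = 1)
    (ht : t ∈ zpowers b) (ht1 : t ≠ 1) (htp : t ^ p = 1) : Commute y t := by
  haveI : Nontrivial P := ⟨⟨y, 1, hy1⟩⟩
  haveI := h.pgroup.center_nontrivial
  obtain ⟨z, hz⟩ := exists_prime_orderOf_dvd_card' (G := center P) p (by
    obtain ⟨k, hk⟩ := (h.pgroup.to_subgroup (center P)).exists_card_eq
    rcases k with _ | k
    · have := Finite.one_lt_card (α := center P); rw [hk] at this; norm_num at this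
    · rw [hk]; exact dvd_pow_self p (by omega))
  have hzp : (z : P) ^ p = 1 := by rw [← SubgroupClass.coe_pow, ← hz, pow_orderOf_eq_one]; rfl
  have hz1 : (z : P) ≠ 1 := fun e => by
    have : z = 1 := Subtype.ext e
    rw [this, orderOf_one] at hz
    exact hp.out.ne_one hz.symm
  obtain ⟨i, j, hi, hj, e⟩ := h.root_form hp2 hy hy1 hyp ht ht1 htp hzp
  have hc : Commute y (z : P) := mem_center_iff.mp z.2 y
  by_cases hj0 : j = 0
  · subst hj0
    rw [pow_zero, mul_one] at e
    obtain ⟨k, hk⟩ := mem_zpowers_iff.mp (CfsgLib.Metacyclic.mem_zpowers_swap hyp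
      (e ▸ pow_mem (mem_zpowers y) i : (z : P) ∈ zpowers y) hz1)
    rw [← hk]
    exact ((show Commute t (z : P) from mem_center_iff.mp z.2 t).zpow_right k).symm
  · have h1 : Commute y (t ^ j) := by
      have := ((Commute.refl y).pow_right i).inv_right.mul_right hc
      rwa [e, inv_mul_cancel_left] at this
    have htj : t ^ j ≠ 1 := fun e1 => by
      have hd := orderOf_dvd_of_pow_eq_one e1
      rw [orderOf_eq_prime htp ht1] at hd
      exact absurd (Nat.le_of_dvd (Nat.pos_of_ne_zero hj0) hd) (by omega)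
    obtain ⟨k, hk⟩ := mem_zpowers_iff.mp
      (CfsgLib.Metacyclic.mem_zpowers_swap htp (pow_mem (mem_zpowers t) j) htj)
    rw [← hk]
    exact h1.zpow_right k

theorem Fac.card_roots_le (h : Fac p P a b) (hp2 : p ≠ 2) (hy : y ∈ zpowers a) (hy1 : y ≠ 1) (hyp : y ^ p = 1)
    (ht : t ∈ zpowers b) (ht1 : t ≠ 1) (htp : t ^ p = 1) (X : Subgroup P) (hX : ∀ x ∈ X, x ^ p = 1) :
    Nat.card X ≤ p ^ 2 := by
  classical
  have key : ∀ x : X, ∃ w : Fin p × Fin p, (x : P) = y ^ (w.1 : ℕ) * t ^ (w.2 : ℕ) := fun x => by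
    obtain ⟨i, j, hi, hj, e⟩ := h.root_form hp2 hy hy1 hyp ht ht1 htp (hX x x.2)
    exact ⟨(⟨i, hi⟩, ⟨j, hj⟩), e⟩
  choose f hf using key
  have hinj : Function.Injective f := fun x z e => Subtype.ext (by rw [hf x, hf z, e])
  refine (Nat.card_le_card_of_injective f hinj).trans ?_
  rw [Nat.card_prod, Nat.card_fin, pow_two]

theorem isMetacyclic_of_index (hP : IsPGroup p P) {c : P} (hc : Nat.card P ∣ p * orderOf c) :
    Cfsg.IsMetacyclic P := by
  have hd : (zpowers c).index ∣ p := by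
    have h1 := (zpowers c).card_mul_index
    rw [Nat.card_zpowers] at h1
    rw [← h1, mul_comm p] at hc
    exact Nat.dvd_of_mul_dvd_mul_left (orderOf_pos c) hc
  haveI : (zpowers c).Normal := by
    rcases (Nat.dvd_prime hp.out).mp hd with h1 | h1
    · rw [index_eq_one.mp h1]; infer_instance
    · refine Subgroup.normal_of_index_eq_minFac_card ?_
      obtain ⟨k, hk⟩ := hP.exists_card_eq
      rcases k with _ | k
      · have := (zpowers c).index_dvd_card
        rw [hk, h1, pow_zero] at this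
        exact absurd (Nat.dvd_one.mp this) hp.out.ne_one
      · rw [h1, hk, hp.out.pow_minFac (by omega)]
  refine ⟨zpowers c, inferInstance, inferInstance, ?_⟩
  rcases (Nat.dvd_prime hp.out).mp hd with h1 | h1
  · haveI : Subsingleton (P ⧸ zpowers c) := Finite.card_le_one_iff_subsingleton.mp (le_of_eq h1)
    infer_instance
  · exact isCyclic_of_prime_card (p := p) h1

theorem Fac.isMetacyclic (h : Fac p P a b) (hp2 : p ≠ 2) : Cfsg.IsMetacyclic P := by
  classical
  obtain ⟨α, hα⟩ := IsPGroup.iff_orderOf.mp h.pgroup a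
  obtain ⟨β, hβ⟩ := IsPGroup.iff_orderOf.mp h.pgroup b
  by_cases hsmall : α ≤ 1 ∨ β ≤ 1
  · rcases hsmall with h1 | h1
    · refine isMetacyclic_of_index h.pgroup (c := b) ?_
      rw [h.card_eq, hα, mul_comm (p ^ α), mul_comm p]
      exact Nat.mul_dvd_mul_left _ ((pow_dvd_pow p h1).trans (dvd_of_eq (pow_one p)))
    · refine isMetacyclic_of_index h.pgroup (c := a) ?_
      rw [h.card_eq, hβ, mul_comm p]
      exact Nat.mul_dvd_mul_left _ ((pow_dvd_pow p h1).trans (dvd_of_eq (pow_one p)))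
  push Not at hsmall
  obtain ⟨hα2, hβ2⟩ := hsmall
  have hne : ∀ {c : P} {k : ℕ}, orderOf c = p ^ k → 1 ≤ k → c ≠ 1 := fun {c k} hc hk e => by
    rw [e, orderOf_one] at hc
    exact absurd hc.symm (Nat.one_lt_pow (by omega) hp.out.one_lt).ne'
  obtain ⟨y, hy, hy1, hyp⟩ := exists_root h.pgroup (hne hα (by omega))
  obtain ⟨t, ht, ht1, htp⟩ := exists_root h.pgroup (hne hβ (by omega))
  have hrk : Cfsg.PRankLE p 2 P := fun X _ hX => h.card_roots_le hp2 hy hy1 hyp ht ht1 htp X hX
  have hn : Nat.card P = p ^ (α + β) := by rw [h.card_eq, hα, hβ, pow_add]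
  have hyt := h.roots_commute hp2 hy hy1 hyp ht ht1 htp
  -- the roots form a normal subgroup
  let R : Subgroup P :=
    { carrier := {x | x ^ p = 1}
      one_mem' := one_pow p
      mul_mem' := fun {x z} hx hz => by
        obtain ⟨i, j, -, -, rfl⟩ := h.root_form hp2 hy hy1 hyp ht ht1 htp hx
        obtain ⟨k, l, -, -, rfl⟩ := h.root_form hp2 hy hy1 hyp ht ht1 htp hz
        show (y ^ i * t ^ j * (y ^ k * t ^ l)) ^ p = 1
        have hc : Commute (y ^ i * t ^ j) (y ^ k * t ^ l) :=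
          (((Commute.refl y).pow_pow i k).mul_right (hyt.pow_pow i l)).mul_left
            (((hyt.symm.pow_pow j k)).mul_right ((Commute.refl t).pow_pow j l))
        rw [hc.mul_pow, hx, hz, one_mul]
      inv_mem' := fun {x} hx => by show x⁻¹ ^ p = 1; rw [inv_pow, hx, inv_one] }
  haveI : R.Normal := ⟨fun x hx g => by show (g * x * g⁻¹) ^ p = 1; rw [conj_pow, hx, mul_one, mul_inv_cancel]⟩
  have hRcard : Nat.card R ≤ p ^ 2 := h.card_roots_le hp2 hy hy1 hyp ht ht1 htp R fun x hx => hx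
  have hbound : ∀ (x w z : P), closure ({x, w, z} : Set P) = ⊤ → x ^ p = 1 → w ^ p = 1 →
      z ^ p ^ (α + β - 3) = 1 → False := by
    intro x w z hgen hx hw hz
    have hq : Nat.card (P ⧸ R) ≤ p ^ (α + β - 3) := by
      have htop : (⊤ : Subgroup (P ⧸ R)) ≤ zpowers (QuotientGroup.mk' R z) := by
        rw [← MonoidHom.range_eq_top.mpr (QuotientGroup.mk'_surjective R), MonoidHom.range_eq_map, ← hgen,
          MonoidHom.map_closure, closure_le]
        rintro _ ⟨e, he, rfl⟩
        rcases he with rfl | rfl | rfl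
        · rw [SetLike.mem_coe, show QuotientGroup.mk' R e = 1 from (QuotientGroup.eq_one_iff e).mpr hx]; exact one_mem _
        · rw [SetLike.mem_coe, show QuotientGroup.mk' R e = 1 from (QuotientGroup.eq_one_iff e).mpr hw]; exact one_mem _
        · exact mem_zpowers _
      rw [← Subgroup.card_top (G := P ⧸ R)]
      refine (card_le_of_le htop).trans ?_
      rw [Nat.card_zpowers]
      exact Nat.le_of_dvd (pow_pos hp.out.pos _) (orderOf_dvd_of_pow_eq_one (by rw [← map_pow, hz, map_one]))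
    have h1 := Nat.mul_le_mul hq hRcard
    rw [← Subgroup.card_eq_card_quotient_mul_card_subgroup R, hn, ← pow_add] at h1
    exact absurd h1 (not_le.mpr (Nat.pow_lt_pow_right hp.out.one_lt (by omega)))
  have hcommR : ∀ {x w : P}, x ^ p = 1 → w ^ p = 1 → x * w = w * x := by
    intro x w hx hw
    obtain ⟨i, j, -, -, rfl⟩ := h.root_form hp2 hy hy1 hyp ht ht1 htp hx
    obtain ⟨k, l, -, -, rfl⟩ := h.root_form hp2 hy hy1 hyp ht ht1 htp hw
    exact ((((Commute.refl y).pow_pow i k).mul_right (hyt.pow_pow i l)).mul_left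
      (((hyt.symm.pow_pow j k)).mul_right ((Commute.refl t).pow_pow j l))).eq
  rcases Cfsg.Agent.S3888.result hp2 (α + β) hn hrk with hm | ⟨-, x, w, z, hgen, hx, hw, -, -, -, hrel⟩ |
      ⟨-, s, x, w, z, hs, hgen, hx, hw, hzo, -, hrel, -⟩ | ⟨h3, -, hlcs⟩
  · exact hm
  · exfalso
    rw [mul_assoc, ← hcommR hx hw, inv_mul_cancel_left] at hrel
    exact hbound x w z hgen hx hw (mul_eq_left.mp hrel.symm)
  · exfalso
    rw [mul_assoc, ← hcommR hx hw, inv_mul_cancel_left] at hrel
    have h1 : z ^ (s * p ^ (α + β - 3)) = 1 := mul_eq_left.mp hrel.symm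
    refine hbound x w z hgen hx hw ?_
    have hs' : ¬ p ∣ s := by
      intro hd
      rcases hs with rfl | hs
      · exact hp.out.ne_one (Nat.dvd_one.mp hd)
      · exact hs (by rw [(ZMod.natCast_eq_zero_iff s p).mpr hd]; exact ⟨0, by rw [mul_zero]⟩)
    have hco : Nat.Coprime s (p ^ (α + β - 2)) := ((hp.out.coprime_iff_not_dvd.mpr hs').symm).pow_right _
    have hd1 : orderOf (z ^ p ^ (α + β - 3)) ∣ s := orderOf_dvd_of_pow_eq_one (by rw [← pow_mul, mul_comm, h1])
    have hd2 : orderOf (z ^ p ^ (α + β - 3)) ∣ p ^ (α + β - 2) :=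
      (orderOf_pow_dvd _).trans (orderOf_dvd_of_pow_eq_one hzo)
    exact orderOf_eq_one_iff.mp (Nat.dvd_one.mp (hco.gcd_eq_one ▸ Nat.dvd_gcd hd1 hd2))
  · exfalso
    have hle : ∀ i : ℕ, (⊤ : Subgroup P).lowerCentralSeries i ≤ Q p a b i := by
      intro i
      induction i with
      | zero => rw [Q_zero h]; exact le_top
      | succ i ih =>
        rw [Subgroup.lowerCentralSeries_succ, commutator_le]
        intro g hg w hw
        rw [← commutatorElement_inv]
        exact inv_mem (h.comm_Q i w g (ih hg))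
    apply hlcs
    refine eq_bot_iff.mpr ((hle _).trans ((closure_le _).mpr ?_))
    rintro x (rfl | rfl)
    · exact mem_bot.mpr (orderOf_dvd_iff_pow_eq_one.mp (by rw [hα]; exact pow_dvd_pow p (by omega)))
    · exact mem_bot.mpr (orderOf_dvd_iff_pow_eq_one.mp (by rw [hβ]; exact pow_dvd_pow p (by omega)))

end CfsgLib.BicyclicFactor
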