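import Cfsg.Agent.Lib.BicyclicFactor.TwoTrans

/-!
# The plane spanned by an element of order `q` in each factor
-/

set_option autoImplicit false
set_option linter.unusedSectionVars false
set_option linter.unusedVariables false
set_option linter.style.haveILetI false
set_option maxHeartbeats 400000

namespace CfsgLib.BicyclicFactor

open Subgroup

universe u

/-- Commuting elements `x ∈ B`, `y ∈ A` of order `q`, the former central in its normaliser. -/
structure Plane {G : Type u} [Group G] (A B : Subgroup G) (q : ℕ) (x y : G) : Prop where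
  hx : orderOf x = q
  hy : orderOf y = q
  hxB : x ∈ B
  hyA : y ∈ A
  hxy : Commute x y
  hcomm : ∀ g : G, g * x * g⁻¹ ∈ zpowers x → Commute g x

variable {G : Type u} [Group G] [Finite G] {A B : Subgroup G} {q : ℕ} [hq : Fact q.Prime] {x y : G}

theorem Plane.pow_val_add {z : G} (hz : orderOf z = q) (c d : ZMod q) :
    z ^ (c + d).val = z ^ c.val * z ^ d.val := by
  rw [← pow_add, pow_eq_pow_iff_modEq, hz, ZMod.val_add]
  exact Nat.mod_modEq _ _

/-- Coordinates on the plane. -/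
noncomputable def Plane.coord (hP : Plane A B q x y) : Multiplicative (ZMod q × ZMod q) →* G where
  toFun v := x ^ (v.toAdd.1.val) * y ^ (v.toAdd.2.val)
  map_one' := by simp
  map_mul' v w := by
    simp only [toAdd_mul, Prod.fst_add, Prod.snd_add]
    rw [Plane.pow_val_add hP.hx, Plane.pow_val_add hP.hy, mul_assoc, ← mul_assoc (x ^ w.toAdd.1.val),
      (hP.hxy.pow_pow _ _).eq]
    simp only [mul_assoc]

/-- Coordinates, additively. -/
noncomputable def Plane.pt (hP : Plane A B q x y) (v : ZMod q × ZMod q) : G := hP.coord (Multiplicative.ofAdd v)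

theorem Plane.pt_eq (hP : Plane A B q x y) (v : ZMod q × ZMod q) : hP.pt v = x ^ v.1.val * y ^ v.2.val := rfl

theorem Plane.pt_add (hP : Plane A B q x y) (v w : ZMod q × ZMod q) : hP.pt (v + w) = hP.pt v * hP.pt w :=
  map_mul hP.coord _ _

theorem Plane.pt_zero (hP : Plane A B q x y) : hP.pt 0 = 1 := map_one hP.coord

theorem Plane.pt_x (hP : Plane A B q x y) : hP.pt (1, 0) = x := by
  rw [hP.pt_eq, ZMod.val_zero, ZMod.val_one, pow_one, pow_zero, mul_one]

theorem Plane.pt_y (hP : Plane A B q x y) : hP.pt (0, 1) = y := by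
  rw [hP.pt_eq, ZMod.val_zero, ZMod.val_one, pow_one, pow_zero, one_mul]

theorem Plane.pt_injective (hP : Plane A B q x y) (h : A ⊓ B = ⊥) : Function.Injective hP.pt := by
  intro v w e
  suffices hk : ∀ d, hP.pt d = 1 → d = 0 by
    refine sub_eq_zero.mp (hk _ ?_)
    have e2 := hP.pt_add (v - w) w
    rw [sub_add_cancel, e] at e2
    exact mul_eq_right.mp e2.symm
  rintro ⟨c, d⟩ e
  rw [hP.pt_eq] at e
  have h1 : y ^ d.val = (x ^ c.val)⁻¹ := eq_inv_of_mul_eq_one_right e
  have h2 : y ^ d.val ∈ A ⊓ B := mem_inf.mpr ⟨pow_mem hP.hyA _, h1 ▸ inv_mem (pow_mem hP.hxB _)⟩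
  rw [h, mem_bot] at h2
  have h3 : x ^ c.val = 1 := by rwa [h2, eq_comm, inv_eq_one] at h1
  have h4 := orderOf_dvd_of_pow_eq_one h2
  have h5 := orderOf_dvd_of_pow_eq_one h3
  rw [hP.hy] at h4
  rw [hP.hx] at h5
  refine Prod.ext ?_ ?_
  · exact (ZMod.val_eq_zero c).mp (Nat.eq_zero_of_dvd_of_lt h5 (ZMod.val_lt c))
  · exact (ZMod.val_eq_zero d).mp (Nat.eq_zero_of_dvd_of_lt h4 (ZMod.val_lt d))

/-- The plane. -/
noncomputable def Plane.E (hP : Plane A B q x y) : Subgroup G := hP.coord.range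

theorem Plane.pt_mem (hP : Plane A B q x y) (v : ZMod q × ZMod q) : hP.pt v ∈ hP.E := ⟨_, rfl⟩

theorem Plane.mem_E (hP : Plane A B q x y) {u : G} (hu : u ∈ hP.E) : ∃ v, hP.pt v = u := by
  obtain ⟨v, rfl⟩ := hu
  exact ⟨v.toAdd, rfl⟩

theorem Plane.pt_pow (hP : Plane A B q x y) (v : ZMod q × ZMod q) (k : ℕ) : hP.pt v ^ k = hP.pt (k • v) := by
  induction k with
  | zero => rw [pow_zero, zero_smul, hP.pt_zero]
  | succ k ih => rw [pow_succ, ih, succ_nsmul, hP.pt_add]

theorem mem_normalizer_of_conj_mem {H : Subgroup G} {g : G} (h : ∀ u ∈ H, g * u * g⁻¹ ∈ H) :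
    g ∈ Subgroup.normalizer (H : Set G) := by
  have e : H.map (MulAut.conj g).toMonoidHom = H :=
    Subgroup.eq_of_le_of_card_ge (by rintro _ ⟨u, hu, rfl⟩; exact h u hu)
      (le_of_eq (Subgroup.card_map_of_injective (MulEquiv.injective (MulAut.conj g))).symm)
  refine Subgroup.mem_normalizer_iff.mpr fun u => ⟨h u, fun hu => ?_⟩
  rw [← e] at hu
  obtain ⟨w, hw, e2⟩ := hu
  have : w = u := (MulAut.conj g).injective e2
  exact this ▸ hw

/-- A conjugate into `B` of a point of the plane is moved into `⟨x⟩` by a centraliser of `y`. -/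
theorem Plane.exists_move (hP : Plane A B q x y) (h : Hyp G A B) {v : ZMod q × ZMod q} (hv : v ≠ 0) {g : G}
    (hg : g * hP.pt v * g⁻¹ ∈ B) :
    ∃ c : G, c ∈ Subgroup.normalizer (hP.E : Set G) ∧ Commute c y ∧ c * hP.pt v * c⁻¹ ∈ zpowers x := by
  have hne : hP.pt v ≠ 1 := fun e => hv (hP.pt_injective h.inf_eq_bot (e.trans hP.pt_zero.symm))
  have hv1 : v.1 ≠ 0 := by
    intro e
    have hA : hP.pt v ∈ A := by
      rw [hP.pt_eq, e, ZMod.val_zero, pow_zero, one_mul]
      exact pow_mem hP.hyA _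
    exact hne (h.not_conj hA hg)
  obtain ⟨a1, ha1, b1, hb1, e⟩ := h.hAB g⁻¹
  have hg' : g = b1⁻¹ * a1⁻¹ := by rw [← mul_inv_rev, ← e, inv_inv]
  set w := a1⁻¹ * hP.pt v * a1 with hw
  have hwB : w ∈ B := by
    have := mul_mem (mul_mem hb1 hg) (inv_mem hb1)
    rwa [hg', show b1 * (b1⁻¹ * a1⁻¹ * hP.pt v * (b1⁻¹ * a1⁻¹)⁻¹) * b1⁻¹ = a1⁻¹ * hP.pt v * a1 by group] at this
  have ha1y : Commute a1⁻¹ y := h.commA (inv_mem ha1) hP.hyA
  have hptq : hP.pt v ^ q = 1 := by
    rw [hP.pt_pow, ← hP.pt_zero]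
    exact congrArg hP.pt (Prod.ext (ZModModule.char_nsmul_eq_zero q v.1) (ZModModule.char_nsmul_eq_zero q v.2))
  have hwy : Commute w y := by
    have hpy : Commute (hP.pt v) y := by
      rw [hP.pt_eq]
      exact (hP.hxy.pow_left _).mul_left ((Commute.refl y).pow_left _)
    exact (ha1y.mul_left hpy).mul_left (by simpa using ha1y.inv_left)
  let K := B ⊓ centralizer ({y} : Set G)
  haveI := h.isZGroup
  have hKZ : IsZGroup ↥K := IsZGroup.of_injective (f := inclusion (inf_le_left : K ≤ B)) (inclusion_injective _)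
  have hxK : x ∈ K := mem_inf.mpr ⟨hP.hxB, mem_centralizer_singleton_iff.mpr hP.hxy.eq⟩
  have hwK : w ∈ K := mem_inf.mpr ⟨hwB, mem_centralizer_singleton_iff.mpr hwy.eq⟩
  have hwo : orderOf w = q := orderOf_eq_prime (by
    rw [hw, ← show a1⁻¹ * hP.pt v * a1⁻¹⁻¹ = a1⁻¹ * hP.pt v * a1 by rw [inv_inv], conj_pow, hptq]
    group) (fun e1 => hne (by
      have : a1 * w * a1⁻¹ = 1 := by rw [e1, mul_one, mul_inv_cancel]
      rwa [hw, show a1 * (a1⁻¹ * hP.pt v * a1) * a1⁻¹ = hP.pt v by group] at this))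
  obtain ⟨k, hk⟩ := conj_of_zgroup hKZ (q := q) (x := ⟨x, hxK⟩) (y := ⟨w, hwK⟩)
    (by rw [orderOf_mk, hP.hx]) (by rw [orderOf_mk, hwo])
  obtain ⟨i, hi⟩ := mem_zpowers_iff.mp hk
  have hi' : x ^ i = (k : G) * w * (k : G)⁻¹ := congrArg Subtype.val hi
  set c := (k : G) * a1⁻¹ with hc
  have hcy : Commute c y :=
    (show Commute (k : G) y from mem_centralizer_singleton_iff.mp (mem_inf.mp k.2).2).mul_left ha1y
  have hcv : c * hP.pt v * c⁻¹ ∈ zpowers x := by
    rw [hc, show (k : G) * a1⁻¹ * hP.pt v * ((k : G) * a1⁻¹)⁻¹ = (k : G) * (a1⁻¹ * hP.pt v * a1) * (k : G)⁻¹ by group,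
      ← hw, ← hi']
    exact zpow_mem (mem_zpowers x) i
  refine ⟨c, ?_, hcy, hcv⟩
  have hxE : x ∈ hP.E := by
    have := hP.pt_mem (1, 0)
    rwa [hP.pt_x] at this
  have hyE : y ∈ hP.E := by
    have := hP.pt_mem (0, 1)
    rwa [hP.pt_y] at this
  -- the image of `x` is in the plane
  have hcx : c * x * c⁻¹ ∈ hP.E := by
    have h1 : x ^ v.1.val ∈ zpowers x := pow_mem (mem_zpowers x) _
    have h2 : c * x ^ v.1.val * c⁻¹ ∈ hP.E := by
      have : x ^ v.1.val = hP.pt v * (y ^ v.2.val)⁻¹ := by rw [hP.pt_eq, mul_inv_cancel_right]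
      rw [this, show c * (hP.pt v * (y ^ v.2.val)⁻¹) * c⁻¹
        = c * hP.pt v * c⁻¹ * (c * (y ^ v.2.val)⁻¹ * c⁻¹) by group]
      refine mul_mem (zpowers_le.mpr hxE hcv) ?_
      rw [((hcy.pow_right v.2.val).inv_right).eq, mul_inv_cancel_right]
      exact inv_mem (pow_mem hyE _)
    have h3 : x ^ v.1.val ≠ 1 := by
      intro e1
      have := orderOf_dvd_of_pow_eq_one e1
      rw [hP.hx] at this
      exact hv1 ((ZMod.val_eq_zero _).mp (Nat.eq_zero_of_dvd_of_lt this (ZMod.val_lt _)))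
    obtain ⟨j, hj⟩ := mem_zpowers_iff.mp
      (CfsgLib.Metacyclic.mem_zpowers_swap (p := q) (hP.hx ▸ pow_orderOf_eq_one x) h1 h3)
    rw [show c * x * c⁻¹ = (c * x ^ v.1.val * c⁻¹) ^ j by rw [conj_zpow, hj]]
    exact zpow_mem h2 j
  refine mem_normalizer_of_conj_mem fun u hu => ?_
  obtain ⟨w', rfl⟩ := hP.mem_E hu
  rw [hP.pt_eq, show c * (x ^ w'.1.val * y ^ w'.2.val) * c⁻¹
    = (c * x ^ w'.1.val * c⁻¹) * (c * y ^ w'.2.val * c⁻¹) by group, ← conj_pow, ← conj_pow, hcy.eq, mul_inv_cancel_right]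
  exact mul_mem (pow_mem hcx _) (pow_mem hyE _)

/-- A subgroup of the normaliser, normalised by it and acting through a group of order prime to `q`,
fixes a point of the plane. -/
theorem Plane.fixed_point (hP : Plane A B q x y) (h : Hyp G A B) (L : Subgroup G)
    (hL : L ≤ Subgroup.normalizer (hP.E : Set G))
    (hLn : ∀ w ∈ Subgroup.normalizer (hP.E : Set G), ∀ l ∈ L, w * l * w⁻¹ ∈ L)
    (hq' : ∀ g ∈ L, ∃ k : ℕ, ¬ q ∣ k ∧ ∀ e ∈ hP.E, Commute (g ^ k) e) :
    ∃ e0 ∈ hP.E, e0 ≠ 1 ∧ ∀ l ∈ L, Commute l e0 := by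
  classical
  set W := Subgroup.normalizer (hP.E : Set G) with hW
  have hex : ∀ (g : W) (v : ZMod q × ZMod q), ∃ w, hP.pt w = (g : G) * hP.pt v * (g : G)⁻¹ := fun g v =>
    hP.mem_E ((Subgroup.mem_normalizer_iff.mp g.2 _).mp (hP.pt_mem v))
  choose f hf using hex
  have hinj := hP.pt_injective h.inf_eq_bot
  let F : W → (ZMod q × ZMod q) →+ (ZMod q × ZMod q) := fun g =>
    AddMonoidHom.mk' (f g) fun v w => hinj (by
      rw [hf, hP.pt_add, hP.pt_add, hf, hf]
      group)
  have hmul : ∀ (g g' : W) v, F (g * g') v = F g (F g' v) := fun g g' v => hinj (by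
    show hP.pt (f (g * g') v) = hP.pt (f g (f g' v))
    rw [hf, hf, hf, Subgroup.coe_mul]
    group)
  have hone : ∀ v, F 1 v = v := fun v => hinj (by
    show hP.pt (f 1 v) = hP.pt v
    rw [hf]
    simp)
  have hinvl : ∀ (g : W) v, F g⁻¹ (F g v) = v := fun g v => by rw [← hmul, inv_mul_cancel, hone]
  have hlin : ∀ (g : W) (a b : ZMod q), F g (a, b) =
      (a * (F g (1, 0)).1 + b * (F g (0, 1)).1, a * (F g (1, 0)).2 + b * (F g (0, 1)).2) := by
    intro g a b
    have e : ((a, b) : ZMod q × ZMod q) = a.val • ((1 : ZMod q), (0 : ZMod q)) + b.val • ((0 : ZMod q), (1 : ZMod q)) := by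
      ext <;> simp [nsmul_eq_mul, ZMod.natCast_zmod_val]
    conv_lhs => rw [e, map_add, map_nsmul, map_nsmul]
    ext <;> simp [nsmul_eq_mul, ZMod.natCast_zmod_val]
  let O : Finset (ZMod q × ZMod q) := Finset.univ.filter fun v => ∃ g : W, F g (1, 0) = v
  have hmemO : ∀ {v}, v ∈ O ↔ ∃ g : W, F g (1, 0) = v := by intro v; simp [O]
  have hstab : ∀ (g : W) {v}, v ∈ O → F g v ∈ O := fun g v hv => by
    obtain ⟨g', rfl⟩ := hmemO.mp hv
    exact hmemO.mpr ⟨g * g', hmul g g' _⟩
  have h10 : ((1 : ZMod q), (0 : ZMod q)) ∈ O := hmemO.mpr ⟨1, hone _⟩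
  -- the orbit is already an orbit of the centraliser of `y`
  have hrep : ∀ v ∈ O, ∃ g : W, F g (1, 0) = v ∧ F g (0, 1) = (0, 1) := by
    intro v hv
    obtain ⟨g, rfl⟩ := hmemO.mp hv
    have hv0 : F g (1, 0) ≠ 0 := fun e => by
      have h1 : F g⁻¹ (F g (1, 0)) = F g⁻¹ 0 := by rw [e]
      rw [hinvl, map_zero] at h1
      exact one_ne_zero (congrArg Prod.fst h1)
    have hgB : (g : G)⁻¹ * hP.pt (F g (1, 0)) * (g : G)⁻¹⁻¹ ∈ B := by
      show (g : G)⁻¹ * hP.pt (f g (1, 0)) * (g : G)⁻¹⁻¹ ∈ B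
      rw [hf, hP.pt_x, show (g : G)⁻¹ * ((g : G) * x * (g : G)⁻¹) * (g : G)⁻¹⁻¹ = x by group]
      exact hP.hxB
    obtain ⟨c, hcW, hcy, hc⟩ := hP.exists_move h hv0 hgB
    have hcomm : Commute (c * g) x := hP.hcomm _ (by
      rw [mul_inv_rev, show c * (g : G) * x * ((g : G)⁻¹ * c⁻¹) = c * ((g : G) * x * (g : G)⁻¹) * c⁻¹ by group,
        show (g : G) * x * (g : G)⁻¹ = hP.pt (F g (1, 0)) by
          show _ = hP.pt (f g (1, 0))
          rw [hf, hP.pt_x]]
      exact hc)
    refine ⟨⟨c⁻¹, inv_mem hcW⟩, hinj ?_, hinj ?_⟩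
    · show hP.pt (f ⟨c⁻¹, inv_mem hcW⟩ (1, 0)) = hP.pt (f g (1, 0))
      rw [hf, hf, hP.pt_x]
      have h1 : x = c * (g : G) * x * (c * g)⁻¹ := by rw [hcomm.eq, mul_inv_cancel_right]
      conv_lhs => rw [h1]
      group
    · show hP.pt (f ⟨c⁻¹, inv_mem hcW⟩ (0, 1)) = hP.pt (0, 1)
      rw [hf, hP.pt_y, hcy.inv_left.eq, mul_inv_cancel_right]
  have haxis : ∀ a : ZMod q, (a, (0 : ZMod q)) ∈ O → a = 1 := by
    intro a ha
    obtain ⟨g, hg⟩ := hmemO.mp ha
    have h1 : (g : G) * x * (g : G)⁻¹ ∈ zpowers x := by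
      have e : hP.pt (f g (1, 0)) = (g : G) * x * (g : G)⁻¹ := by rw [hf, hP.pt_x]
      rw [← e]
      have : f g (1, 0) = (a, 0) := hg
      rw [this, hP.pt_eq, ZMod.val_zero, pow_zero, mul_one]
      exact pow_mem (mem_zpowers x) _
    have h2 : (a, (0 : ZMod q)) = (1, 0) := hinj (by
      rw [← hg]
      show hP.pt (f g (1, 0)) = _
      rw [hf, hP.pt_x, (hP.hcomm _ h1).eq, mul_inv_cancel_right])
    exact congrArg Prod.fst h2
  by_cases hA : ∃ u : ZMod q, u ≠ 0 ∧ ((1 : ZMod q), u) ∈ O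
  · -- a transvection occurs
    obtain ⟨u, hu, huO⟩ := hA
    obtain ⟨t0, ht0, ht0y⟩ := hrep _ huO
    have hall : ∀ k : ZMod q, ((1 : ZMod q), k) ∈ O := by
      have hstep : ∀ j : ℕ, ((1 : ZMod q), (j : ZMod q) * u) ∈ O := by
        intro j
        induction j with
        | zero => simpa using h10
        | succ j ih =>
          have := hstab t0 ih
          rw [hlin, ht0, ht0y] at this
          convert this using 2 <;> push_cast <;> ring
      intro k
      have := hstep (k * u⁻¹).val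
      rwa [ZMod.natCast_zmod_val, mul_assoc, inv_mul_cancel₀ hu, mul_one] at this
    have hfst : ∀ v ∈ O, v.1 = 1 := by
      intro v hv
      obtain ⟨g, hg, hgy⟩ := hrep v hv
      have := hstab g (hall (-v.2))
      rw [hlin, hg, hgy] at this
      simp at this
      exact haxis _ this
    have hpres : ∀ g : W, (F g (1, 0)).1 = 1 ∧ (F g (0, 1)).1 = 0 := by
      intro g
      have h1 := hfst _ (hstab g h10)
      have h2 := hfst _ (hstab g (hall 1))
      rw [hlin] at h2
      simp [h1] at h2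
      exact ⟨h1, h2⟩
    obtain ⟨t, ht, hty⟩ := hrep _ (hall 1)
    refine ⟨hP.pt (0, 1), hP.pt_mem _, ?_⟩
    rw [hP.pt_y]
    refine ⟨fun e => ?_, fun l hl => ?_⟩
    · have := hP.hy
      rw [e, orderOf_one] at this
      exact hq.out.ne_one this.symm
    set l' : W := ⟨l, hL hl⟩
    set z : W := l' * t * l'⁻¹ * t⁻¹ with hz
    have hzL : (z : G) ∈ L := by
      have h1 := mul_mem hl (hLn _ t.2 _ (inv_mem hl))
      show l * (t : G) * l⁻¹ * (t : G)⁻¹ ∈ L
      rwa [show l * ((t : G) * l⁻¹ * (t : G)⁻¹) = l * (t : G) * l⁻¹ * (t : G)⁻¹ by group] at h1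
    set m := (F l' (0, 1)).2 with hm
    have htlin : ∀ a b : ZMod q, F t (a, b) = (a, a + b) := fun a b => by rw [hlin, ht, hty]; simp
    have htinv : ∀ a b : ZMod q, F t⁻¹ (a, b) = (a, b - a) := fun a b => by
      conv_lhs => rw [show ((a, b) : ZMod q × ZMod q) = F t (a, b - a) by rw [htlin]; simp]
      rw [hinvl]
    have hzlin : ∀ a b : ZMod q, F z (a, b) = (a, b + (m - 1) * a) := by
      intro a b
      rw [hz, hmul, htinv, hmul, hmul]
      obtain ⟨w1, w2, hwv⟩ : ∃ w1 w2, F l'⁻¹ (a, b - a) = (w1, w2) := ⟨_, _, rfl⟩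
      rw [hwv, htlin]
      have hback : F l' (w1, w2) = (a, b - a) := by
        rw [← hwv, ← hmul, mul_inv_cancel, hone]
      rw [hlin, (hpres l').1, (hpres l').2] at hback ⊢
      simp only [mul_one, mul_zero, add_zero, Prod.mk.injEq] at hback ⊢
      obtain ⟨e1, e2⟩ := hback
      exact ⟨e1, by rw [← e1] at e2 ⊢; linear_combination e2⟩
    have hzpow : ∀ (k : ℕ) (a b : ZMod q), F (z ^ k) (a, b) = (a, b + k * ((m - 1) * a)) := by
      intro k
      induction k with
      | zero => intro a b; rw [pow_zero, hone]; simp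
      | succ k ih =>
        intro a b
        rw [pow_succ, hmul, hzlin, ih]
        simp only [Prod.mk.injEq, true_and]
        push_cast
        ring
    have hcent : ∀ (g : W) (k : ℕ), (∀ e ∈ hP.E, Commute ((g : G) ^ k) e) → ∀ v, F (g ^ k) v = v :=
      fun g k hk v => hinj (by
        show hP.pt (f (g ^ k) v) = hP.pt v
        rw [hf, SubgroupClass.coe_pow, (hk _ (hP.pt_mem v)).eq, mul_inv_cancel_right])
    have hm1 : m = 1 := by
      obtain ⟨k, hk, hkc⟩ := hq' _ hzL
      have h1 := hcent z k hkc (1, 0)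
      rw [hzpow] at h1
      simp only [Prod.mk.injEq, true_and, zero_add, mul_one, mul_eq_zero] at h1
      rcases h1 with h1 | h1
      · exact absurd ((ZMod.natCast_eq_zero_iff k q).mp h1) hk
      · exact sub_eq_zero.mp h1
    have hly : F l' (0, 1) = (0, 1) := Prod.ext (hpres l').2 hm1
    show Commute l y
    have h1 : l * y * l⁻¹ = y := by
      have := hf l' (0, 1)
      rw [show f l' (0, 1) = (0, 1) from hly, hP.pt_y] at this
      exact this.symm
    exact mul_inv_eq_iff_eq_mul.mp h1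
  · push Not at hA
    have hzero : ∀ u : ZMod q, ((1 : ZMod q), u) ∈ O → u = 0 := fun u hu => by
      by_contra e
      exact hA u e hu
    have hfinj : ∀ v ∈ O, ∀ w ∈ O, v.1 = w.1 → v = w := by
      intro v hv w hw e
      obtain ⟨g, hg, hgy⟩ := hrep v hv
      have h1 : F g (1, w.2 - v.2) = w := by
        rw [hlin, hg, hgy]
        ext <;> simp [e]
      have h2 := hstab g⁻¹ hw
      rw [← h1, hinvl] at h2
      have h3 := sub_eq_zero.mp (hzero _ h2)
      exact Prod.ext e h3.symm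
    let σ : ZMod q × ZMod q := ∑ v ∈ O, v
    have hfix : ∀ g : W, F g σ = σ := by
      intro g
      show F g (∑ v ∈ O, v) = ∑ v ∈ O, v
      rw [map_sum]
      refine Finset.sum_bij (fun v _ => F g v) (fun v hv => hstab g hv) (fun v _ w _ e => ?_) (fun w hw => ?_)
        (fun v _ => rfl)
      · have := congrArg (F g⁻¹) e
        rwa [hinvl, hinvl] at this
      · exact ⟨F g⁻¹ w, hstab _ hw, by rw [← hmul, mul_inv_cancel, hone]⟩
    have hσ : σ ≠ 0 := by
      by_cases h1 : ∀ v ∈ O, v.1 = 1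
      · have hO : O = {(1, 0)} := Finset.eq_singleton_iff_unique_mem.mpr
          ⟨h10, fun v hv => hfinj v hv _ h10 (h1 v hv)⟩
        show (∑ v ∈ O, v) ≠ 0
        rw [hO, Finset.sum_singleton]
        exact fun e => one_ne_zero (congrArg Prod.fst e)
      push Not at h1
      obtain ⟨v0, hv0, hv01⟩ := h1
      obtain ⟨g0, hg0, hg0y⟩ := hrep v0 hv0
      obtain ⟨c0, u0⟩ := v0
      simp only at hv01
      have hl : c0 - 1 ≠ 0 := sub_ne_zero.mpr hv01
      set r := u0 / (c0 - 1) with hr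
      have hline : ∀ v ∈ O, v.2 = r * (v.1 - 1) := by
        intro v hv
        obtain ⟨g, hg, hgy⟩ := hrep v hv
        have e1 : F g0 v = (v.1 * c0, v.1 * u0 + v.2) := by rw [hlin, hg0, hg0y]; simp
        have e2 : F g (c0, u0) = (c0 * v.1, c0 * v.2 + u0) := by rw [hlin, hg, hgy]; simp
        have e3 := hfinj _ (hstab g0 hv) _ (hstab g hv0) (by rw [e1, e2]; exact mul_comm _ _)
        rw [e1, e2, Prod.mk.injEq] at e3
        rw [hr, div_mul_eq_mul_div, eq_div_iff hl]
        linear_combination -e3.2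
      have hr0 : r ≠ 0 := by
        intro e
        refine hv01 (haxis c0 ?_)
        have := hline _ hv0
        rw [e, zero_mul] at this
        rwa [show u0 = 0 from this] at hv0
      have hσ1 : σ.1 = 0 := by
        have h2 : F g0 σ = σ := hfix g0
        rw [← Prod.mk.eta (p := σ), hlin, hg0, hg0y] at h2
        simp only [Prod.mk.injEq, mul_zero, add_zero] at h2
        have : σ.1 * (c0 - 1) = 0 := by linear_combination h2.1
        exact (mul_eq_zero.mp this).resolve_right hl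
      intro hσ0
      have hσ2 : σ.2 = r * (σ.1 - (O.card : ZMod q)) := by
        show (∑ v ∈ O, v).2 = r * ((∑ v ∈ O, v).1 - _)
        rw [Prod.snd_sum, Prod.fst_sum, Finset.sum_congr rfl hline, ← Finset.mul_sum, Finset.sum_sub_distrib]
        simp
      rw [hσ1, show σ.2 = 0 by rw [hσ0]; rfl, zero_sub, mul_neg, eq_comm, neg_eq_zero] at hσ2
      have hc0 := (mul_eq_zero.mp hσ2).resolve_left hr0
      have hpos : 0 < O.card := Finset.card_pos.mpr ⟨_, h10⟩
      have hlt : O.card < q := by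
        have hsub : O.image Prod.fst ⊆ Finset.univ.erase (0 : ZMod q) := by
          intro a ha
          obtain ⟨v, hv, rfl⟩ := Finset.mem_image.mp ha
          refine Finset.mem_erase.mpr ⟨fun e => ?_, Finset.mem_univ _⟩
          obtain ⟨g, hg, hgy⟩ := hrep v hv
          have h3 : F g (1, -v.2) = 0 := by rw [hlin, hg, hgy]; ext <;> simp [e]
          have h4 := congrArg (F g⁻¹) h3
          rw [hinvl, map_zero] at h4
          exact one_ne_zero (congrArg Prod.fst h4)
        have := Finset.card_le_card hsub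
        rw [Finset.card_image_of_injOn (fun v hv w hw e => hfinj v hv w hw e), Finset.card_erase_of_mem (Finset.mem_univ _),
          Finset.card_univ, ZMod.card] at this
        have := hq.out.pos
        omega
      exact absurd (Nat.le_of_dvd hpos ((ZMod.natCast_eq_zero_iff _ q).mp hc0)) (not_le.mpr hlt)
    refine ⟨hP.pt σ, hP.pt_mem σ, fun e => hσ (hinj (e.trans hP.pt_zero.symm)), fun l hl => ?_⟩
    have := hf ⟨l, hL hl⟩ σ
    rw [show f ⟨l, hL hl⟩ σ = σ from hfix ⟨l, hL hl⟩] at this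
    exact mul_inv_eq_iff_eq_mul.mp this.symm

end CfsgLib.BicyclicFactor
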