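import Cfsg.Agent.Lib.BicyclicFactor.Socle
import Cfsg.Agent.Lib.QDWreathedNoIndexTwo.Centralizer

/-!
# The Sylow two-subgroups of the socle
-/

set_option autoImplicit false
set_option linter.unusedSectionVars false
set_option linter.unusedVariables false
set_option linter.style.haveILetI false
set_option maxHeartbeats 800000

namespace CfsgLib.BicyclicFactor

open Subgroup

universe u

theorem half_dihedral {S : Type*} [Group S] [Finite S] {m : ℕ} (hm : 0 < m) (e : S ≃* DihedralGroup m) :
    CfsgLib.AlmostCyclic.Half S := by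
  haveI : NeZero m := ⟨hm.ne'⟩
  refine ⟨e.symm (DihedralGroup.r 1), ?_⟩
  rw [MulEquiv.orderOf_eq, DihedralGroup.orderOf_r_one, Nat.card_congr e.toEquiv, DihedralGroup.nat_card]

theorem half_qd {S : Type*} [Group S] [Finite S] (h : Cfsg.IsQuasiDihedral S) : CfsgLib.AlmostCyclic.Half S := by
  obtain ⟨n, hn, hc, x, y, hx, -⟩ := h
  exact ⟨x, by rw [hx, hc, pow_succ, mul_comm]⟩

variable {G : Type u} [Group G] [Finite G] {A B : Subgroup G}

/-- An element of a two-group permuting three involutions has a square fixing each of them. -/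
theorem sq_fix {P : Type*} [Group P] (hP : IsPGroup 2 P) (z : P) (U : Finset P) (hU : U.card ≤ 3)
    (hmaps : ∀ u ∈ U, z * u * z⁻¹ ∈ U) {u : P} (hu : u ∈ U) : z ^ 2 * u * (z ^ 2)⁻¹ = u := by
  classical
  set f : P → P := fun w => z * w * z⁻¹ with hf
  have hinj : Function.Injective f := fun a b h => mul_left_cancel (mul_right_cancel h)
  have h2 : z ^ 2 * u * (z ^ 2)⁻¹ = f (f u) := by simp [hf, pow_two, mul_assoc]
  rw [h2]
  by_contra hne
  by_cases h1 : f u = u
  · exact hne (by rw [h1, h1])
  have hne1 : f (f u) ≠ f u := fun e => h1 (hinj e)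
  have h3 : f (f (f u)) = u := by
    by_contra h3
    have hne2 : f (f (f u)) ≠ f u := fun e => hne (hinj e)
    have hne3 : f (f (f u)) ≠ f (f u) := fun e => hne1 (hinj e)
    have hsub : ({u, f u, f (f u), f (f (f u))} : Finset P) ⊆ U := by
      intro w hw
      simp only [Finset.mem_insert, Finset.mem_singleton] at hw
      rcases hw with rfl | rfl | rfl | rfl
      · exact hu
      · exact hmaps _ hu
      · exact hmaps _ (hmaps _ hu)
      · exact hmaps _ (hmaps _ (hmaps _ hu))
    have := (Finset.card_le_card hsub).trans hU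
    rw [Finset.card_insert_of_notMem (by simp [Ne.symm h1, Ne.symm hne, Ne.symm h3]),
      Finset.card_insert_of_notMem (by simp [Ne.symm hne1, Ne.symm hne2]),
      Finset.card_insert_of_notMem (by simp [Ne.symm hne3]), Finset.card_singleton] at this
    omega
  obtain ⟨N, hN⟩ := IsPGroup.iff_orderOf.mp hP z
  have hit : ∀ n : ℕ, f^[n] u = z ^ n * u * (z ^ n)⁻¹ := by
    intro n
    induction n with
    | zero => simp
    | succ n ih => rw [Function.iterate_succ_apply', ih, hf]; simp [pow_succ', mul_assoc]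
  have hper : ∀ n : ℕ, f^[3 * n] u = u := by
    intro n
    induction n with
    | zero => rfl
    | succ n ih =>
      rw [show 3 * (n + 1) = 3 * n + 3 by ring, Function.iterate_add_apply]
      simp only [Function.iterate_succ_apply', Function.iterate_zero_apply, h3, ih]
  have h4 : f^[2 ^ N] u = u := by rw [hit, ← hN, pow_orderOf_eq_one]; group
  rw [← Nat.mod_add_div (2 ^ N) 3, Function.iterate_add_apply, hper] at h4
  have hr : 2 ^ N % 3 = 1 ∨ 2 ^ N % 3 = 2 := by
    have : 2 ^ N % 3 ≠ 0 := fun h0 => by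
      have := Nat.Prime.dvd_of_dvd_pow Nat.prime_three (Nat.dvd_of_mod_eq_zero h0)
      omega
    omega
  rcases hr with hr | hr <;> rw [hr] at h4
  · exact h1 h4
  · exact hne h4

theorem Hyp.no_ty (h : Hyp G A B) (N : Subgroup G) {y t : G} (hy : y ∈ A) (hy1 : y ≠ 1) (ht : t ∈ B)
    (hyt : y * t = t * y) (hyy : y * y = 1) (htt : t * t = 1)
    (hclass : ∀ u ∈ ({y, t, y * t} : Set G), ∃ v ∈ ({y, t, y * t} : Set G), v ≠ u ∧ IsConj u v) : False := by
  have hnc : ¬ IsConj y t := fun hc => by
    obtain ⟨g, hg⟩ := isConj_iff.mp hc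
    exact hy1 (h.not_conj hy (hg ▸ ht))
  obtain ⟨v, hv, hvne, hvc⟩ := hclass y (by simp)
  obtain ⟨w, hw, hwne, hwc⟩ := hclass t (by simp)
  rcases hv with rfl | rfl | rfl
  · exact hvne rfl
  · exact hnc hvc
  rcases hw with rfl | rfl | rfl
  · exact hnc hwc.symm
  · exact hwne rfl
  · exact hnc (hvc.trans hwc.symm)

/-- The Sylow two-subgroups of the simple socle have a cyclic subgroup of index at most two. -/
theorem Hyp.socle_half (h : Hyp G A B) {N : Subgroup G} [N.Normal] [IsSimpleGroup ↥N]
    (hNns : ¬ Group.IsSolvable ↥N) (S0 : Sylow 2 ↥N) : CfsgLib.AlmostCyclic.Half ↥(S0 : Subgroup ↥N) := by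
  haveI := Fact.mk Nat.prime_two
  obtain ⟨P, a, b, haA, hbB, hfac⟩ := h.sylow_fac 2
  -- the adapted Sylow subgroup of the socle
  set SN : Subgroup ↥N := (P : Subgroup G).subgroupOf N with hSN
  have hSNp : IsPGroup 2 SN := by
    intro x
    obtain ⟨k, hk⟩ := P.2 ⟨((x : ↥N) : G), mem_subgroupOf.mp x.2⟩
    exact ⟨k, Subtype.ext (Subtype.ext (congrArg Subtype.val hk :))⟩
  obtain ⟨R, hR⟩ := hSNp.exists_le_sylow
  have hReq : SN = (R : Subgroup ↥N) := by
    refine Subgroup.eq_of_le_of_card_ge hR ?_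
    have hRG : IsPGroup 2 ((R : Subgroup ↥N).map N.subtype) := R.2.map _
    obtain ⟨P1, hP1⟩ := hRG.exists_le_sylow
    obtain ⟨g, hg⟩ := MulAction.exists_smul_eq G P1 P
    rw [← Subgroup.card_map_of_injective N.subtype_injective, hSN, ← Subgroup.card_map_of_injective N.subtype_injective
      (K := (P : Subgroup G).subgroupOf N), ← Subgroup.card_map_of_injective (MulEquiv.injective (MulAut.conj g))
      (f := (MulAut.conj g).toMonoidHom)]
    refine card_le_of_le ?_
    rintro _ ⟨x, hx, rfl⟩
    obtain ⟨r, hr, rfl⟩ := hx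
    refine ⟨⟨g * (r : G) * g⁻¹, (inferInstance : N.Normal).conj_mem _ r.2 g⟩, ?_, rfl⟩
    show g * (r : G) * g⁻¹ ∈ (P : Subgroup G)
    rw [← hg, Sylow.coe_subgroup_smul]
    exact ⟨r, hP1 ⟨r, hr, rfl⟩, rfl⟩
  have hsuff : CfsgLib.AlmostCyclic.Half ↥(R : Subgroup ↥N) := by
    by_cases h2 : a ^ 2 = 1 ∨ b ^ 2 = 1
    · rw [← hReq]
      let f : SN →* ↥(P : Subgroup G) :=
        { toFun := fun x => ⟨((x : ↥N) : G), mem_subgroupOf.mp x.2⟩
          map_one' := rfl
          map_mul' := fun _ _ => rfl }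
      exact (half_of_small hfac h2).of_injective f fun x z e =>
        Subtype.ext (Subtype.ext (congrArg Subtype.val e :))
    push Not at h2
    obtain ⟨y, t, hT⟩ := exists_two hfac h2.1 h2.2
    have hyA : (y : G) ∈ A := by
      obtain ⟨k, hk⟩ := mem_zpowers_iff.mp hT.ya
      rw [← hk, Subgroup.coe_zpow]; exact zpow_mem haA k
    have htB : (t : G) ∈ B := by
      obtain ⟨k, hk⟩ := mem_zpowers_iff.mp hT.tb
      rw [← hk, Subgroup.coe_zpow]; exact zpow_mem hbB k
    have hy1 : (y : G) ≠ 1 := fun e => hT.y1 (Subtype.ext e)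
    have hyy : (y : G) * y = 1 := by rw [← pow_two]; exact congrArg Subtype.val hT.yy
    have htt : (t : G) * t = 1 := by rw [← pow_two]; exact congrArg Subtype.val hT.tt
    have hyt : (y : G) * t = t * y := congrArg Subtype.val hT.comm.eq
    have hrN : Cfsg.PRankLE 2 2 ↥N := by
      intro X hX hX2
      rw [← Subgroup.card_map_of_injective N.subtype_injective]
      refine h.rank_le_two (X.map N.subtype) inferInstance ?_
      rintro _ ⟨x, hx, rfl⟩
      rw [← map_pow, hX2 x hx, map_one]
    obtain ⟨hr2, hr1, hshape⟩ := CfsgLib.RankTwoSylow.main hrN (simple_rank hNns)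
      (CfsgLib.AlmostCyclic.no_isolated hNns) R
    -- involutions of `R` seen in `P`
    let j : ↥(R : Subgroup ↥N) → ↥(P : Subgroup G) := fun x =>
      ⟨((x : ↥N) : G), mem_subgroupOf.mp (hReq.ge x.2)⟩
    have hjmul : ∀ x z, j (x * z) = j x * j z := fun x z => rfl
    have hjinj : Function.Injective j := fun x z e => Subtype.ext (Subtype.ext (congrArg Subtype.val e :))
    have hjtwo : ∀ x, orderOf x = 2 → j x ^ 2 = 1 ∧ j x ≠ 1 := by
      intro x hx
      have hx2 : x * x = 1 := by have := pow_orderOf_eq_one x; rwa [hx, pow_two] at this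
      refine ⟨?_, fun e => ?_⟩
      · rw [pow_two, ← hjmul, hx2]; rfl
      · rw [hjinj (show j x = j 1 from e), orderOf_one] at hx; norm_num at hx
    have hall_of_three : ∀ (x1 x2 : ↥(R : Subgroup ↥N)), orderOf x1 = 2 → orderOf x2 = 2 → x1 ≠ x2 →
        j x1 ∈ Q 2 a b 1 → j x2 ∈ Q 2 a b 1 →
        ∀ u ∈ ({(y : G), (t : G), (y : G) * t} : Set G), ∃ x : ↥(R : Subgroup ↥N), orderOf x = 2 ∧ ((x : ↥N) : G) = u := by
      intro x1 x2 h1 h2 hne hQ1 hQ2
      obtain ⟨s1, n1⟩ := hjtwo x1 h1
      obtain ⟨s2, n2⟩ := hjtwo x2 h2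
      have hne' : j x1 ≠ j x2 := fun e => hne (hjinj e)
      have hy2 : y * y = 1 := by rw [← pow_two, hT.yy]
      have ht2 : t * t = 1 := by rw [← pow_two, hT.tt]
      have key : ∀ w ∈ ({y, t, y * t} : Set ↥(P : Subgroup G)), w = j x1 ∨ w = j x2 ∨ w = j (x1 * x2) := by
        rw [hjmul]
        rcases (hT.inner hQ1 s1).resolve_left n1 with e1 | e1 | e1 <;>
          rcases (hT.inner hQ2 s2).resolve_left n2 with e2 | e2 | e2 <;>
          rw [e1, e2] at hne' ⊢ <;> first
          | exact absurd rfl hne'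
          | (rintro w (rfl | rfl | rfl) <;> first
              | exact Or.inl rfl
              | exact Or.inr (Or.inl rfl)
              | (refine Or.inr (Or.inr ?_)
                 first
                 | rfl
                 | exact hT.comm.eq
                 | (rw [← mul_assoc, hy2, one_mul])
                 | (rw [mul_assoc, ht2, mul_one])
                 | (rw [hT.comm.eq, mul_assoc, hy2, mul_one])
                 | (rw [hT.comm.eq, ← mul_assoc, ht2, one_mul])))
      have hinvol : ∀ w ∈ ({y, t, y * t} : Set ↥(P : Subgroup G)), w * w = 1 ∧ w ≠ 1 := by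
        rintro w (rfl | rfl | rfl)
        · exact ⟨hy2, hT.y1⟩
        · exact ⟨ht2, hT.t1⟩
        · exact ⟨by rw [← pow_two, hT.comm.mul_pow, hT.yy, hT.tt, one_mul], hT.yt_ne.1⟩
      intro u hu
      obtain ⟨w, hw, rfl⟩ : ∃ w ∈ ({y, t, y * t} : Set ↥(P : Subgroup G)), (w : G) = u := by
        rcases hu with rfl | rfl | rfl
        · exact ⟨y, by simp, rfl⟩
        · exact ⟨t, by simp, rfl⟩
        · exact ⟨y * t, by simp, rfl⟩
      obtain ⟨hw1, hw2⟩ := hinvol w hw
      obtain ⟨x, rfl⟩ : ∃ x, j x = w := by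
        rcases key w hw with rfl | rfl | rfl <;> exact ⟨_, rfl⟩
      exact ⟨x, orderOf_eq_prime (hjinj (by rw [pow_two, hjmul, hw1]; rfl)) (fun e => hw2 (by rw [e]; rfl)), rfl⟩
    rcases hshape with (⟨m, hm, ⟨e⟩⟩ | hq | hw) | ⟨φ, hφ⟩
    · exact half_dihedral (by omega) e
    · exact half_qd hq
    · exfalso
      obtain ⟨n, hn, hcard, x, y', z, hx, hxy, hdis, hz, hzx⟩ := hw
      have hy' : orderOf y' = 2 ^ n := by rw [← hzx, ← hx]; exact MulEquiv.orderOf_eq (MulAut.conj z) x
      have hsq : ∀ {w : ↥(R : Subgroup ↥N)}, orderOf w = 2 ^ n →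
          orderOf (w ^ 2 ^ (n - 1)) = 2 ∧ j (w ^ 2 ^ (n - 1)) ∈ Q 2 a b 1 := by
        intro w hwo
        refine ⟨?_, ?_⟩
        · rw [orderOf_pow_of_dvd (by positivity) (by rw [hwo]; exact pow_dvd_pow 2 (by omega)), hwo,
            Nat.pow_div (by omega) two_pos, show n - (n - 1) = 1 by omega, pow_one]
        · have hjp : ∀ k : ℕ, j (w ^ k) = j w ^ k := by
            intro k
            induction k with
            | zero => simp; rfl
            | succ k ih => rw [pow_succ, pow_succ, hjmul, ih]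
          rw [hjp, show (2 : ℕ) ^ (n - 1) = 2 ^ (n - 2) * 2 by rw [← pow_succ]; congr 1; omega, pow_mul]
          obtain ⟨c, hc, d, hd, e⟩ := (hfac.mem_frattini _).mp
            (CfsgLib.pow_mem_frattini_pGroup hfac.pgroup (j w ^ 2 ^ (n - 2)))
          rw [e]
          exact mul_mem (zpowers_le_Q_left a b 1 (by simpa using hc)) (zpowers_le_Q_right a b 1 (by simpa using hd))
      have hne : x ^ 2 ^ (n - 1) ≠ y' ^ 2 ^ (n - 1) := by
        intro e
        have hmem : x ^ 2 ^ (n - 1) ∈ zpowers x ⊓ zpowers y' :=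
          mem_inf.mpr ⟨pow_mem (mem_zpowers x) _, e ▸ pow_mem (mem_zpowers y') _⟩
        rw [hdis, mem_bot] at hmem
        have := (hsq hx).1
        rw [hmem, orderOf_one] at this
        norm_num at this
      have hthree := hall_of_three _ _ (hsq hx).1 (hsq hy').1 hne (hsq hx).2 (hsq hy').2
      have hidx : ∀ H : Subgroup ↥N, H.index ≠ 2 := fun H hH => by
        rcases (Subgroup.normal_of_index_eq_two hH).eq_bot_or_eq_top with e | e
        · rw [e, Subgroup.index_bot] at hH
          haveI := isCyclic_of_prime_card hH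
          let _ : CommGroup ↥N := IsCyclic.commGroup
          exact hNns (Group.isSolvable_of_comm fun a b => mul_comm a b)
        · rw [e, Subgroup.index_top] at hH; omega
      have hW : Cfsg.IsWreathed ↥(R : Subgroup ↥N) := ⟨n, hn, hcard, x, y', z, hx, hxy, hdis, hz, hzx⟩
      obtain ⟨m, hm, hmc, U, Qq, hUS, hUab, hUc, hQS, ⟨eQ⟩⟩ := CfsgLib.QDWNoTwo.wreathed_local R hW
      have hI := (CfsgLib.QDWNoTwo.wreathed_six R hW hidx m hmc (by omega) U hUS hUab hUc Qq hQS eQ).2
      obtain ⟨xy, hxy2, exy⟩ := hthree y (by simp)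
      obtain ⟨xt, hxt2, ext⟩ := hthree t (by simp)
      have hconj := CfsgLib.RankTwoSimple.isConj_of_card_classes hI (a := ((xy : ↥(R : Subgroup ↥N)) : ↥N))
        (b := ((xt : ↥(R : Subgroup ↥N)) : ↥N)) (by rw [orderOf_coe, hxy2]) (by rw [orderOf_coe, hxt2])
      obtain ⟨g, hg⟩ := isConj_iff.mp (N.subtype.map_isConj hconj)
      simp only [Subgroup.coe_subtype, exy, ext] at hg
      exact hy1 (h.not_conj hyA (hg ▸ htB))
    · exfalso
      -- all involutions of `R` are central
      have hR2 : IsPGroup 2 ↥(R : Subgroup ↥N) := R.2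
      haveI : Nontrivial ↥(R : Subgroup ↥N) := by
        by_contra hnt
        rw [not_nontrivial_iff_subsingleton] at hnt
        exact hr1 fun X _ _ => by rw [Nat.card_of_subsingleton (1 : X)]; norm_num
      haveI := hR2.center_nontrivial
      obtain ⟨z0, hz0⟩ := exists_prime_orderOf_dvd_card' (G := center ↥(R : Subgroup ↥N)) 2 (by
        obtain ⟨k, hk⟩ := (hR2.to_subgroup (center ↥(R : Subgroup ↥N))).exists_card_eq
        rcases k with _ | k
        · have := Finite.one_lt_card (α := center ↥(R : Subgroup ↥N)); rw [hk] at this; norm_num at this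
        · rw [hk]; exact dvd_pow_self 2 (by omega))
      have hcen : ∀ x, orderOf x = 2 → x ∈ center ↥(R : Subgroup ↥N) := by
        intro x hx
        obtain ⟨k, rfl⟩ := hφ (z0 : ↥(R : Subgroup ↥N)) x (by rw [orderOf_coe, hz0]) hx
        refine mem_center_iff.mpr fun g => ?_
        obtain ⟨g, rfl⟩ := (φ ^ k).surjective g
        rw [← map_mul, ← map_mul, mem_center_iff.mp z0.2 g]
      -- there are exactly three
      classical
      haveI : Fintype ↥(R : Subgroup ↥N) := Fintype.ofFinite _
      let U : Finset ↥(R : Subgroup ↥N) := Finset.univ.filter fun x => orderOf x = 2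
      have hmemU : ∀ x, x ∈ U ↔ orderOf x = 2 := fun x => by simp [U]
      have hcomm : ∀ x z, orderOf x = 2 → orderOf z = 2 → x * z = z * x :=
        fun x z hx hz => mem_center_iff.mp (hcen z hz) x
      let V : Subgroup ↥(R : Subgroup ↥N) :=
        { carrier := {x | x * x = 1 ∧ x ∈ center ↥(R : Subgroup ↥N)}
          one_mem' := ⟨one_mul 1, one_mem _⟩
          mul_mem' := fun {x z} hx hz => ⟨by
            rw [mul_assoc, ← mul_assoc z, mem_center_iff.mp hx.2 z, mul_assoc x, hz.1, mul_one, hx.1],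
            mul_mem hx.2 hz.2⟩
          inv_mem' := fun {x} hx => ⟨by rw [← mul_inv_rev, hx.1, inv_one], inv_mem hx.2⟩ }
      have hV4 : Nat.card V ≤ 4 := hr2 V ⟨⟨fun x z => Subtype.ext (mem_center_iff.mp z.2.2 x)⟩⟩
        (fun x hx => by rw [pow_two]; exact hx.1)
      have hU3 : U.card ≤ 3 := by
        have h1 : insert 1 U ⊆ Finset.univ.filter fun x => x ∈ V := by
          intro x hx
          simp only [Finset.mem_insert] at hx
          rcases hx with rfl | hx
          · simp [one_mem]
          · rw [hmemU] at hx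
            simp only [Finset.mem_filter, Finset.mem_univ, true_and]
            exact ⟨by have := pow_orderOf_eq_one x; rwa [hx, pow_two] at this, hcen x hx⟩
        have h2 := Finset.card_le_card h1
        have h3 : (Finset.univ.filter fun x => x ∈ V).card = Nat.card V := by
          rw [Nat.card_eq_fintype_card, ← Fintype.card_subtype]
        rw [Finset.card_insert_of_notMem (by simp [hmemU]), h3] at h2
        exact Nat.le_of_succ_le_succ (h2.trans hV4)
      -- they all lie in the Frattini subgroup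
      have hinner : ∀ x, orderOf x = 2 → j x ∈ Q 2 a b 1 := by
        intro x hx
        by_contra hQ
        obtain ⟨s1, n1⟩ := hjtwo x hx
        have hfix : ∀ w : ↥(P : Subgroup G), (∃ z, z ^ 2 = w) → Commute (j x) w := by
          rintro w ⟨z, rfl⟩
          have hmaps : ∀ u ∈ U.image j, z * u * z⁻¹ ∈ U.image j := by
            intro u hu
            obtain ⟨v, hv, rfl⟩ := Finset.mem_image.mp hu
            have hm : (⟨(z : G) * ((v : ↥N) : G) * (z : G)⁻¹, (inferInstance : N.Normal).conj_mem _ (v : ↥N).2 _⟩ : ↥N) ∈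
                (R : Subgroup ↥N) := hReq.le (mem_subgroupOf.mpr
                  (mul_mem (mul_mem z.2 (j v).2) (inv_mem z.2)))
            refine Finset.mem_image.mpr ⟨⟨_, hm⟩, ?_, rfl⟩
            rw [hmemU] at hv ⊢
            rw [orderOf_mk, orderOf_mk]
            rw [← orderOf_coe, ← orderOf_coe] at hv
            exact (orderOf_injective (MulAut.conj (z : G)).toMonoidHom (MulEquiv.injective _) _).trans hv
          have := sq_fix hfac.pgroup z (U.image j) (Finset.card_image_le.trans hU3) hmaps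
            (Finset.mem_image_of_mem j ((hmemU x).mpr hx))
          exact (mul_inv_eq_iff_eq_mul.mp this).symm
        obtain ⟨hcy, hct⟩ := hT.central s1 hQ (hfix y hT.y_sq) (hfix t hT.symm.y_sq)
        exact h.no_central_four P hT haA hbB hcy hct
      -- two of them
      obtain ⟨x2, hx2, hne2⟩ : ∃ x2, orderOf x2 = 2 ∧ x2 ≠ (z0 : ↥(R : Subgroup ↥N)) := by
        by_contra hc
        push Not at hc
        refine hr1 fun X hX hX2 => ?_
        have hsub : ∀ w ∈ X, w ∈ zpowers (z0 : ↥(R : Subgroup ↥N)) := by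
          intro w hw
          by_cases hw1 : w = 1
          · rw [hw1]; exact one_mem _
          · rw [hc w (orderOf_eq_prime (hX2 w hw) hw1)]; exact mem_zpowers _
        refine (card_le_of_le hsub).trans ?_
        rw [Nat.card_zpowers, orderOf_coe, hz0, pow_one]
      have hz02 : orderOf (z0 : ↥(R : Subgroup ↥N)) = 2 := by rw [orderOf_coe, hz0]
      have hthree := hall_of_three _ _ hx2 hz02 hne2 (hinner _ hx2) (hinner _ hz02)
      refine h.no_ty N hyA hy1 htB hyt hyy htt ?_
      intro u hu
      obtain ⟨x, hx, rfl⟩ := hthree u hu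
      have hxo : orderOf ((x : ↥(R : Subgroup ↥N)) : ↥N) = 2 := by rw [orderOf_coe, hx]
      obtain ⟨g, hgc, hgne⟩ : ∃ g : ↥N, Commute (x : ↥N) (g * (x : ↥N) * g⁻¹) ∧ g * (x : ↥N) * g⁻¹ ≠ (x : ↥N) := by
        have := CfsgLib.AlmostCyclic.no_isolated hNns (x : ↥N)
        simp only [Cfsg.IsIsolatedInvolution, not_and, not_forall] at this
        obtain ⟨g, h1, h2⟩ := this hxo
        exact ⟨g, h1, h2⟩
      set w := g * (x : ↥N) * g⁻¹ with hw
      have hwo : orderOf w = 2 :=
        (orderOf_injective (MulAut.conj g).toMonoidHom (MulEquiv.injective _) _).trans hxo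
      obtain ⟨c, hcz, hcS⟩ := CfsgLib.RankTwoSylow.exists_conj_into R
        (z := (x : ↥N)) (fun g hg => congrArg Subtype.val (mem_center_iff.mp (hcen x hx) ⟨g, hg⟩)) (Q := zpowers w)
        (IsPGroup.of_card (n := 1) (by rw [Nat.card_zpowers, hwo, pow_one])) (fun q hq => by
          obtain ⟨k, rfl⟩ := mem_zpowers_iff.mp hq
          exact ((hgc.symm).zpow_left k).eq)
      have hv : orderOf (⟨c * w * c⁻¹, hcS w (mem_zpowers w)⟩ : ↥(R : Subgroup ↥N)) = 2 := by
        rw [orderOf_mk]
        exact (orderOf_injective (MulAut.conj c).toMonoidHom (MulEquiv.injective _) _).trans hwo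
      obtain ⟨s, n⟩ := hjtwo _ hv
      refine ⟨((c * w * c⁻¹ : ↥N) : G), ?_, fun e => ?_, ?_⟩
      · rcases (hT.inner (hinner _ hv) s).resolve_left n with e | e | e
        · exact Or.inl (congrArg Subtype.val e :)
        · exact Or.inr (Or.inl (congrArg Subtype.val e :))
        · exact Or.inr (Or.inr (congrArg Subtype.val e :))
      · exact hgne (mul_left_cancel (mul_right_cancel ((Subtype.ext e).trans hcz.symm)))
      · refine N.subtype.map_isConj (a := (x : ↥N)) (b := c * w * c⁻¹) (isConj_iff.mpr ⟨c * g, ?_⟩)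
        rw [hw]; group
  exact hsuff.of_injective (Sylow.equiv S0 R).toMonoidHom (Sylow.equiv S0 R).injective

end CfsgLib.BicyclicFactor
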