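import Cfsg.Agent.Lib.BicyclicFactor.OddGroup
import Cfsg.Agent.Lib.BicyclicFactor.OddPlane
import Cfsg.Agent.Lib.BicyclicFactor.Focal
import Cfsg.Agent.Lib.BicyclicFactor.SimpleTwo
import Cfsg.Agent.Lib.PGroup.MetacyclicAction
import Cfsg.Agent.S0638

/-!
# The odd Sylow subgroups of the socle in the primitive case
-/

set_option autoImplicit false
set_option linter.unusedSectionVars false
set_option linter.unusedVariables false
set_option linter.style.haveILetI false
set_option maxHeartbeats 400000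

namespace CfsgLib.BicyclicFactor

open Subgroup

universe u

variable {G : Type u} [Group G] [Finite G] {A B : Subgroup G}

theorem isMetacyclic_equiv {R T : Type*} [Group R] [Group T] (e : R ≃* T) (hm : Cfsg.IsMetacyclic R) :
    Cfsg.IsMetacyclic T := by
  obtain ⟨C, hC, hCc, hCq⟩ := hm
  haveI := hC
  haveI := hCc
  haveI := hCq
  haveI : (C.map e.toMonoidHom).Normal := hC.map _ e.surjective
  refine ⟨C.map e.toMonoidHom, inferInstance, ?_, ?_⟩
  · exact isCyclic_of_surjective (e.toMonoidHom.subgroupMap C) (e.toMonoidHom.subgroupMap_surjective C)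
  · exact isCyclic_of_surjective (QuotientGroup.map C (C.map e.toMonoidHom) e.toMonoidHom (le_comap_map _ _))
      fun t => QuotientGroup.induction_on t fun t => by
        obtain ⟨r, rfl⟩ := e.surjective t
        exact ⟨(r : R ⧸ C), rfl⟩

theorem Hyp.socle_cyclic (h : Hyp G A B) (hB : IsCoatom B) {N : Subgroup G} [N.Normal] [IsSimpleGroup ↥N]
    (hNns : ¬ Group.IsSolvable ↥N) {q : ℕ} [hq : Fact q.Prime] (hq2 : q ≠ 2) (S : Sylow q ↥N) :
    IsCyclic ↥(S : Subgroup ↥N) := by
  classical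
  obtain ⟨P, a, b, haA, hbB, hf⟩ := h.sylow_fac q
  set T := (P : Subgroup G) ⊓ N with hT
  -- every Sylow subgroup of the socle embeds in `T`
  have hemb : ∀ S : Sylow q ↥N, ∃ g : G, ((S : Subgroup ↥N).map N.subtype) ≤ T.map (MulAut.conj g).toMonoidHom := by
    intro S
    obtain ⟨P1, hP1⟩ := (S.2.map N.subtype).exists_le_sylow
    obtain ⟨g, hg⟩ := MulAction.exists_smul_eq G P P1
    refine ⟨g, fun w hw => ?_⟩
    have h1 := hP1 hw
    rw [← hg, Sylow.coe_subgroup_smul] at h1
    obtain ⟨v, hv, rfl⟩ := h1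
    refine ⟨v, mem_inf.mpr ⟨hv, ?_⟩, rfl⟩
    have h2 : g * v * g⁻¹ ∈ N := map_subtype_le _ hw
    have h3 := (inferInstance : N.Normal).conj_mem _ h2 g⁻¹
    rwa [show g⁻¹ * (g * v * g⁻¹) * g⁻¹⁻¹ = v by group] at h3
  by_cases hTc : IsCyclic ↥T
  · haveI := hTc
    obtain ⟨g, hg⟩ := hemb S
    haveI : IsCyclic ↥(T.map (MulAut.conj g).toMonoidHom) :=
      isCyclic_of_surjective (T.equivMapOfInjective _ (MulEquiv.injective _)).toMonoidHom (MulEquiv.surjective _)
    haveI : IsCyclic ↥((S : Subgroup ↥N).map N.subtype) := isCyclic_of_injective (inclusion hg) (inclusion_injective hg)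
    exact isCyclic_of_injective ((S : Subgroup ↥N).equivMapOfInjective N.subtype N.subtype_injective).toMonoidHom
      (MulEquiv.injective _)
  exfalso
  have hTP : T ≤ (P : Subgroup G) := inf_le_left
  have hPnc : ¬ IsCyclic ↥(P : Subgroup G) := fun hc => by
    haveI := hc
    exact hTc (isCyclic_of_injective (inclusion hTP) (inclusion_injective hTP))
  have hab : a ≠ 1 ∧ b ≠ 1 := by
    constructor <;> intro e <;> refine hPnc (isCyclic_iff_exists_zpowers_eq_top.mpr ?_)
    · refine ⟨b, eq_top_iff.mpr fun x _ => ?_⟩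
      obtain ⟨u, hu, v, hv, rfl⟩ := hf.prod x
      rw [e, zpowers_one_eq_bot, mem_bot] at hu
      rw [hu, one_mul]
      exact hv
    · refine ⟨a, eq_top_iff.mpr fun x _ => ?_⟩
      obtain ⟨u, hu, v, hv, rfl⟩ := hf.prod x
      rw [e, zpowers_one_eq_bot, mem_bot] at hv
      rw [hv, mul_one]
      exact hu
  obtain ⟨y', hy', hy'1, hy'p⟩ := exists_root hf.pgroup hab.1
  obtain ⟨x', hx', hx'1, hx'p⟩ := exists_root hf.pgroup hab.2
  have hyA : (y' : G) ∈ A := by
    obtain ⟨i, rfl⟩ := mem_zpowers_iff.mp hy'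
    rw [coe_zpow]
    exact zpow_mem haA i
  have hxB : (x' : G) ∈ B := by
    obtain ⟨i, rfl⟩ := mem_zpowers_iff.mp hx'
    rw [coe_zpow]
    exact zpow_mem hbB i
  have hyo : orderOf (y' : G) = q := by rw [orderOf_coe]; exact orderOf_eq_prime hy'p hy'1
  have hxo : orderOf (x' : G) = q := by rw [orderOf_coe]; exact orderOf_eq_prime hx'p hx'1
  have hqA : q ∣ Nat.card A := by
    have h1 : orderOf (⟨(y' : G), hyA⟩ : A) ∣ Nat.card A := orderOf_dvd_natCard _
    rwa [orderOf_mk, hyo] at h1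
  have hplane : Plane A B q (x' : G) (y' : G) := ⟨hxo, hyo, hxB, hyA,
    congrArg Subtype.val (hf.roots_commute hq2 hy' hy'1 hy'p hx' hx'1 hx'p).eq.symm,
    fun g hg => h.commute_of_coatom hB hq2 hqA hxo hxB hg⟩
  -- the roots of `T` fill the plane
  have hroot : ∀ u ∈ (P : Subgroup G), u ^ q = 1 → u ∈ hplane.E := by
    intro u hu huq
    obtain ⟨i, j, -, -, e⟩ := hf.root_form hq2 hy' hy'1 hy'p hx' hx'1 hx'p (x := ⟨u, hu⟩) (Subtype.ext huq)
    have e' : u = (y' : G) ^ i * (x' : G) ^ j := congrArg Subtype.val e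
    rw [e']
    have h1 := hplane.pt_mem (1, 0)
    have h2 := hplane.pt_mem (0, 1)
    rw [hplane.pt_x] at h1
    rw [hplane.pt_y] at h2
    exact mul_mem (pow_mem h2 _) (pow_mem h1 _)
  have hEcard : Nat.card hplane.E = q ^ 2 := by
    have hinj : Function.Injective hplane.coord := fun v w e =>
      Multiplicative.toAdd.injective (hplane.pt_injective h.inf_eq_bot e)
    rw [Plane.E, ← Nat.card_congr (MonoidHom.ofInjective hinj).toEquiv, Nat.card_congr Multiplicative.toAdd,
      Nat.card_prod, Nat.card_zmod, pow_two]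
  have hTm : Cfsg.IsMetacyclic ↥T :=
    isMetacyclic_equiv (subgroupOfEquivOfLe hTP)
      (CfsgLib.MetaAction.isMetacyclic_subgroup (hf.isMetacyclic hq2) (T.subgroupOf (P : Subgroup G)))
  have hTp : IsPGroup q ↥T := P.2.to_le hTP
  have hET : hplane.E ≤ T := by
    obtain ⟨-, hcard⟩ := Cfsg.Agent.S0638.result hq2 hTp hTm hTc
    have hle : (Cfsg.omegaOne q (⊤ : Subgroup ↥T)).map T.subtype ≤ hplane.E := by
      rw [Subgroup.map_le_iff_le_comap, Cfsg.omegaOne, closure_le]
      rintro u ⟨-, hu⟩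
      exact hroot _ (hTP u.2) (congrArg Subtype.val hu)
    have e := Subgroup.eq_of_le_of_card_ge hle (by
      rw [hEcard, Subgroup.card_map_of_injective T.subtype_injective, hcard])
    exact e ▸ map_subtype_le _
  -- the Sylow subgroup of the socle equal to `T`
  have hTN : T ≤ N := inf_le_right
  obtain ⟨S1, hS1⟩ := (hTp.of_equiv (subgroupOfEquivOfLe hTN).symm).exists_le_sylow
  have hS1T : (S1 : Subgroup ↥N) = T.subgroupOf N := by
    refine (Subgroup.eq_of_le_of_card_ge hS1 ?_).symm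
    obtain ⟨g, hg⟩ := hemb S1
    have h1 := card_le_of_le hg
    rwa [Subgroup.card_map_of_injective N.subtype_injective,
      Subgroup.card_map_of_injective (MulEquiv.injective (MulAut.conj g)),
      ← Nat.card_congr (subgroupOfEquivOfLe hTN).toEquiv] at h1
  have hSm : Cfsg.IsMetacyclic ↥(S1 : Subgroup ↥N) := by
    rw [hS1T]
    exact isMetacyclic_equiv (subgroupOfEquivOfLe hTN).symm hTm
  have hS1ne : (S1 : Subgroup ↥N) ≠ ⊥ := by
    intro e
    rw [hS1T] at e
    haveI : Subsingleton ↥T := by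
      haveI : Subsingleton ↥(T.subgroupOf N) := by rw [e]; infer_instance
      exact (subgroupOfEquivOfLe hTN).symm.toEquiv.subsingleton
    exact hTc inferInstance
  have hperf : commutator ↥N = ⊤ :=
    ((inferInstance : (commutator ↥N).Normal).eq_bot_or_eq_top).resolve_left fun e =>
      hNns (Group.isSolvable_of_comm fun c d => commutatorElement_eq_one_iff_mul_comm.mp
        (mem_bot.mp (e ▸ commutator_mem_commutator (mem_top c) (mem_top d))))
  refine no_perfect hperf hq2 S1 hS1ne hSm fun hcomm K hK hKq => ?_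
  have hq' : ∀ g ∈ N ⊓ Subgroup.normalizer (hplane.E : Set G), ∃ k : ℕ, ¬ q ∣ k ∧ ∀ e ∈ hplane.E, Commute (g ^ k) e := by
    intro g hg
    obtain ⟨hgN, hgW⟩ := mem_inf.mp hg
    set W' := (Subgroup.normalizer (hplane.E : Set G)).subgroupOf N with hW'
    set C' := (centralizer (hplane.E : Set G)).subgroupOf N with hC'
    have hCW : C' ≤ W' := fun c hc => centralizer_le_normalizer _ hc
    haveI : (C'.subgroupOf W').Normal := ⟨fun c hc w => by
      intro u hu
      have hw : ((w : ↥N) : G) ∈ Subgroup.normalizer (hplane.E : Set G) := w.2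
      have h1 : ((w : ↥N) : G)⁻¹ * u * ((w : ↥N) : G)⁻¹⁻¹ ∈ hplane.E :=
        (Subgroup.mem_normalizer_iff.mp (inv_mem hw) u).mp hu
      have h2 := hc _ h1
      show u * (((w : ↥N) : G) * ((c : ↥N) : G) * ((w : ↥N) : G)⁻¹) = ((w : ↥N) : G) * ((c : ↥N) : G) * ((w : ↥N) : G)⁻¹ * u
      rw [inv_inv] at h2
      have h3 := congrArg (fun z => ((w : ↥N) : G) * z * ((w : ↥N) : G)⁻¹) h2
      simp only [mul_assoc, mul_inv_cancel_left, mul_inv_cancel, mul_one] at h3 ⊢
      exact h3⟩
    have hSC : (S1 : Subgroup ↥N) ≤ C' := by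
      intro s hs u hu
      have hu' : (⟨u, hTN (hET hu)⟩ : ↥N) ∈ (S1 : Subgroup ↥N) := by rw [hS1T]; exact hET hu
      exact congrArg (fun z => ((z : ↥N) : G)) (congrArg Subtype.val (hcomm.is_comm.comm
        (⟨⟨u, hTN (hET hu)⟩, hu'⟩ : ↥(S1 : Subgroup ↥N)) ⟨s, hs⟩))
    refine ⟨(C'.subgroupOf W').index, fun hd => S1.not_dvd_index ?_, fun e he => ?_⟩
    · refine hd.trans ?_
      rw [← relIndex_mul_index (hSC.trans hCW), ← relIndex_mul_relIndex _ C' W' hSC hCW]
      exact (Dvd.intro_left _ rfl).trans (Dvd.intro _ rfl)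
    · have h1 := (C'.subgroupOf W').pow_index_mem ⟨⟨g, hgN⟩, hgW⟩
      have h2 := h1 e he
      exact h2.symm
  obtain ⟨e0, he0, he01, he0L⟩ := hplane.fixed_point h (N ⊓ Subgroup.normalizer (hplane.E : Set G)) inf_le_right
    (fun w hw l hl => mem_inf.mpr ⟨(inferInstance : N.Normal).conj_mem _ (mem_inf.mp hl).1 w,
      mul_mem (mul_mem hw (mem_inf.mp hl).2) (inv_mem hw)⟩) hq'
  refine ⟨⟨e0, hTN (hET he0)⟩, by rw [hS1T]; exact hET he0, fun e => he01 (congrArg Subtype.val e),
    fun k hk => Subtype.ext (he0L (k : G) (mem_inf.mpr ⟨k.2, mem_normalizer_of_conj_mem fun u hu => ?_⟩)).eq⟩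
  refine hroot _ ?_ ?_
  · have h1 := (Subgroup.mem_normalizer_iff.mp (hK hk) ⟨u, hTN (hET hu)⟩).mp (by rw [hS1T]; exact hET hu)
    rw [hS1T] at h1
    exact hTP h1
  · obtain ⟨v, rfl⟩ := hplane.mem_E hu
    rw [conj_pow, hplane.pt_pow,
      show q • v = 0 from Prod.ext (ZModModule.char_nsmul_eq_zero q v.1) (ZModModule.char_nsmul_eq_zero q v.2),
      hplane.pt_zero, mul_one, mul_inv_cancel]

theorem Hyp.socle_ac (h : Hyp G A B) (hB : IsCoatom B) {N : Subgroup G} [N.Normal] [IsSimpleGroup ↥N]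
    (hNns : ¬ Group.IsSolvable ↥N) : CfsgLib.AlmostCyclic.AC ↥N :=
  ⟨fun p hp hp2 S => by haveI := Fact.mk hp; exact h.socle_cyclic hB hNns hp2 S,
    fun S => h.socle_half hNns S⟩

end CfsgLib.BicyclicFactor
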