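import Cfsg.Agent.Lib.BicyclicFactor.Setting

/-!
# The two-rank of a product of a cyclic group and a group with cyclic Sylow subgroups
-/

set_option autoImplicit false
set_option linter.unusedSectionVars false
set_option linter.unusedVariables false
set_option linter.style.haveILetI false
set_option maxHeartbeats 400000

namespace CfsgLib.BicyclicFactor

open Subgroup

universe u

variable {G : Type u} [Group G] [Finite G] {A B : Subgroup G}

theorem Two.outer_quot {P : Type u} [Group P] [Finite P] {a b y t : P} [Fact (Nat.Prime 2)] (h : Two P a b y t)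
    {e : P} (he2 : e ^ 2 = 1) (he : e ∉ Q 2 a b 1) : e⁻¹ * (a * b) ∈ Q 2 a b 1 := by
  haveI := h.fac.normal_Q 1
  obtain ⟨u, v, hu, hv, rfl, hau, hbv⟩ := h.outer he2 he
  let π := QuotientGroup.mk' (Q 2 a b 1)
  have key : ∀ {c w : P}, c ^ 2 ∈ Q 2 a b 1 → w ∈ zpowers c → c ∈ zpowers w → π w = π c := by
    intro c w hc hw hcw
    obtain ⟨k, rfl⟩ := mem_zpowers_iff.mp hw
    have h2 : π c ^ 2 = 1 := by rw [← map_pow]; exact (QuotientGroup.eq_one_iff _).mpr hc
    rcases Int.even_or_odd' k with ⟨m, rfl | rfl⟩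
    · have h1 : π (c ^ (2 * m)) = 1 := by rw [map_zpow, zpow_mul, zpow_two, ← pow_two, h2, one_zpow]
      obtain ⟨l, hl⟩ := mem_zpowers_iff.mp hcw
      rw [h1, ← hl, map_zpow, h1, one_zpow]
    · rw [map_zpow, zpow_add, zpow_mul, zpow_two, ← pow_two, h2, one_zpow, one_mul, zpow_one]
  refine (QuotientGroup.eq_one_iff _).mp (?_ : π _ = 1)
  rw [map_mul, map_inv, map_mul, map_mul, key (by simpa using left_mem_Q (p := 2) a b 1) hu hau,
    key (by simpa using right_mem_Q (p := 2) a b 1) hv hbv, inv_mul_cancel]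

/-- The central involutions of a bicyclic two-group which is not abelian of this shape. -/
theorem Two.central_inv {P : Type u} [Group P] [Finite P] {a b y t : P} [Fact (Nat.Prime 2)] (h : Two P a b y t)
    {x : P} (hx : ∀ g : P, Commute g x) (hx2 : x ^ 2 = 1) (hx1 : x ≠ 1) : x = y ∨ x = t ∨ x = y * t := by
  by_cases hQ : x ∈ Q 2 a b 1
  · exact (h.inner hQ hx2).resolve_left hx1
  exfalso
  obtain ⟨u, v, hu, hv, rfl, hau, hbv⟩ := h.outer hx2 hQ
  have hc : Commute u v := by
    have h1 : Commute u (u * v) := hx u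
    exact mul_left_cancel (h1.eq.trans (mul_assoc u v u))
  rw [hc.mul_pow] at hx2
  obtain ⟨e1, e2⟩ := h.fac.unique (pow_mem hu 2) (one_mem _) (pow_mem hv 2) (one_mem _) (hx2.trans (one_mul 1).symm)
  apply h.a2
  obtain ⟨k, rfl⟩ := mem_zpowers_iff.mp hau
  rw [← zpow_natCast, ← zpow_mul, mul_comm, zpow_mul, zpow_natCast, e1, one_zpow]

/-- The three involutions of the central four-group are pairwise nonconjugate, and two of three involutions outside
are conjugate, so this configuration does not occur. -/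
theorem Hyp.no_central_four (h : Hyp G A B) (P : Sylow 2 G) {a b y t : ↥(P : Subgroup G)}
    (hT : Two ↥(P : Subgroup G) a b y t) (haA : (a : G) ∈ A) (hbB : (b : G) ∈ B)
    (hcy : ∀ g : ↥(P : Subgroup G), Commute g y) (hct : ∀ g : ↥(P : Subgroup G), Commute g t) : False := by
  haveI := Fact.mk Nat.prime_two
  have hyA : (y : G) ∈ A := by
    obtain ⟨k, hk⟩ := mem_zpowers_iff.mp hT.ya
    rw [← hk, Subgroup.coe_zpow]; exact zpow_mem haA k
  have htB : (t : G) ∈ B := by
    obtain ⟨k, hk⟩ := mem_zpowers_iff.mp hT.tb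
    rw [← hk, Subgroup.coe_zpow]; exact zpow_mem hbB k
  have hy1 : (y : G) ≠ 1 := fun e => hT.y1 (Subtype.ext e)
  have hnyt : ∀ g : G, g * (y : G) * g⁻¹ ≠ t := fun g e => hy1 (h.not_conj hyA (e ▸ htB))
  have hnty : ∀ g : G, g * (t : G) * g⁻¹ ≠ y := fun g e => hnyt g⁻¹ (by rw [← e]; group)
  have hcyt : ∀ g : ↥(P : Subgroup G), Commute g (y * t) := fun g => (hcy g).mul_right (hct g)
  -- fusion of central elements
  have hfus : ∀ {x z : ↥(P : Subgroup G)}, (∀ g : ↥(P : Subgroup G), Commute g x) →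
      (∀ g : ↥(P : Subgroup G), Commute g z) → ∀ g : G, g * (x : G) * g⁻¹ = z →
      ∃ n ∈ normalizer ((P : Subgroup G) : Set G), n * (x : G) * n⁻¹ = z := by
    intro x z hx hz g hg
    have hc : ∀ {w : ↥(P : Subgroup G)}, (∀ g : ↥(P : Subgroup G), Commute g w) →
        (w : G) ∈ centralizer ((P : Subgroup G) : Set G) := fun {w} hw => mem_centralizer_iff.mpr fun p hp =>
      congrArg Subtype.val (hw ⟨p, hp⟩).eq
    obtain ⟨n, hn, hne⟩ := P.conj_eq_normalizer_conj_of_mem_centralizer (x : G) g⁻¹ (hc hx)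
      (by rw [inv_inv, hg]; exact hc hz)
    refine ⟨n⁻¹, inv_mem hn, ?_⟩
    rw [inv_inv, ← hne, inv_inv, hg]
  have hperm : ∀ n ∈ normalizer ((P : Subgroup G) : Set G), ∀ x : ↥(P : Subgroup G),
      (∀ g : ↥(P : Subgroup G), Commute g x) → x ^ 2 = 1 → x ≠ 1 →
      n * (x : G) * n⁻¹ = y ∨ n * (x : G) * n⁻¹ = t ∨ n * (x : G) * n⁻¹ = (y * t : ↥(P : Subgroup G)) := by
    intro n hn x hx hx2 hx1
    have hmem : n * (x : G) * n⁻¹ ∈ (P : Subgroup G) := (mem_normalizer_iff.mp hn x).mp x.2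
    have hcen : ∀ g : ↥(P : Subgroup G), Commute g ⟨n * (x : G) * n⁻¹, hmem⟩ := by
      intro g
      have hg : n⁻¹ * (g : G) * n ∈ (P : Subgroup G) := by
        have := (mem_normalizer_iff.mp (inv_mem hn) g).mp g.2
        rwa [inv_inv] at this
      refine Subtype.ext ?_
      have e : (n⁻¹ * g * n) * (x : G) = x * (n⁻¹ * g * n) := congrArg Subtype.val (hx ⟨_, hg⟩).eq
      calc (g : G) * (n * x * n⁻¹) = n * ((n⁻¹ * g * n) * x) * n⁻¹ := by group
        _ = (n * x * n⁻¹) * g := by rw [e]; group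
    have := hT.central_inv hcen (Subtype.ext (by
      rw [SubgroupClass.coe_pow, conj_pow, ← SubgroupClass.coe_pow, hx2]; simp)) (fun e => hx1 (Subtype.ext
        (conj_eq_one_iff.mp (congrArg Subtype.val e))))
    exact this.imp (congrArg Subtype.val) (Or.imp (congrArg Subtype.val) (congrArg Subtype.val))
  have hswap : ∀ {n x z : G}, n ∈ normalizer ((P : Subgroup G) : Set G) → n * x * n⁻¹ = z → n * z * n⁻¹ = x →
      x ≠ z → (∀ g ∈ (P : Subgroup G), g * x = x * g) → False := by
    intro n x z hn hxz hzx hne hcent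
    haveI : ((P : Subgroup G).subgroupOf (normalizer ((P : Subgroup G) : Set G))).Normal :=
      Subgroup.normal_in_normalizer
    set N := normalizer ((P : Subgroup G) : Set G) with hN
    have hm : ((⟨n, hn⟩ : N) ^ ((P : Subgroup G).subgroupOf N).index) ∈ (P : Subgroup G).subgroupOf N :=
      Subgroup.pow_index_mem _ _
    rw [mem_subgroupOf, SubgroupClass.coe_pow] at hm
    have hodd : Odd ((P : Subgroup G).subgroupOf N).index := by
      refine Nat.odd_iff.mpr (Nat.two_dvd_ne_zero.mp fun h2 => P.not_dvd_index ?_)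
      rw [← relIndex_mul_index (le_normalizer (H := (P : Subgroup G)))]
      exact dvd_mul_of_dvd_left h2 _
    obtain ⟨k, hk⟩ := hodd
    have heven : ∀ j : ℕ, n ^ (2 * j) * x * (n ^ (2 * j))⁻¹ = x := by
      intro j
      induction j with
      | zero => simp
      | succ j ih =>
        calc n ^ (2 * (j + 1)) * x * (n ^ (2 * (j + 1)))⁻¹
            = n * (n * (n ^ (2 * j) * x * (n ^ (2 * j))⁻¹) * n⁻¹) * n⁻¹ := by
              rw [show 2 * (j + 1) = 2 * j + 1 + 1 by ring, pow_succ', pow_succ']; group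
          _ = x := by rw [ih, hxz, hzx]
    have hfix : n ^ (2 * k + 1) * x * (n ^ (2 * k + 1))⁻¹ = x := by
      rw [← hk]; exact mul_inv_eq_iff_eq_mul.mpr (hcent _ hm)
    refine hne (hfix.symm.trans ?_)
    calc n ^ (2 * k + 1) * x * (n ^ (2 * k + 1))⁻¹ = n * (n ^ (2 * k) * x * (n ^ (2 * k))⁻¹) * n⁻¹ := by
          rw [pow_succ']; group
      _ = z := by rw [heven, hxz]
  have hcentG : ∀ {w : ↥(P : Subgroup G)}, (∀ g : ↥(P : Subgroup G), Commute g w) → ∀ g ∈ (P : Subgroup G),
      g * (w : G) = w * g := fun {w} hw g hg => congrArg Subtype.val (hw ⟨g, hg⟩).eq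
  have hyy : (y : G) * y = 1 := by rw [← pow_two]; exact congrArg Subtype.val hT.yy
  have htt : (t : G) * t = 1 := by rw [← pow_two]; exact congrArg Subtype.val hT.tt
  have hyt : (y : G) * t = t * y := congrArg Subtype.val hT.comm.eq
  obtain ⟨hyt1, hyt2, hyt3⟩ := hT.yt_ne
  have hny : ∀ g : G, g * (y : G) * g⁻¹ ≠ (y * t : ↥(P : Subgroup G)) := by
    intro g hg
    obtain ⟨n, hn, hne⟩ := hfus hcy hcyt g hg
    rcases hperm n hn t hct hT.tt hT.t1 with e | e | e
    · exact hnty n e
    · refine hswap hn hne ?_ (fun e' => hyt2 (Subtype.ext e'.symm)) (hcentG hcy)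
      rw [Subgroup.coe_mul, show n * ((y : G) * t) * n⁻¹ = n * y * n⁻¹ * (n * t * n⁻¹) by group, hne, e,
        Subgroup.coe_mul, mul_assoc, htt, mul_one]
    · exact hT.y_ne_t (Subtype.ext (mul_left_cancel (mul_right_cancel (hne.trans e.symm))))
  have hnt : ∀ g : G, g * (t : G) * g⁻¹ ≠ (y * t : ↥(P : Subgroup G)) := by
    intro g hg
    obtain ⟨n, hn, hne⟩ := hfus hct hcyt g hg
    rcases hperm n hn y hcy hT.yy hT.y1 with e | e | e
    · refine hswap hn hne ?_ (fun e' => hyt3 (Subtype.ext e'.symm)) (hcentG hct)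
      rw [Subgroup.coe_mul, show n * ((y : G) * t) * n⁻¹ = n * y * n⁻¹ * (n * t * n⁻¹) by group, hne, e,
        Subgroup.coe_mul, ← mul_assoc, hyy, one_mul]
    · exact hnyt n e
    · exact hT.y_ne_t (Subtype.ext (mul_left_cancel (mul_right_cancel (e.trans hne.symm))))
  let τ : Fin 3 → ↥(P : Subgroup G) := ![y, t, y * t]
  have hnc : ∀ i j, i ≠ j → ¬ IsConj ((τ i : ↥(P : Subgroup G)) : G) (τ j) := by
    intro i j hij hc
    obtain ⟨g, hg⟩ := isConj_iff.mp hc
    obtain ⟨g', hg'⟩ := isConj_iff.mp hc.symm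
    fin_cases i <;> fin_cases j <;> simp [τ] at hij hg hg'
    · exact hnyt g hg
    · exact hny g hg
    · exact hnty g hg
    · exact hnt g hg
    · exact hny g' hg'
    · exact hnt g' hg'
  have hτ : ∀ i, (∀ g : ↥(P : Subgroup G), Commute g (τ i)) ∧ τ i ^ 2 = 1 ∧ τ i ≠ 1 := by
    intro i
    fin_cases i
    · exact ⟨hcy, hT.yy, hT.y1⟩
    · exact ⟨hct, hT.tt, hT.t1⟩
    · refine ⟨hcyt, ?_, hyt1⟩
      simp only [τ]
      show (y * t) ^ 2 = 1
      rw [hT.comm.mul_pow, hT.yy, hT.tt, one_mul]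
  have hmoved : ∀ i, ∃ e : ↥(P : Subgroup G), e ^ 2 = 1 ∧ e ∉ Q 2 a b 1 ∧ IsConj ((τ i : ↥(P : Subgroup G)) : G) e := by
    intro i
    obtain ⟨hc, h2, h1⟩ := hτ i
    have hz : orderOf ((τ i : ↥(P : Subgroup G)) : G) = 2 := by
      rw [orderOf_coe]; exact orderOf_eq_prime h2 h1
    obtain ⟨g, hgc, hgne⟩ := h.exists_moved hz
    set w := g * (τ i : G) * g⁻¹ with hw
    have hwo : orderOf w = 2 :=
      (orderOf_injective (MulAut.conj g).toMonoidHom (MulEquiv.injective _) _).trans hz
    obtain ⟨c, hcz, hcS⟩ := CfsgLib.RankTwoSylow.exists_conj_into P (hcentG hc) (Q := zpowers w)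
      (IsPGroup.of_card (n := 1) (by rw [Nat.card_zpowers, hwo, pow_one])) (fun q hq => by
        obtain ⟨k, rfl⟩ := mem_zpowers_iff.mp hq
        exact ((hgc.symm).zpow_left k).eq)
    refine ⟨⟨c * w * c⁻¹, hcS w (mem_zpowers w)⟩, ?_, ?_, isConj_iff.mpr ⟨c * g, by
      show c * g * (τ i : G) * (c * g)⁻¹ = c * w * c⁻¹
      rw [hw]; group⟩⟩
    · refine Subtype.ext ?_
      rw [SubgroupClass.coe_pow, OneMemClass.coe_one]
      show (c * w * c⁻¹) ^ 2 = 1
      rw [conj_pow, ← hwo, pow_orderOf_eq_one, mul_one, mul_inv_cancel]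
    · intro hQ
      have hne : c * w * c⁻¹ ≠ (τ i : G) := fun e => hgne (mul_left_cancel (mul_right_cancel (e.trans hcz.symm)))
      have hcj : IsConj ((τ i : ↥(P : Subgroup G)) : G) (c * w * c⁻¹) :=
        isConj_iff.mpr ⟨c * g, by rw [hw]; group⟩
      rcases hT.inner hQ (Subtype.ext (by
        rw [SubgroupClass.coe_pow, OneMemClass.coe_one]
        show (c * w * c⁻¹) ^ 2 = 1
        rw [conj_pow, ← hwo, pow_orderOf_eq_one, mul_one, mul_inv_cancel])) with e | e | e | e
      · have := conj_eq_one_iff.mp (congrArg Subtype.val e)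
        rw [this, orderOf_one] at hwo; norm_num at hwo
      all_goals
        have e' : c * w * c⁻¹ = _ := congrArg Subtype.val e
        rw [e'] at hne hcj
      · exact hnc i 0 (fun hi => hne (by rw [hi]; rfl)) hcj
      · exact hnc i 1 (fun hi => hne (by rw [hi]; rfl)) hcj
      · exact hnc i 2 (fun hi => hne (by rw [hi]; rfl)) hcj
  choose e he2 heQ hec using hmoved
  obtain ⟨i, j, hij, hcij⟩ := hT.three_conj he2 heQ
  exact hnc i j hij (((hec i).trans ((P : Subgroup G).subtype.map_isConj hcij)).trans (hec j).symm)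

theorem card_le_four_of_half {P : Type u} [Group P] [Finite P] (hP : CfsgLib.AlmostCyclic.Half P) (E : Subgroup P)
    (hE2 : ∀ e ∈ E, e ^ 2 = 1) : Nat.card E ≤ 4 := by
  obtain ⟨g, hg⟩ := hP.of_injective E.subtype E.subtype_injective
  have h : orderOf g ≤ 2 :=
    Nat.le_of_dvd two_pos (orderOf_dvd_of_pow_eq_one (Subtype.ext (by simpa using hE2 g g.2)))
  omega

theorem half_of_small {P : Type u} [Group P] [Finite P] {a b : P} (h : Fac 2 P a b) (h2 : a ^ 2 = 1 ∨ b ^ 2 = 1) :
    CfsgLib.AlmostCyclic.Half P := by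
  rcases h2 with h2 | h2
  · exact ⟨b, by rw [h.card_eq]; exact Nat.mul_le_mul_right _ (Nat.le_of_dvd two_pos (orderOf_dvd_of_pow_eq_one h2))⟩
  · exact ⟨a, by
      rw [h.card_eq, mul_comm 2]
      exact Nat.mul_le_mul_left _ (Nat.le_of_dvd two_pos (orderOf_dvd_of_pow_eq_one h2))⟩

/-- The two-rank is at most two. -/
theorem Hyp.rank_le_two (h : Hyp G A B) : Cfsg.PRankLE 2 2 G := by
  haveI := Fact.mk Nat.prime_two
  intro E0 hE0 hE02
  by_contra hlt
  push Not at hlt
  obtain ⟨P, a, b, haA, hbB, hfac⟩ := h.sylow_fac 2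
  obtain ⟨R, hR⟩ := (show IsPGroup 2 E0 from fun e => ⟨1, Subtype.ext (by simpa using hE02 e e.2)⟩).exists_le_sylow
  obtain ⟨g, hg⟩ := MulAction.exists_smul_eq G R P
  let E : Subgroup ↥(P : Subgroup G) := (E0.map (MulAut.conj g).toMonoidHom).subgroupOf (P : Subgroup G)
  have hle : E0.map (MulAut.conj g).toMonoidHom ≤ (P : Subgroup G) := by
    rintro _ ⟨x, hx, rfl⟩
    rw [← hg, Sylow.coe_subgroup_smul]
    exact ⟨x, hR hx, rfl⟩
  have hcard : Nat.card E = Nat.card E0 := by
    rw [Nat.card_congr (subgroupOfEquivOfLe hle).toEquiv,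
      Nat.card_congr (E0.equivMapOfInjective _ (MulEquiv.injective (MulAut.conj g))).symm.toEquiv]
  have hE2 : ∀ x ∈ E, x ^ 2 = 1 := by
    intro x hx
    obtain ⟨z, hz, e⟩ := mem_subgroupOf.mp hx
    refine Subtype.ext ?_
    rw [SubgroupClass.coe_pow, ← e, ← map_pow, hE02 z hz, map_one, OneMemClass.coe_one]
  have hEc : ∀ x ∈ E, ∀ z ∈ E, x * z = z * x := by
    intro x hx z hz
    obtain ⟨x0, hx0, ex⟩ := mem_subgroupOf.mp hx
    obtain ⟨z0, hz0, ez⟩ := mem_subgroupOf.mp hz
    refine Subtype.ext ?_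
    rw [Subgroup.coe_mul, Subgroup.coe_mul, ← ex, ← ez, ← map_mul, ← map_mul,
      show x0 * z0 = z0 * x0 from congrArg Subtype.val (hE0.is_comm.comm (⟨x0, hx0⟩ : E0) ⟨z0, hz0⟩)]
  have h8 : 4 < Nat.card E := by rw [hcard]; simpa using hlt
  by_cases h2 : a ^ 2 = 1 ∨ b ^ 2 = 1
  · exact absurd (card_le_four_of_half (half_of_small hfac h2) E hE2) (not_le.mpr h8)
  push Not at h2
  obtain ⟨y, t, hT⟩ := exists_two hfac h2.1 h2.2
  classical
  set I := E ⊓ Q 2 a b 1 with hI
  have hsub : ∀ x ∈ I, x ∈ ({1, y, t, y * t} : Finset ↥(P : Subgroup G)) := fun x hx => by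
    simpa using hT.inner (mem_inf.mp hx).2 (hE2 x (mem_inf.mp hx).1)
  have hI4 : Nat.card I ≤ 4 := by
    refine le_trans (Nat.card_le_card_of_injective (fun x : I => (⟨x.1, hsub x x.2⟩ :
      ({1, y, t, y * t} : Finset ↥(P : Subgroup G)))) (fun x z e => Subtype.ext (congrArg (fun w :
      ({1, y, t, y * t} : Finset ↥(P : Subgroup G)) => (w : ↥(P : Subgroup G))) e))) ?_
    rw [Nat.card_eq_finsetCard]
    exact (Finset.card_insert_le _ _).trans (Nat.succ_le_succ ((Finset.card_insert_le _ _).trans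
      (Nat.succ_le_succ ((Finset.card_insert_le _ _).trans (by simp)))))
  obtain ⟨e, heE, heQ⟩ : ∃ e ∈ E, e ∉ Q 2 a b 1 := by
    by_contra hc
    push Not at hc
    have : Nat.card E ≤ Nat.card I := card_le_of_le fun x hx => mem_inf.mpr ⟨hx, hc x hx⟩
    omega
  have hcov : Nat.card E ≤ 2 * Nat.card I := by
    let f : E → Bool × I := fun x =>
      if hx : (x : ↥(P : Subgroup G)) ∈ Q 2 a b 1 then (true, ⟨x, mem_inf.mpr ⟨x.2, hx⟩⟩)
      else (false, ⟨e⁻¹ * x, mem_inf.mpr ⟨mul_mem (inv_mem heE) x.2, by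
        have h1 := hT.outer_quot (hE2 e heE) heQ
        have h2 := hT.outer_quot (hE2 x x.2) hx
        rw [show e⁻¹ * (x : ↥(P : Subgroup G)) = (e⁻¹ * (a * b)) * ((x : ↥(P : Subgroup G))⁻¹ * (a * b))⁻¹ by group]
        exact mul_mem h1 (inv_mem h2)⟩⟩)
    have hf : Function.Injective f := by
      intro x z e'
      simp only [f] at e'
      split_ifs at e' with h1 h2
      · exact Subtype.ext (congrArg (fun q : Bool × I => (q.2 : ↥(P : Subgroup G))) e')
      · exact absurd (congrArg Prod.fst e') Bool.true_eq_false.mp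
      · exact absurd (congrArg Prod.fst e') Bool.false_eq_true.mp
      · exact Subtype.ext (mul_left_cancel (congrArg (fun q : Bool × I => (q.2 : ↥(P : Subgroup G))) e'))
    have := Nat.card_le_card_of_injective f hf
    rwa [Nat.card_prod, Nat.card_eq_fintype_card (α := Bool), Fintype.card_bool] at this
  have hall : ∀ x ∈ ({1, y, t, y * t} : Finset ↥(P : Subgroup G)), x ∈ E := by
    have h3 : 2 < Nat.card I := by omega
    have hyI : y ∈ I ∨ t ∈ I ∨ y * t ∈ I := by
      obtain ⟨x, hx, hx1⟩ := (bot_or_exists_ne_one I).resolve_left fun hb => by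
        rw [hb, Nat.card_unique] at h3; omega
      rcases hT.inner (mem_inf.mp hx).2 (hE2 x (mem_inf.mp hx).1) with rfl | rfl | rfl | rfl
      · exact absurd rfl hx1
      all_goals simp [hx]
    by_contra hc
    -- two of the three lie in `I`
    have hsmall : ∀ z : ↥(P : Subgroup G), (∀ x ∈ I, x = 1 ∨ x = z) → False := by
      intro z hz
      have : Nat.card I ≤ 2 := by
        refine le_trans (Nat.card_le_card_of_injective (fun x : I => (⟨x.1, by simpa using hz x x.2⟩ :
          ({1, z} : Finset ↥(P : Subgroup G)))) (fun x w e => Subtype.ext (congrArg (fun q :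
          ({1, z} : Finset ↥(P : Subgroup G)) => (q : ↥(P : Subgroup G))) e))) ?_
        rw [Nat.card_eq_finsetCard]
        exact (Finset.card_insert_le _ _).trans (by simp)
      omega
    apply hc
    have hmul : ∀ {x z : ↥(P : Subgroup G)}, x ∈ I → z ∈ I → x * z ∈ I := fun hx hz => mul_mem hx hz
    have hyy : y * y = 1 := by rw [← pow_two, hT.yy]
    have htt : t * t = 1 := by rw [← pow_two, hT.tt]
    have htwo : y ∈ I ∧ t ∈ I := by
      by_cases hy : y ∈ I
      · by_cases ht : t ∈ I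
        · exact ⟨hy, ht⟩
        · refine (hsmall y fun x hx => ?_).elim
          rcases hT.inner (mem_inf.mp hx).2 (hE2 x (mem_inf.mp hx).1) with rfl | rfl | rfl | rfl
          · exact Or.inl rfl
          · exact Or.inr rfl
          · exact absurd hx ht
          · exact absurd (by have := hmul hy hx; rwa [← mul_assoc, hyy, one_mul] at this) ht
      · by_cases ht : t ∈ I
        · refine (hsmall t fun x hx => ?_).elim
          rcases hT.inner (mem_inf.mp hx).2 (hE2 x (mem_inf.mp hx).1) with rfl | rfl | rfl | rfl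
          · exact Or.inl rfl
          · exact absurd hx hy
          · exact Or.inr rfl
          · exact absurd (by have := hmul hx ht; rwa [mul_assoc, htt, mul_one] at this) hy
        · refine (hsmall (y * t) fun x hx => ?_).elim
          rcases hT.inner (mem_inf.mp hx).2 (hE2 x (mem_inf.mp hx).1) with rfl | rfl | rfl | rfl
          · exact Or.inl rfl
          · exact absurd hx hy
          · exact absurd hx ht
          · exact Or.inr rfl
    intro x hx
    simp only [Finset.mem_insert, Finset.mem_singleton] at hx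
    rcases hx with rfl | rfl | rfl | rfl
    · exact one_mem E
    · exact (mem_inf.mp htwo.1).1
    · exact (mem_inf.mp htwo.2).1
    · exact mul_mem (mem_inf.mp htwo.1).1 (mem_inf.mp htwo.2).1
  obtain ⟨hcy, hct⟩ := hT.central (hE2 e heE) heQ (hEc e heE y (hall y (by simp))) (hEc e heE t (hall t (by simp)))
  exact h.no_central_four P hT haA hbB hcy hct

end CfsgLib.BicyclicFactor
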