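import Cfsg.Agent.Lib.BicyclicFactor.Layers

/-!
# Elements of order `p` in a product of two cyclic `p`-groups
-/

set_option autoImplicit false
set_option linter.unusedSectionVars false
set_option linter.unusedVariables false
set_option linter.style.haveILetI false

namespace CfsgLib.BicyclicFactor

open Subgroup
open scoped commutatorElement

universe u

variable {P : Type u} [Group P] [Finite P] {p : ℕ} [hp : Fact p.Prime] {a b : P}

theorem Q_comm (p : ℕ) (a b : P) (i : ℕ) : Q p b a i = Q p a b i := by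
  rw [Q, Q, Set.pair_comm]

/-- The level of an element whose `p`-th power is nontrivial. -/
theorem exists_level (hP : IsPGroup p P) {c w : P} (hw : w ∈ zpowers c) (hwp : w ^ p ≠ 1) :
    ∃ m : ℕ, w ∈ zpowers (c ^ p ^ m) ∧ w ^ p ∉ zpowers (c ^ p ^ (m + 2)) := by
  classical
  have hex : ∃ n : ℕ, w ∉ zpowers (c ^ p ^ n) := by
    obtain ⟨k, hk⟩ := IsPGroup.iff_orderOf.mp hP c
    refine ⟨k, fun h => hwp ?_⟩
    rw [← hk, pow_orderOf_eq_one, zpowers_one_eq_bot, mem_bot] at h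
    rw [h, one_pow]
  obtain ⟨m, hm⟩ : ∃ m, Nat.find hex = m + 1 := by
    refine Nat.exists_eq_add_one.mpr (Nat.pos_of_ne_zero fun h0 => Nat.find_spec hex ?_)
    rw [h0, pow_zero, pow_one]; exact hw
  have hin : w ∈ zpowers (c ^ p ^ m) := by
    by_contra hc
    exact absurd (Nat.find_min' hex hc) (by omega)
  have hout : w ∉ zpowers (c ^ p ^ (m + 1)) := hm ▸ Nat.find_spec hex
  refine ⟨m, hin, fun h => ?_⟩
  obtain ⟨k, rfl⟩ := mem_zpowers_iff.mp hin
  obtain ⟨l, hl⟩ := mem_zpowers_iff.mp h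
  set d := c ^ p ^ m with hd
  have hd1 : c ^ p ^ (m + 1) = d ^ p := by rw [hd, ← pow_mul, ← pow_succ]
  have hd2 : c ^ p ^ (m + 2) = d ^ (p * p) := by rw [hd, ← pow_mul, ← mul_assoc, ← pow_succ, ← pow_succ]
  rw [hd2, ← zpow_natCast, ← zpow_natCast, ← zpow_mul, ← zpow_mul] at hl
  have hdvd : (orderOf d : ℤ) ∣ (p : ℤ) * (k - p * l) := by
    rw [orderOf_dvd_iff_zpow_eq_one, mul_sub, zpow_sub, mul_comm (p : ℤ) k, ← hl, ← mul_assoc, ← Nat.cast_mul,
      mul_inv_cancel]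
  obtain ⟨e, he⟩ := IsPGroup.iff_orderOf.mp hP d
  rw [he, Nat.cast_pow] at hdvd
  rcases e with _ | _ | e
  · apply hwp
    rw [pow_zero, orderOf_eq_one_iff] at he
    rw [he, one_zpow, one_pow]
  · apply hwp
    rw [← zpow_natCast, ← zpow_mul, ← orderOf_dvd_iff_zpow_eq_one, he]
    simp
  · apply hout
    have h2 : (p : ℤ) ∣ k - p * l := by
      rw [pow_succ, pow_succ, mul_comm ((p : ℤ) ^ e * p) (p : ℤ)] at hdvd
      have h3 := (mul_dvd_mul_iff_left (Int.natCast_ne_zero.mpr hp.out.ne_zero)).mp hdvd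
      exact (dvd_mul_left _ _).trans h3
    obtain ⟨j, hj⟩ := h2
    rw [mem_zpowers_iff, hd1]
    refine ⟨j + l, ?_⟩
    rw [← zpow_natCast, ← zpow_mul]
    congr 1
    linarith

theorem Fac.root_left (h : Fac p P a b) {u v : P} (hu : u ∈ zpowers a) (hv : v ∈ zpowers b)
    (hv' : p ≠ 2 ∨ v ∈ Q p a b 1) (hx : (u * v) ^ p = 1) : u ^ p = 1 := by
  by_contra hne
  obtain ⟨m, hm, hm'⟩ := exists_level h.pgroup hu hne
  have h1 := h.mul_pow_mem (zpowers_le_Q_left a b m hm) hv'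
  rw [hx, mul_one, inv_mem_iff] at h1
  exact hm' (h.mem_Q_split (pow_mem hu p) (pow_mem hv p) h1).1

/-- The elements of order dividing `p` are products of such elements of the factors. -/
theorem Fac.roots (h : Fac p P a b) {u v : P} (hu : u ∈ zpowers a) (hv : v ∈ zpowers b)
    (hx : p ≠ 2 ∨ u * v ∈ Q p a b 1) (hp1 : (u * v) ^ p = 1) : u ^ p = 1 ∧ v ^ p = 1 := by
  have hu1 : p ≠ 2 ∨ u ∈ Q p a b 1 :=
    hx.imp_right fun h' => zpowers_le_Q_left a b 1 (h.mem_Q_split hu hv h').1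
  have hv1 : p ≠ 2 ∨ v ∈ Q p a b 1 :=
    hx.imp_right fun h' => zpowers_le_Q_right a b 1 (h.mem_Q_split hu hv h').2
  refine ⟨h.root_left hu hv hv1 hp1, h.symm.root_left hv hu (by rw [Q_comm]; exact hu1) ?_⟩
  rw [show v * u = v * (u * v) * v⁻¹ by group, conj_pow, hp1, mul_one, mul_inv_cancel]

/-- The elements of order dividing `p` in a cyclic group of powers. -/
theorem mem_zpowers_of_root {c x y : P} (hx : x ∈ zpowers c) (hy : y ∈ zpowers c) (hx1 : x ≠ 1) (hxp : x ^ p = 1)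
    (hyp : y ^ p = 1) : y ∈ zpowers x := by
  obtain ⟨k, hk⟩ := mem_zpowers_iff.mp (CfsgLib.Metacyclic.mem_zpowers_of_isCyclic (G := zpowers c)
    (a := ⟨x, hx⟩) (b := ⟨y, hy⟩) (Subtype.ext hxp) (fun e => hx1 (congrArg Subtype.val e)) (Subtype.ext hyp))
  exact mem_zpowers_iff.mpr ⟨k, congrArg Subtype.val hk⟩

/-- An element of order `p` among the powers. -/
theorem exists_root (hP : IsPGroup p P) {c : P} (hc : c ≠ 1) : ∃ y ∈ zpowers c, y ≠ 1 ∧ y ^ p = 1 := by
  obtain ⟨k, hk⟩ := IsPGroup.iff_orderOf.mp hP c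
  rcases k with _ | k
  · exact absurd (orderOf_eq_one_iff.mp (by simpa using hk)) hc
  refine ⟨c ^ p ^ k, pow_mem (mem_zpowers c) _, fun e => ?_, ?_⟩
  · have := Nat.le_of_dvd (pow_pos hp.out.pos k) (orderOf_dvd_of_pow_eq_one e)
    rw [hk, pow_succ] at this
    exact absurd this (not_le.mpr (lt_mul_of_one_lt_right (pow_pos hp.out.pos k) hp.out.one_lt))
  · rw [← pow_mul, ← pow_succ, ← hk, pow_orderOf_eq_one]

end CfsgLib.BicyclicFactor
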