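import Cfsg.Agent.Lib.BicyclicFactor.Two
import Cfsg.Agent.Lib.AlmostCyclic.SylowTypes
import Cfsg.Agent.S0205

/-!
# A group which is the product of a cyclic group and a group with cyclic Sylow subgroups
-/

set_option autoImplicit false
set_option linter.unusedSectionVars false
set_option linter.unusedVariables false
set_option linter.style.haveILetI false
set_option maxHeartbeats 400000

namespace CfsgLib.BicyclicFactor

open Subgroup

universe u

variable {G : Type u} [Group G] [Finite G] {A B : Subgroup G}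

/-- The hypotheses, with trivial solvable radical. -/
structure Hyp (G : Type u) [Group G] (A B : Subgroup G) : Prop where
  hns : ¬ Group.IsSolvable G
  hA : IsCyclic ↥A
  hB : ∀ (q : ℕ) [Fact q.Prime] (Q : Sylow q ↥B), IsCyclic ↥(Q : Subgroup ↥B)
  hAB : ∀ g : G, ∃ a ∈ A, ∃ b ∈ B, g = a * b
  hR : ∀ N : Subgroup G, N.Normal → Group.IsSolvable ↥N → N = ⊥

theorem Hyp.isZGroup (h : Hyp G A B) : IsZGroup ↥B :=
  ⟨fun p hp P => by haveI := Fact.mk hp; exact h.hB p P⟩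

theorem Hyp.solvB (h : Hyp G A B) : Group.IsSolvable ↥B := by
  haveI := h.isZGroup
  infer_instance

theorem Hyp.commA (h : Hyp G A B) {x y : G} (hx : x ∈ A) (hy : y ∈ A) : x * y = y * x := by
  haveI := h.hA
  let _ : CommGroup ↥A := IsCyclic.commGroup
  exact congrArg Subtype.val (mul_comm (⟨x, hx⟩ : A) ⟨y, hy⟩)

theorem isSolvable_of_le {H K : Subgroup G} (h : Group.IsSolvable ↥K) (hle : H ≤ K) : Group.IsSolvable ↥H := by
  haveI := h
  exact Group.isSolvable_of_isSolvable_injective (f := inclusion hle) (inclusion_injective hle)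

theorem Hyp.inf_eq_bot (h : Hyp G A B) : A ⊓ B = ⊥ := by
  set N := normalClosure ((A ⊓ B : Subgroup G) : Set G) with hN
  have hNB : N ≤ B := by
    refine (closure_le _).mpr ?_
    intro x hx
    obtain ⟨y, hy, hxy⟩ := Group.mem_conjugatesOfSet_iff.mp hx
    obtain ⟨g, rfl⟩ := isConj_iff.mp hxy
    obtain ⟨a, ha, b, hb, e⟩ := h.hAB g⁻¹
    have hg : g = b⁻¹ * a⁻¹ := by rw [← mul_inv_rev, ← e, inv_inv]
    obtain ⟨hyA, hyB⟩ := mem_inf.mp hy
    rw [SetLike.mem_coe, hg, mul_inv_rev, inv_inv, inv_inv,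
      show b⁻¹ * a⁻¹ * y * (a * b) = b⁻¹ * (a⁻¹ * (y * a)) * b by group, h.commA hyA ha,
      inv_mul_cancel_left]
    exact mul_mem (mul_mem (inv_mem hb) hyB) hb
  have := h.hR N inferInstance (isSolvable_of_le h.solvB hNB)
  exact eq_bot_iff.mpr ((le_normalClosure).trans this.le)

theorem Hyp.card_eq (h : Hyp G A B) : Nat.card G = Nat.card A * Nat.card B := by
  rw [← Nat.card_prod]
  refine (Nat.card_congr (Equiv.ofBijective (fun x : A × B => (x.1 : G) * x.2) ⟨?_, ?_⟩)).symm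
  · rintro ⟨x, y⟩ ⟨x', y'⟩ e
    have e' : (x : G) * y = x' * y' := e
    have h1 : (x' : G)⁻¹ * x = y' * (y : G)⁻¹ := by
      rw [inv_mul_eq_iff_eq_mul, ← mul_assoc, ← e', mul_inv_cancel_right]
    have h2 : (x' : G)⁻¹ * x ∈ A ⊓ B :=
      mem_inf.mpr ⟨mul_mem (inv_mem x'.2) x.2, h1 ▸ mul_mem y'.2 (inv_mem y.2)⟩
    rw [h.inf_eq_bot, mem_bot] at h2
    have h3 := h2
    rw [h1] at h3
    exact Prod.ext (Subtype.ext (inv_mul_eq_one.mp h2).symm) (Subtype.ext (mul_inv_eq_one.mp h3).symm)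
  · intro g
    obtain ⟨a, ha, b, hb, rfl⟩ := h.hAB g
    exact ⟨(⟨a, ha⟩, ⟨b, hb⟩), rfl⟩

/-- No conjugate of a nontrivial element of `A` lies in `B`. -/
theorem Hyp.not_conj (h : Hyp G A B) {y g : G} (hy : y ∈ A) (hg : g * y * g⁻¹ ∈ B) : y = 1 := by
  obtain ⟨a, ha, b, hb, e⟩ := h.hAB g⁻¹
  have hg' : g = b⁻¹ * a⁻¹ := by rw [← mul_inv_rev, ← e, inv_inv]
  rw [hg', show b⁻¹ * a⁻¹ * y * (b⁻¹ * a⁻¹)⁻¹ = b⁻¹ * (a⁻¹ * (y * a)) * b by group, h.commA hy ha,
    inv_mul_cancel_left] at hg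
  have : y ∈ A ⊓ B := mem_inf.mpr ⟨hy, by
    have := mul_mem (mul_mem hb hg) (inv_mem hb)
    rwa [show b * (b⁻¹ * y * b) * b⁻¹ = y by group] at this⟩
  rwa [h.inf_eq_bot, mem_bot] at this

/-- A Sylow subgroup adapted to the factorisation. -/
theorem Hyp.sylow_fac (h : Hyp G A B) (p : ℕ) [hp : Fact p.Prime] :
    ∃ (P : Sylow p G) (a b : ↥(P : Subgroup G)), (a : G) ∈ A ∧ (b : G) ∈ B ∧ Fac p ↥(P : Subgroup G) a b := by
  obtain ⟨PA⟩ : Nonempty (Sylow p ↥A) := inferInstance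
  obtain ⟨PB⟩ : Nonempty (Sylow p ↥B) := inferInstance
  haveI := h.hA
  haveI := h.hB p PB
  haveI : IsCyclic ↥(PA : Subgroup ↥A) := Subgroup.isCyclic _
  obtain ⟨⟨ga, hga⟩, hgaG⟩ := IsCyclic.exists_generator (α := ↥(PA : Subgroup ↥A))
  obtain ⟨⟨gb, hgb⟩, hgbG⟩ := IsCyclic.exists_generator (α := ↥(PB : Subgroup ↥B))
  have hoa : orderOf (ga : G) = p ^ (Nat.card A).factorization p := by
    have := orderOf_eq_card_of_forall_mem_zpowers hgaG
    rw [orderOf_mk] at this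
    rw [orderOf_coe, this, PA.card_eq_multiplicity]
  have hob : orderOf (gb : G) = p ^ (Nat.card B).factorization p := by
    have := orderOf_eq_card_of_forall_mem_zpowers hgbG
    rw [orderOf_mk] at this
    rw [orderOf_coe, this, PB.card_eq_multiplicity]
  have hpa : IsPGroup p (zpowers (ga : G)) := IsPGroup.of_card ((Nat.card_zpowers _).trans hoa)
  have hpb : IsPGroup p (zpowers (gb : G)) := IsPGroup.of_card ((Nat.card_zpowers _).trans hob)
  obtain ⟨P, hP⟩ := hpa.exists_le_sylow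
  obtain ⟨P1, hP1⟩ := hpb.exists_le_sylow
  obtain ⟨g, hg⟩ := MulAction.exists_smul_eq G P1 P
  obtain ⟨a1, ha1, b1, hb1, rfl⟩ := h.hAB g
  have haP : (ga : G) ∈ ((a1⁻¹ • P : Sylow p G) : Subgroup G) := by
    rw [Sylow.coe_subgroup_smul]
    refine ⟨ga, hP (mem_zpowers _), ?_⟩
    simp only [MulDistribMulAction.toMonoidEnd_apply, MulDistribMulAction.toMonoidHom_apply, MulAut.smul_def,
      MulAut.conj_apply]
    rw [inv_inv, mul_assoc, h.commA ga.2 ha1, inv_mul_cancel_left]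
  have hbP : b1 * (gb : G) * b1⁻¹ ∈ ((a1⁻¹ • P : Sylow p G) : Subgroup G) := by
    rw [← hg, ← mul_smul, inv_mul_cancel_left, Sylow.coe_subgroup_smul]
    exact ⟨gb, hP1 (mem_zpowers _), rfl⟩
  set P' : Sylow p G := a1⁻¹ • P with hP'
  let a : ↥(P' : Subgroup G) := ⟨ga, haP⟩
  let b : ↥(P' : Subgroup G) := ⟨b1 * gb * b1⁻¹, hbP⟩
  have hbB : (b : G) ∈ B := mul_mem (mul_mem hb1 gb.2) (inv_mem hb1)
  have hdis : zpowers a ⊓ zpowers b = ⊥ := by
    refine eq_bot_iff.mpr fun x hx => ?_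
    obtain ⟨hx1, hx2⟩ := mem_inf.mp hx
    obtain ⟨k, hk⟩ := mem_zpowers_iff.mp hx1
    obtain ⟨l, hl⟩ := mem_zpowers_iff.mp hx2
    have : (x : G) ∈ A ⊓ B :=
      mem_inf.mpr ⟨by rw [← hk, Subgroup.coe_zpow]; exact zpow_mem ga.2 k,
        by rw [← hl, Subgroup.coe_zpow]; exact zpow_mem hbB l⟩
    rw [h.inf_eq_bot, mem_bot] at this
    exact mem_bot.mpr (Subtype.ext this)
  refine ⟨P', a, b, ga.2, hbB, P'.2, ?_, hdis⟩
  let f : zpowers a × zpowers b → ↥(P' : Subgroup G) := fun x => (x.1 : ↥(P' : Subgroup G)) * x.2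
  have hf : Function.Injective f := by
    rintro ⟨u, v⟩ ⟨u', v'⟩ e
    have e' : (u : ↥(P' : Subgroup G)) * v = u' * v' := e
    have h1 : (u' : ↥(P' : Subgroup G))⁻¹ * u = v' * (v : ↥(P' : Subgroup G))⁻¹ := by
      rw [inv_mul_eq_iff_eq_mul, ← mul_assoc, ← e', mul_inv_cancel_right]
    have h2 : (u' : ↥(P' : Subgroup G))⁻¹ * u ∈ zpowers a ⊓ zpowers b :=
      mem_inf.mpr ⟨mul_mem (inv_mem u'.2) u.2, h1 ▸ mul_mem v'.2 (inv_mem v.2)⟩
    rw [hdis, mem_bot] at h2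
    have h3 := h2
    rw [h1] at h3
    exact Prod.ext (Subtype.ext (inv_mul_eq_one.mp h2).symm) (Subtype.ext (mul_inv_eq_one.mp h3).symm)
  have hoa' : orderOf a = p ^ (Nat.card A).factorization p := (orderOf_mk _ haP).trans hoa
  have hob' : orderOf b = p ^ (Nat.card B).factorization p := by
    rw [orderOf_mk _ hbP]
    exact (orderOf_injective (MulAut.conj b1).toMonoidHom (MulEquiv.injective _) _).trans hob
  have hcard : Nat.card (zpowers a × zpowers b) = Nat.card ↥(P' : Subgroup G) := by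
    rw [Nat.card_prod, Nat.card_zpowers, Nat.card_zpowers, hoa', hob', ← pow_add, P'.card_eq_multiplicity, h.card_eq,
      Nat.factorization_mul Nat.card_pos.ne' Nat.card_pos.ne', Finsupp.add_apply]
  intro x
  obtain ⟨⟨u, v⟩, e⟩ := ((Nat.bijective_iff_injective_and_card f).mpr ⟨hf, hcard⟩).2 x
  exact ⟨u, u.2, v, v.2, e.symm⟩

theorem Hyp.center_eq_bot (h : Hyp G A B) : center G = ⊥ :=
  h.hR _ inferInstance (Group.isSolvable_of_comm fun a b => Subtype.ext (mem_center_iff.mp b.2 (a : G)))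

theorem Hyp.core_eq_bot (h : Hyp G A B) : Cfsg.pPrimeCore 2 G = ⊥ :=
  h.hR _ inferInstance (Cfsg.Agent.S0205.result
    (Nat.coprime_two_right.1 (CfsgLib.card_pPrimeCore_coprime 2)))

/-- No involution is isolated. -/
theorem Hyp.exists_moved (h : Hyp G A B) {z : G} (hz : orderOf z = 2) :
    ∃ g : G, Commute z (g * z * g⁻¹) ∧ g * z * g⁻¹ ≠ z := by
  by_contra hc
  push Not at hc
  have hiso : Cfsg.IsIsolated z := hc
  have hmem : z ∈ center G := mem_center_iff.mpr fun g => by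
    have h1 := CfsgLib.ZStar.main_aux _ G rfl z hz hiso g
    rw [h.core_eq_bot, mem_bot] at h1
    calc g * z = (z * g * z⁻¹ * g⁻¹) * (g * z) := by rw [h1, one_mul]
      _ = z * g := by group
  rw [h.center_eq_bot, mem_bot] at hmem
  rw [hmem, orderOf_one] at hz
  norm_num at hz

end CfsgLib.BicyclicFactor
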