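import Cfsg.Agent.Lib.BicyclicFactor.RankTwo
import Cfsg.Agent.S0721
import Cfsg.Agent.Lib.Solvable.Huppert

/-!
# The socle
-/

set_option autoImplicit false
set_option linter.unusedSectionVars false
set_option linter.unusedVariables false
set_option linter.style.haveILetI false
set_option maxHeartbeats 400000

namespace CfsgLib.BicyclicFactor

open Subgroup

universe u

/-- A simple nonsolvable group has two-rank at least two. -/
theorem simple_rank {T : Type u} [Group T] [Finite T] [IsSimpleGroup T] (hns : ¬ Group.IsSolvable T) :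
    ¬ Cfsg.PRankLE 2 1 T := by
  intro h1
  haveI := Fact.mk Nat.prime_two
  have heven : 2 ∣ Nat.card T := by
    by_contra hc
    exact hns (Cfsg.Agent.S0205.result (Nat.odd_iff.mpr (Nat.two_dvd_ne_zero.mp hc)))
  obtain ⟨z, hz⟩ := exists_prime_orderOf_dvd_card' (G := T) 2 heven
  refine CfsgLib.AlmostCyclic.no_isolated hns z ⟨hz, fun g hg => ?_⟩
  set w := g * z * g⁻¹ with hw
  by_contra hne
  have hwo : orderOf w = 2 := (orderOf_injective (MulAut.conj g).toMonoidHom (MulEquiv.injective _) _).trans hz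
  set A := closure ({z, w} : Set T) with hA
  have hcomm : IsMulCommutative A := Subgroup.isMulCommutative_closure (by
    simp only [Set.mem_insert_iff, Set.mem_singleton_iff]
    rintro a (rfl | rfl) b (rfl | rfl)
    exacts [rfl, hg.eq, hg.eq.symm, rfl])
  have hexp : ∀ a ∈ A, a ^ 2 = 1 := by
    intro a ha
    induction ha using Subgroup.closure_induction with
    | mem x hx =>
      rcases hx with rfl | rfl
      · rw [← hz, pow_orderOf_eq_one]
      · rw [← hwo, pow_orderOf_eq_one]
    | one => exact one_pow 2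
    | mul x y hx hy ex ey =>
      rw [(show Commute x y from congrArg Subtype.val (hcomm.is_comm.comm (⟨x, hx⟩ : A) ⟨y, hy⟩)).mul_pow,
        ex, ey, one_mul]
    | inv x hx ex => rw [inv_pow, ex, inv_one]
  have h2 := h1 A hcomm hexp
  classical
  haveI : Fintype A := Fintype.ofFinite A
  have h3 : ({1, ⟨z, subset_closure (Or.inl rfl)⟩, ⟨w, subset_closure (Or.inr rfl)⟩} : Finset A).card = 3 := by
    rw [Finset.card_insert_of_notMem, Finset.card_insert_of_notMem, Finset.card_singleton]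
    · simp only [Finset.mem_singleton]
      exact fun e => hne (congrArg Subtype.val e).symm
    · simp only [Finset.mem_insert, Finset.mem_singleton, not_or]
      refine ⟨fun e => ?_, fun e => ?_⟩
      · rw [← show (1 : T) = z from congrArg Subtype.val e, orderOf_one] at hz; norm_num at hz
      · rw [← show (1 : T) = w from congrArg Subtype.val e, orderOf_one] at hwo; norm_num at hwo
  have h4 := Finset.card_le_univ ({1, ⟨z, subset_closure (Or.inl rfl)⟩, ⟨w, subset_closure (Or.inr rfl)⟩} : Finset A)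
  rw [h3, ← Nat.card_eq_fintype_card] at h4
  omega

/-- Two commuting elementary four-groups with trivial intersection do not fit into two-rank two. -/
theorem no_square {G S T : Type*} [Group G] [Finite G] [Group S] [Finite S] [Group T] [Finite T]
    (hS : ¬ Cfsg.PRankLE 2 1 S) (hT : ¬ Cfsg.PRankLE 2 1 T) (hG : Cfsg.PRankLE 2 2 G) (φ : S × T →* G)
    (hφ : Function.Injective φ) : False := by
  simp only [Cfsg.PRankLE, not_forall] at hS hT
  obtain ⟨X, hX, hX2, hXc⟩ := hS
  obtain ⟨Y, hY, hY2, hYc⟩ := hT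
  have h := hG ((X.prod Y).map φ) ⟨⟨?_⟩⟩ ?_
  · rw [← Nat.card_congr ((X.prod Y).equivMapOfInjective φ hφ).toEquiv, Nat.card_congr (X.prodEquiv Y).toEquiv,
      Nat.card_prod] at h
    have h1 : 3 ≤ Nat.card X := by omega
    have h2 : 3 ≤ Nat.card Y := by omega
    have := Nat.mul_le_mul h1 h2
    omega
  · rintro ⟨_, p, hp, rfl⟩ ⟨_, q, hq, rfl⟩
    refine Subtype.ext ?_
    show φ p * φ q = φ q * φ p
    rw [← map_mul, ← map_mul]
    refine congrArg φ (Prod.ext ?_ ?_)
    · exact congrArg Subtype.val (hX.is_comm.comm (⟨p.1, (mem_prod.mp hp).1⟩ : X) ⟨q.1, (mem_prod.mp hq).1⟩)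
    · exact congrArg Subtype.val (hY.is_comm.comm (⟨p.2, (mem_prod.mp hp).2⟩ : Y) ⟨q.2, (mem_prod.mp hq).2⟩)
  · rintro _ ⟨p, hp, rfl⟩
    rw [← map_pow, show p ^ 2 = 1 from Prod.ext (hX2 _ (mem_prod.mp hp).1) (hY2 _ (mem_prod.mp hp).2), map_one]

variable {G : Type u} [Group G] [Finite G] {A B : Subgroup G}

theorem Hyp.minimal_simple (h : Hyp G A B) {N : Subgroup G} [N.Normal] (hN : N ≠ ⊥)
    (hmin : ∀ M : Subgroup G, M.Normal → M ≤ N → M = ⊥ ∨ M = N) :
    IsSimpleGroup ↥N ∧ ¬ Group.IsSolvable ↥N := by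
  have hns : ¬ Group.IsSolvable ↥N := fun hs => hN (h.hR N inferInstance hs)
  obtain ⟨T, _, m, hT, hm, ⟨e⟩⟩ := Cfsg.Agent.S0721.result N hN hmin
  haveI : Finite (Fin m → T) := Finite.of_equiv _ e.toEquiv
  haveI : Nonempty (Fin m) := ⟨⟨0, hm⟩⟩
  haveI : Finite T := Finite.of_surjective (fun f : Fin m → T => f ⟨0, hm⟩) fun x => ⟨fun _ => x, rfl⟩
  have hTns : ¬ Group.IsSolvable T := by
    intro hTs
    refine hns ?_
    haveI : Group.IsSolvable (Fin m → T) := Group.isSolvable_of_comm
      fun f g => funext fun i => IsSimpleGroup.comm_iff_isSolvable.mpr hTs (f i) (g i)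
    exact Group.isSolvable_of_isSolvable_injective (f := e.toMonoidHom) e.injective
  haveI : Subsingleton (Fin m) := by
    rcases lt_or_ge 1 m with h2 | h2
    · exfalso
      let i : Fin m := ⟨0, hm⟩
      let j : Fin m := ⟨1, h2⟩
      have hij : i ≠ j := by simp [i, j, Fin.ext_iff]
      let φ : T × T →* G := N.subtype.comp (e.symm.toMonoidHom.comp
        (((MonoidHom.mulSingle (fun _ => T) i).noncommCoprod (MonoidHom.mulSingle (fun _ => T) j)
          fun x y => Pi.mulSingle_commute (f := fun _ : Fin m => T) hij x y)))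
      refine no_square (simple_rank hTns) (simple_rank hTns) h.rank_le_two φ ?_
      rintro ⟨x, y⟩ ⟨x', y'⟩ e'
      have e2 : ((Pi.mulSingle i x : Fin m → T) * Pi.mulSingle j y) = Pi.mulSingle i x' * Pi.mulSingle j y' :=
        e.symm.injective (N.subtype_injective e')
      have hx := congrFun e2 i
      have hy := congrFun e2 j
      rw [Pi.mul_apply, Pi.mul_apply, Pi.mulSingle_eq_same, Pi.mulSingle_eq_of_ne hij, mul_one,
        Pi.mulSingle_eq_same, Pi.mulSingle_eq_of_ne hij, mul_one] at hx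
      rw [Pi.mul_apply, Pi.mul_apply, Pi.mulSingle_eq_of_ne (Ne.symm hij), Pi.mulSingle_eq_same, one_mul,
        Pi.mulSingle_eq_of_ne (Ne.symm hij), Pi.mulSingle_eq_same, one_mul] at hy
      rw [hx, hy]
    · exact Fin.subsingleton_iff_le_one.mpr h2
  let e1 : (Fin m → T) ≃* T :=
    { toFun := fun f => f ⟨0, hm⟩
      invFun := fun x _ => x
      left_inv := fun f => funext fun i => by rw [Subsingleton.elim i ⟨0, hm⟩]
      right_inv := fun x => rfl
      map_mul' := fun f g => rfl }
  haveI := hT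
  exact ⟨MulEquiv.isSimpleGroup (e.trans e1), hns⟩

theorem Hyp.centralizer_eq_bot (h : Hyp G A B) {N : Subgroup G} [N.Normal] (hN : N ≠ ⊥)
    (hmin : ∀ M : Subgroup G, M.Normal → M ≤ N → M = ⊥ ∨ M = N) : centralizer (N : Set G) = ⊥ := by
  by_contra hC
  obtain ⟨hNs, hNns⟩ := h.minimal_simple hN hmin
  obtain ⟨M, hMn, hMC, hM, hMmin⟩ := CfsgLib.exists_minimal_normal (N := centralizer (N : Set G)) hC
  haveI := hMn
  obtain ⟨hMs, hMns⟩ := h.minimal_simple hM (fun K hK hKM => hMmin K hK hKM)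
  have hcomm : ∀ (x : N) (y : M), Commute (N.subtype x) (M.subtype y) := fun x y => hMC y.2 x x.2
  refine no_square (simple_rank hNns) (simple_rank hMns) h.rank_le_two
    (N.subtype.noncommCoprod M.subtype hcomm) ?_
  rw [injective_iff_map_eq_one]
  rintro ⟨x, y⟩ e'
  have e1 : (x : G) = (y : G)⁻¹ := mul_eq_one_iff_eq_inv.mp e'
  have hxc : (x : G) ∈ centralizer (N : Set G) := e1 ▸ inv_mem (hMC y.2)
  have hx1 : x = 1 := by
    have hxZ : x ∈ center ↥N := mem_center_iff.mpr fun z => Subtype.ext (hxc z z.2)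
    rcases (inferInstance : (center ↥N).Normal).eq_bot_or_eq_top with hz | hz
    · rw [hz, mem_bot] at hxZ; exact hxZ
    · exact absurd (Group.isSolvable_of_comm fun a b : ↥N =>
        mem_center_iff.mp (show b ∈ center ↥N by rw [hz]; trivial) a) hNns
  refine Prod.ext hx1 ?_
  rw [hx1] at e1
  exact Subtype.ext (inv_eq_one.mp e1.symm)

theorem Hyp.exists_socle (h : Hyp G A B) : ∃ N : Subgroup G, N.Normal ∧ IsSimpleGroup ↥N ∧ ¬ Group.IsSolvable ↥N ∧
    centralizer (N : Set G) = ⊥ ∧ ∀ K : Subgroup G, K.Normal → K ≠ ⊥ → N ≤ K := by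
  have htop : (⊤ : Subgroup G) ≠ ⊥ := fun e => h.hns (isSolvable_of_top_eq_bot G e)
  obtain ⟨N, hNn, -, hN, hmin⟩ := CfsgLib.exists_minimal_normal (N := (⊤ : Subgroup G)) htop
  haveI := hNn
  obtain ⟨h1, h2⟩ := h.minimal_simple hN hmin
  refine ⟨N, hNn, h1, h2, h.centralizer_eq_bot hN hmin, fun K hK hK1 => ?_⟩
  rcases hmin (N ⊓ K) inferInstance inf_le_left with e | e
  · exfalso
    haveI := hK
    have hle : K ≤ centralizer (N : Set G) := fun k hk n hn => by
      have h3 : k * n * k⁻¹ * n⁻¹ ∈ N ⊓ K := mem_inf.mpr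
        ⟨mul_mem (hNn.conj_mem n hn k) (inv_mem hn), by
          rw [show k * n * k⁻¹ * n⁻¹ = k * (n * k⁻¹ * n⁻¹) by group]
          exact mul_mem hk (hK.conj_mem _ (inv_mem hk) n)⟩
      rw [e, mem_bot, mul_inv_eq_one, mul_inv_eq_iff_eq_mul] at h3
      exact h3.symm
    rw [h.centralizer_eq_bot hN hmin] at hle
    exact hK1 (le_bot_iff.mp hle)
  · exact e ▸ inf_le_right

end CfsgLib.BicyclicFactor
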