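import Cfsg.Agent.Lib.BicyclicFactor.Coset

/-!
# Involutions of a bicyclic two-group
-/

set_option autoImplicit false
set_option linter.unusedSectionVars false
set_option linter.unusedVariables false
set_option linter.style.haveILetI false

namespace CfsgLib.BicyclicFactor

open Subgroup
open scoped commutatorElement

universe u

variable {P : Type u} [Group P] [Finite P] {a b y t : P}

/-- A bicyclic two-group with both factors of order at least four, and the involutions of the factors. -/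
structure Two (P : Type u) [Group P] (a b y t : P) : Prop where
  fac : Fac 2 P a b
  a2 : a ^ 2 ≠ 1
  b2 : b ^ 2 ≠ 1
  ya : y ∈ zpowers a
  y1 : y ≠ 1
  yy : y ^ 2 = 1
  tb : t ∈ zpowers b
  t1 : t ≠ 1
  tt : t ^ 2 = 1

theorem exists_two (h : Fac 2 P a b) (ha : a ^ 2 ≠ 1) (hb : b ^ 2 ≠ 1) : ∃ y t : P, Two P a b y t := by
  haveI := Fact.mk Nat.prime_two
  obtain ⟨y, hy, hy1, hy2⟩ := exists_root h.pgroup (c := a) (fun e => ha (by rw [e, one_pow]))
  obtain ⟨t, ht, ht1, ht2⟩ := exists_root h.pgroup (c := b) (fun e => hb (by rw [e, one_pow]))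
  exact ⟨y, t, h, ha, hb, hy, hy1, hy2, ht, ht1, ht2⟩

theorem Two.symm (h : Two P a b y t) : Two P b a t y :=
  ⟨h.fac.symm, h.b2, h.a2, h.tb, h.t1, h.tt, h.ya, h.y1, h.yy⟩

variable [hp : Fact (Nat.Prime 2)]

theorem Two.y_unique (h : Two P a b y t) {z : P} (hz : z ∈ zpowers a) (hz2 : z ^ 2 = 1) : z = 1 ∨ z = y := by
  obtain ⟨k, rfl⟩ := mem_zpowers_iff.mp (mem_zpowers_of_root h.ya hz h.y1 h.yy hz2)
  rcases Int.even_or_odd' k with ⟨m, rfl | rfl⟩
  · left; rw [zpow_mul, zpow_two, ← pow_two, h.yy, one_zpow]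
  · right; rw [zpow_add, zpow_mul, zpow_two, ← pow_two, h.yy, one_zpow, one_mul, zpow_one]

theorem Two.t_unique (h : Two P a b y t) {z : P} (hz : z ∈ zpowers b) (hz2 : z ^ 2 = 1) : z = 1 ∨ z = t :=
  h.symm.y_unique hz hz2

/-- The involutions of the Frattini subgroup. -/
theorem Two.inner (h : Two P a b y t) {x : P} (hx : x ∈ Q 2 a b 1) (hx2 : x ^ 2 = 1) :
    x = 1 ∨ x = y ∨ x = t ∨ x = y * t := by
  obtain ⟨u, hu, v, hv, rfl⟩ := h.fac.prod x
  obtain ⟨h1, h2⟩ := h.fac.roots hu hv (Or.inr hx) hx2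
  rcases h.y_unique hu h1 with rfl | rfl <;> rcases h.t_unique hv h2 with rfl | rfl <;> simp

theorem Two.y_mem (h : Two P a b y t) : y ∈ Q 2 a b 1 := by
  obtain ⟨z, hz, hz1, hz2⟩ := exists_root h.fac.pgroup (c := a ^ 2) h.a2
  have := (h.y_unique (zpowers_pow_le a 2 hz) hz2).resolve_left hz1
  rw [← this]
  exact zpowers_le_Q_left a b 1 (by simpa using hz)

theorem Two.t_mem (h : Two P a b y t) : t ∈ Q 2 a b 1 := by
  rw [← Q_comm 2 a b]; exact h.symm.y_mem

theorem Two.y_ne_t (h : Two P a b y t) : y ≠ t := fun e => by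
  have : y ∈ zpowers a ⊓ zpowers b := mem_inf.mpr ⟨h.ya, e ▸ h.tb⟩
  rw [h.fac.disj, mem_bot] at this
  exact h.y1 this

theorem Two.yt_ne (h : Two P a b y t) : y * t ≠ 1 ∧ y * t ≠ y ∧ y * t ≠ t :=
  ⟨fun e => h.y_ne_t ((mul_eq_one_iff_eq_inv.mp e).trans (inv_eq_of_mul_eq_one_right (by rw [← pow_two, h.tt]))),
    fun e => h.t1 (mul_eq_left.mp e), fun e => h.y1 (mul_eq_right.mp e)⟩

theorem Two.comm (h : Two P a b y t) : Commute y t := by
  haveI := h.fac.normal_Q 1
  have ht2 : t * t = 1 := by rw [← pow_two, h.tt]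
  have tinv : t⁻¹ = t := inv_eq_of_mul_eq_one_right ht2
  have hm : t * y * t⁻¹ ∈ Q 2 a b 1 := (inferInstance : (Q 2 a b 1).Normal).conj_mem y h.y_mem t
  rcases h.inner hm (by rw [conj_pow, h.yy, mul_one, mul_inv_cancel]) with e | e | e | e
  · exact absurd (conj_eq_one_iff.mp e) h.y1
  · exact (mul_inv_eq_iff_eq_mul.mp e).symm
  · exact absurd (mul_left_cancel (mul_inv_eq_iff_eq_mul.mp e)) h.y_ne_t
  · exfalso
    refine h.t1 ?_
    have e' : t * y * t⁻¹ = y * t := e
    rw [mul_inv_eq_iff_eq_mul, mul_assoc, ht2, mul_one] at e'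
    exact mul_eq_right.mp e'

theorem Two.y_sq (h : Two P a b y t) : ∃ z : P, z ^ 2 = y := by
  obtain ⟨z, hz, hz1, hz2⟩ := exists_root h.fac.pgroup (c := a ^ 2) h.a2
  obtain ⟨k, hk⟩ := mem_zpowers_iff.mp hz
  refine ⟨a ^ k, ?_⟩
  rw [← (h.y_unique (zpowers_pow_le a 2 hz) hz2).resolve_left hz1, ← hk, ← zpow_natCast, ← zpow_mul, mul_comm,
    zpow_mul, zpow_natCast]

/-- An involution outside the Frattini subgroup has no component in it. -/
theorem Two.outer_left (h : Two P a b y t) {u v : P} (hu : u ∈ zpowers a) (hv : v ∈ zpowers b)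
    (hx2 : (u * v) ^ 2 = 1) (hx : u * v ∉ Q 2 a b 1) : u ∉ zpowers (a ^ 2) := by
  intro hu2
  have hu1 : u ∈ Q 2 a b 1 := zpowers_le_Q_left a b 1 (by simpa using hu2)
  have hv1 : v ∉ Q 2 a b 1 := fun h' => hx (mul_mem hu1 h')
  have h1 := h.fac.symm.root_left hv hu (Or.inr (by rw [Q_comm]; exact hu1))
    (by rw [show v * u = v * (u * v) * v⁻¹ by group, conj_pow, hx2, mul_one, mul_inv_cancel])
  rcases h.t_unique hv h1 with e | e
  · rw [e] at hv1; exact hv1 (one_mem _)
  · rw [e] at hv1; exact hv1 h.t_mem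

theorem gen_of_odd {c w : P} (hP : IsPGroup 2 P) (hw : w ∈ zpowers c) (hw' : w ∉ zpowers (c ^ 2)) :
    c ∈ zpowers w := by
  obtain ⟨k, rfl⟩ := mem_zpowers_iff.mp hw
  obtain ⟨n, hn⟩ := IsPGroup.iff_orderOf.mp hP c
  have hk : ¬ (2 : ℤ) ∣ k := by
    rintro ⟨j, rfl⟩
    exact hw' (mem_zpowers_iff.mpr ⟨j, by rw [← zpow_natCast, ← zpow_mul]; rfl⟩)
  have hco : IsCoprime k (orderOf c : ℤ) := by
    rw [hn, Nat.cast_pow]
    exact ((Int.prime_two.coprime_iff_not_dvd.mpr hk).symm).pow_right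
  obtain ⟨i, j, hij⟩ := hco
  refine mem_zpowers_iff.mpr ⟨i, ?_⟩
  rw [← zpow_mul, mul_comm k, eq_sub_of_add_eq hij, zpow_sub, zpow_one, mul_comm j, zpow_mul, zpow_natCast,
    pow_orderOf_eq_one, one_zpow, inv_one, mul_one]

/-- The decomposition of an involution outside the Frattini subgroup. -/
theorem Two.outer (h : Two P a b y t) {x : P} (hx2 : x ^ 2 = 1) (hx : x ∉ Q 2 a b 1) :
    ∃ u v : P, u ∈ zpowers a ∧ v ∈ zpowers b ∧ x = u * v ∧ a ∈ zpowers u ∧ b ∈ zpowers v := by
  obtain ⟨u, hu, v, hv, rfl⟩ := h.fac.prod x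
  refine ⟨u, v, hu, hv, rfl, gen_of_odd h.fac.pgroup hu (h.outer_left hu hv hx2 hx), gen_of_odd h.fac.pgroup hv ?_⟩
  refine h.symm.outer_left hv hu ?_ ?_
  · rw [show v * u = v * (u * v) * v⁻¹ by group, conj_pow, hx2, mul_one, mul_inv_cancel]
  · rw [Q_comm]
    intro h'
    haveI := h.fac.normal_Q 1
    have := (inferInstance : (Q 2 a b 1).Normal).conj_mem _ h' v⁻¹
    rw [inv_inv, ← mul_assoc, inv_mul_cancel, one_mul] at this
    exact hx this

/-- An involution centralising both involutions of the factors and outside their four-group makes them central. -/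
theorem Two.central (h : Two P a b y t) {e : P} (he2 : e ^ 2 = 1) (he : e ∉ Q 2 a b 1) (hey : Commute e y)
    (het : Commute e t) : (∀ g : P, Commute g y) ∧ ∀ g : P, Commute g t := by
  obtain ⟨u, v, hu, hv, rfl, hau, hbv⟩ := h.outer he2 he
  have hpow : ∀ {c z : P}, z ∈ zpowers c → Commute c z := by
    intro c z hz
    obtain ⟨k, rfl⟩ := mem_zpowers_iff.mp hz
    exact (Commute.refl c).zpow_right k
  have hay := hpow h.ya
  have hbt := hpow h.tb
  have huy : Commute u y := by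
    obtain ⟨k, rfl⟩ := mem_zpowers_iff.mp hu
    exact hay.zpow_left k
  have hvt : Commute v t := by
    obtain ⟨k, rfl⟩ := mem_zpowers_iff.mp hv
    exact hbt.zpow_left k
  have hvy : Commute v y := by
    have := huy.inv_left.mul_left hey
    rwa [inv_mul_cancel_left] at this
  have hut : Commute u t := by
    have := het.mul_left hvt.inv_left
    rwa [mul_inv_cancel_right] at this
  have hat : Commute a t := by
    obtain ⟨k, hk⟩ := mem_zpowers_iff.mp hau
    rw [← hk]; exact hut.zpow_left k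
  have hby : Commute b y := by
    obtain ⟨k, hk⟩ := mem_zpowers_iff.mp hbv
    rw [← hk]; exact hvy.zpow_left k
  refine ⟨fun g => ?_, fun g => ?_⟩ <;>
  · obtain ⟨c, hc, d, hd, rfl⟩ := h.fac.prod g
    obtain ⟨k, rfl⟩ := mem_zpowers_iff.mp hc
    obtain ⟨l, rfl⟩ := mem_zpowers_iff.mp hd
    first | exact (hay.zpow_left k).mul_left (hby.zpow_left l) | exact (hat.zpow_left k).mul_left (hbt.zpow_left l)

/-- Of three involutions outside the Frattini subgroup two are conjugate. -/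
theorem Two.three_conj (h : Two P a b y t) {e : Fin 3 → P} (he : ∀ i, e i ^ 2 = 1)
    (heQ : ∀ i, e i ∉ Q 2 a b 1) : ∃ i j, i ≠ j ∧ IsConj (e i) (e j) := by
  classical
  set K := commutator P with hK
  have hab : IsMulCommutative ↥K := by
    have h2 := Cfsg.Agent.S0572.result (zpowers a) (zpowers b) h.fac.prod
    rw [derivedSeries_succ, derivedSeries_one] at h2
    exact ⟨⟨fun x z => Subtype.ext
      (commutatorElement_eq_one_iff_commute.mp (mem_bot.mp (h2 ▸ commutator_mem_commutator x.2 z.2))).eq⟩⟩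
  have hKQ : K ≤ Q 2 a b 1 := fun x hx => by
    obtain ⟨u, hu, v, hv, rfl⟩ := (h.fac.mem_frattini x).mp (CfsgLib.commutator_le_frattini_pGroup h.fac.pgroup hx)
    exact mul_mem (zpowers_le_Q_left a b 1 (by simpa using hu)) (zpowers_le_Q_right a b 1 (by simpa using hv))
  have hroots : Nat.card {x : ↥K // x * x = 1} ≤ 4 := by
    let f : {x : ↥K // x * x = 1} → ({1, y, t, y * t} : Finset P) := fun x => ⟨(x.1 : P), by
      have := h.inner (hKQ x.1.2) (by rw [pow_two]; exact congrArg Subtype.val x.2)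
      simpa using this⟩
    have hf : Function.Injective f := fun x z e =>
      Subtype.ext (Subtype.ext (congrArg (fun w : ({1, y, t, y * t} : Finset P) => (w : P)) e))
    refine le_trans (Nat.card_le_card_of_injective f hf) ?_
    rw [Nat.card_eq_finsetCard]
    exact (Finset.card_insert_le _ _).trans (Nat.succ_le_succ ((Finset.card_insert_le _ _).trans
      (Nat.succ_le_succ ((Finset.card_insert_le _ _).trans (by simp)))))
  have hgen : ∀ i, closure ({a, e i} : Set P) = ⊤ := by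
    intro i
    obtain ⟨u, v, hu, hv, hev, hau, hbv⟩ := h.outer (he i) (heQ i)
    refine eq_top_iff.mpr fun g _ => ?_
    have hA : zpowers a ≤ closure ({a, e i} : Set P) := zpowers_le.mpr (subset_closure (Or.inl rfl))
    have hv' : v ∈ closure ({a, e i} : Set P) := by
      have : v = u⁻¹ * e i := by rw [hev, inv_mul_cancel_left]
      rw [this]; exact mul_mem (inv_mem (hA hu)) (subset_closure (Or.inr rfl))
    obtain ⟨c, hc, d, hd, rfl⟩ := h.fac.prod g
    exact mul_mem (hA hc) (zpowers_le.mpr (zpowers_le.mpr hv' hbv) hd)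
  haveI : K.Normal := inferInstance
  let π := QuotientGroup.mk' K
  have hcomm : ∀ x z : P, Commute (π x) (π z) := fun x z => by
    rw [← commutatorElement_eq_one_iff_commute, ← map_commutatorElement]
    exact (QuotientGroup.eq_one_iff _).mpr (commutator_mem_commutator (mem_top x) (mem_top z))
  -- the square roots of one among the images of the Frattini subgroup
  have hQimg : ∀ x ∈ Q 2 a b 1, π x ∈ zpowers (π a ^ 2) := by
    obtain ⟨u, v, hu, hv, hev, hau, hbv⟩ := h.outer (he 0) (heQ 0)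
    have hb : π b ^ 2 ∈ zpowers (π a ^ 2) := by
      obtain ⟨k, hk⟩ := mem_zpowers_iff.mp hbv
      obtain ⟨l, hl⟩ := mem_zpowers_iff.mp hu
      have hv' : v = (a ^ l)⁻¹ * e 0 := by rw [hev, hl, inv_mul_cancel_left]
      have he0 : π (e 0) ^ 2 = 1 := by rw [← map_pow, he 0, map_one]
      have e2 : ∀ (w : P ⧸ K) (k : ℤ), (w ^ k) ^ (2 : ℕ) = (w ^ (2 : ℕ)) ^ k := fun w k => by
        rw [← zpow_natCast, ← zpow_natCast, ← zpow_mul, ← zpow_mul, mul_comm]
      rw [← hk, map_zpow, e2, hv', map_mul, map_inv,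
        map_zpow, ((hcomm a (e 0)).zpow_left l).inv_left.mul_pow, he0, mul_one]
      refine zpow_mem ?_ k
      rw [inv_pow, inv_mem_iff, e2]
      exact zpow_mem (mem_zpowers _) l
    intro x hx
    obtain ⟨c, hc, d, hd, rfl⟩ := h.fac.mem_Q.mp hx
    obtain ⟨k, rfl⟩ := mem_zpowers_iff.mp hc
    obtain ⟨l, rfl⟩ := mem_zpowers_iff.mp hd
    rw [map_mul, map_zpow, map_zpow, pow_one, map_pow, map_pow]
    exact mul_mem (zpow_mem (mem_zpowers _) k) (zpow_mem hb l)
  have hdiff : ∀ i j, (e i)⁻¹ * e j ∈ Q 2 a b 1 := by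
    intro i j
    haveI := h.fac.normal_Q 1
    have key : ∀ i, ∃ z ∈ Q 2 a b 1, e i = a * b * z := by
      intro i
      obtain ⟨u, v, hu, hv, hev, hau, hbv⟩ := h.outer (he i) (heQ i)
      let π1 := QuotientGroup.mk' (Q 2 a b 1)
      have hsq : ∀ {c w : P}, c ^ 2 ∈ Q 2 a b 1 → w ∈ zpowers c → w ∉ Q 2 a b 1 → π1 w = π1 c := by
        intro c w hc2 hw hwQ
        obtain ⟨k, rfl⟩ := mem_zpowers_iff.mp hw
        have h2 : π1 c ^ 2 = 1 := by rw [← map_pow]; exact (QuotientGroup.eq_one_iff _).mpr hc2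
        rcases Int.even_or_odd' k with ⟨m, rfl | rfl⟩
        · refine absurd ((QuotientGroup.eq_one_iff _).mp (?_ : π1 (c ^ (2 * m)) = 1)) hwQ
          rw [map_zpow, zpow_mul, zpow_two, ← pow_two, h2, one_zpow]
        · rw [map_zpow, zpow_add, zpow_mul, zpow_two, ← pow_two, h2, one_zpow, one_mul, zpow_one]
      have huQ : u ∉ Q 2 a b 1 := fun h' =>
        h.outer_left hu hv (hev ▸ he i) (hev ▸ heQ i)
          (by have := (h.fac.mem_Q_split hu (one_mem _) (i := 1) (by rwa [mul_one])).1; rwa [pow_one] at this)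
      have hvQ : v ∉ Q 2 a b 1 := fun h' => by
        have hvu : (v * u) ^ 2 = 1 := by
          rw [show v * u = v * (u * v) * v⁻¹ by group, conj_pow, ← hev, he i, mul_one, mul_inv_cancel]
        have hvu' : v * u ∉ Q 2 b a 1 := by
          rw [Q_comm]; intro h''
          exact huQ (by simpa using mul_mem (inv_mem h') h'')
        exact h.symm.outer_left hv hu hvu hvu'
          (by have := (h.fac.mem_Q_split (one_mem _) hv (i := 1) (by rwa [one_mul])).2; rwa [pow_one] at this)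
      refine ⟨(a * b)⁻¹ * e i, (QuotientGroup.eq_one_iff _).mp (?_ : π1 _ = 1), by rw [mul_inv_cancel_left]⟩
      rw [hev, map_mul, map_inv, map_mul, map_mul, hsq (by simpa using left_mem_Q (p := 2) a b 1) hu huQ,
        hsq (by simpa using right_mem_Q (p := 2) a b 1) hv hvQ, inv_mul_cancel]
    obtain ⟨z, hz, ez⟩ := key i
    obtain ⟨w, hw, ew⟩ := key j
    rw [ez, ew, mul_inv_rev, mul_assoc, inv_mul_cancel_left]
    exact mul_mem (inv_mem hz) hw
  have hz : ∀ i, ∃ z ∈ zpowers (π a ^ 2), z ^ 2 = 1 ∧ π (e i) = π (e 0) * z := fun i =>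
    ⟨π ((e 0)⁻¹ * e i), hQimg _ (hdiff 0 i), by
      rw [map_mul, map_inv, ((hcomm (e 0) (e i)).inv_left).mul_pow, inv_pow, ← map_pow, ← map_pow, he, he, map_one,
        inv_one, one_mul], by rw [map_mul, map_inv, mul_inv_cancel_left]⟩
  choose z hz1 hz2 hz3 using hz
  have hclass : ∀ i j, z i = z j → IsConj (e i) (e j) := by
    intro i j hij
    have hk : (e i)⁻¹ * e j ∈ K := by
      refine (QuotientGroup.eq_one_iff _).mp (?_ : π _ = 1)
      rw [map_mul, map_inv, hz3 i, hz3 j, hij, inv_mul_cancel]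
    have := isConj_mul_commutator h.fac.pgroup (a := a) (e := e i) (by rw [← pow_two, he i]) (hgen i) hab hroots hk
    rwa [mul_inv_cancel_left] at this
  by_contra hcon
  push Not at hcon
  have hne : ∀ i j, i ≠ j → z i ≠ z j := fun i j hij e' => hcon i j hij (hclass i j e')
  have hz0 : ∀ i j, z i ≠ 1 → z j ≠ 1 → z i = z j := by
    intro i j hi hj
    obtain ⟨k, hk⟩ := mem_zpowers_iff.mp (mem_zpowers_of_root (hz1 i) (hz1 j) hi (hz2 i) (hz2 j))
    rcases Int.even_or_odd' k with ⟨m, rfl | rfl⟩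
    · rw [zpow_mul, zpow_two, ← pow_two, hz2 i, one_zpow] at hk
      exact absurd hk.symm hj
    · rw [zpow_add, zpow_mul, zpow_two, ← pow_two, hz2 i, one_zpow, one_mul, zpow_one] at hk
      exact hk
  by_cases h0 : z 0 = 1
  · exact hne 1 2 (by decide) (hz0 1 2 (fun h1 => hne 0 1 (by decide) (h0.trans h1.symm))
      fun h1 => hne 0 2 (by decide) (h0.trans h1.symm))
  · by_cases h1 : z 1 = 1
    · exact hne 0 2 (by decide) (hz0 0 2 h0 fun h2 => hne 1 2 (by decide) (h1.trans h2.symm))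
    · exact hne 0 1 (by decide) (hz0 0 1 h0 h1)

end CfsgLib.BicyclicFactor
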