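import Cfsg.Agent.Lib.BicyclicFactor.Socle
import Cfsg.Agent.S3559

/-!
# The primitive case: the action on the cosets of a maximal factor
-/

set_option autoImplicit false
set_option linter.unusedSectionVars false
set_option linter.unusedVariables false
set_option linter.style.haveILetI false
set_option maxHeartbeats 400000

namespace CfsgLib.BicyclicFactor

open Subgroup

universe u v

/-- In a cyclic group a normal closure is not needed: subgroups of equal order coincide. -/
theorem eq_of_card_cyclic {G : Type u} [Group G] [Finite G] {P X Y : Subgroup G} (hP : IsCyclic ↥P)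
    (hX : X ≤ P) (hY : Y ≤ P) (hc : Nat.card X = Nat.card Y) : X = Y := by
  haveI := hP
  have e := CfsgLib.PowerGraph.subgroup_eq_of_card (A := X.subgroupOf P) (B := Y.subgroupOf P)
    (by rw [Nat.card_congr (Subgroup.subgroupOfEquivOfLe hX).toEquiv,
      Nat.card_congr (Subgroup.subgroupOfEquivOfLe hY).toEquiv, hc])
  have e' := congrArg (fun K => K.map P.subtype) e
  simp only [Subgroup.subgroupOf_map_subtype] at e'
  rwa [inf_eq_left.mpr hX, inf_eq_left.mpr hY] at e'

/-- In a group with cyclic Sylow subgroups, two subgroups of the same prime order are conjugate. -/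
theorem conj_of_zgroup {K : Type u} [Group K] [Finite K] (hK : IsZGroup K) {q : ℕ} [hq : Fact q.Prime]
    {x y : K} (hx : orderOf x = q) (hy : orderOf y = q) : ∃ k : K, k * y * k⁻¹ ∈ zpowers x := by
  obtain ⟨P, hP⟩ := (IsPGroup.of_card (n := 1) ((Nat.card_zpowers x).trans (hx.trans (pow_one q).symm))).exists_le_sylow
  obtain ⟨P', hP'⟩ := (IsPGroup.of_card (n := 1) ((Nat.card_zpowers y).trans (hy.trans (pow_one q).symm))).exists_le_sylow
  obtain ⟨k, hk⟩ := MulAction.exists_smul_eq K P' P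
  refine ⟨k, ?_⟩
  have hmem : k * y * k⁻¹ ∈ (P : Subgroup K) := by
    rw [← hk, Sylow.coe_subgroup_smul]
    exact ⟨y, hP' (mem_zpowers y), rfl⟩
  haveI := hK
  have e := eq_of_card_cyclic (inferInstance : IsCyclic ↥(P : Subgroup K)) (zpowers_le.mpr hmem) hP (by
    rw [Nat.card_zpowers, Nat.card_zpowers, hx]
    exact (orderOf_injective (MulAut.conj k).toMonoidHom (MulEquiv.injective _) y).trans hy)
  exact e ▸ mem_zpowers _

theorem mem_zpowers_of_conj_eq {G : Type u} [Group G] [Finite G] {g x : G} (h : g * x * g⁻¹ ∈ zpowers x) :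
    x ∈ zpowers (g * x * g⁻¹) := by
  have : zpowers (g * x * g⁻¹) = zpowers x := Subgroup.eq_of_le_of_card_ge (zpowers_le.mpr h) (by
    rw [Nat.card_zpowers, Nat.card_zpowers]
    exact le_of_eq (orderOf_injective (MulAut.conj g).toMonoidHom (MulEquiv.injective _) x).symm)
  rw [this]
  exact mem_zpowers x

section Action

variable {G : Type u} [Group G] [Finite G] {Ω : Type v} [MulAction G Ω] [Finite Ω]

/-- A `Z`-group point stabiliser of a doubly transitive group: an element of odd prime order dividing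
the degree is central in its normaliser. -/
theorem commute_of_two_trans [FaithfulSMul G Ω] (h2 : MulAction.IsMultiplyPretransitive G Ω 2)
    (hst : ∀ a : Ω, IsZGroup ↥(MulAction.stabilizer G a)) {q : ℕ} [hq : Fact q.Prime] (hq2 : q ≠ 2)
    (hdvd : q ∣ Nat.card Ω) {x : G} (hx : orderOf x = q) {α : Ω} (hxα : x • α = α) {g : G}
    (hg : g * x * g⁻¹ ∈ zpowers x) : Commute g x := by
  classical
  set X := zpowers x with hXdef
  have hXq : IsPGroup q X := IsPGroup.of_card (n := 1) ((Nat.card_zpowers x).trans (hx.trans (pow_one q).symm))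
  -- there are at least three fixed points
  have hfixed : ∀ β : Ω, β ∈ MulAction.fixedPoints X Ω ↔ x • β = β := by
    intro β
    refine ⟨fun h => h ⟨x, mem_zpowers x⟩, fun h y => ?_⟩
    have hle : X ≤ MulAction.stabilizer G β := zpowers_le.mpr h
    exact hle y.2
  have hthree : ∀ β γ : Ω, ∃ δ : Ω, x • δ = δ ∧ δ ≠ β ∧ δ ≠ γ := by
    intro β γ
    have h1 := hXq.card_modEq_card_fixedPoints Ω
    have h2 : q ∣ Nat.card (MulAction.fixedPoints X Ω) :=
      Nat.modEq_zero_iff_dvd.mp (h1.symm.trans (Nat.modEq_zero_iff_dvd.mpr hdvd))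
    have h3 : 0 < Nat.card (MulAction.fixedPoints X Ω) := by
      haveI : Nonempty (MulAction.fixedPoints X Ω) := ⟨⟨α, (hfixed α).mpr hxα⟩⟩
      exact Nat.card_pos
    have h4 : 3 ≤ (MulAction.fixedPoints X Ω).ncard := by
      rw [← Nat.card_coe_set_eq]
      have := hq.out.two_le
      have := Nat.le_of_dvd h3 h2
      omega
    by_contra hc
    push Not at hc
    have hsub : MulAction.fixedPoints X Ω ⊆ ({β, γ} : Set Ω) := fun δ hδ => by
      by_cases e : δ = β
      · exact Or.inl e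
      · exact Or.inr (hc δ ((hfixed δ).mp hδ) e)
    have h5 := Set.ncard_le_ncard hsub (Set.toFinite _)
    have h6 : ({β, γ} : Set Ω).ncard ≤ 2 := (Set.ncard_insert_le _ _).trans (by rw [Set.ncard_singleton])
    omega
  rw [MulAction.is_two_pretransitive_iff] at h2
  -- the stabiliser of a fixed point centralises
  have step1 : ∀ β : Ω, x • β = β → ∀ k : G, k • β = β → k * x * k⁻¹ ∈ X → Commute k x := by
    intro β hβ k hk hkx
    set H := MulAction.stabilizer G β with hHdef
    haveI := hst β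
    haveI := IsZGroup.isCyclic_commutator (G := ↥H)
    have hkey : (⟨x, hβ⟩ : H) ∉ commutator ↥H := by
      intro hmem
      obtain ⟨δ, hδ, hδβ, -⟩ := hthree β β
      have hfix : ∀ ω : Ω, x • ω = ω := by
        intro ω
        by_cases e : ω = β
        · rw [e]; exact hβ
        obtain ⟨m, hm1, hm2⟩ := h2 (Ne.symm hδβ) (Ne.symm e)
        let m' : H := ⟨m, hm1⟩
        have hconj : m'⁻¹ * ⟨x, hβ⟩ * m' ∈ commutator ↥H := by
          have := (inferInstance : (commutator ↥H).Normal).conj_mem _ hmem m'⁻¹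
          rwa [inv_inv] at this
        have e1 : zpowers (m'⁻¹ * ⟨x, hβ⟩ * m') = zpowers (⟨x, hβ⟩ : H) := by
          refine eq_of_card_cyclic (inferInstance : IsCyclic ↥(commutator ↥H)) (zpowers_le.mpr hconj)
            (zpowers_le.mpr hmem) ?_
          rw [Nat.card_zpowers, Nat.card_zpowers]
          have := orderOf_injective (MulAut.conj m'⁻¹).toMonoidHom (MulEquiv.injective _) (⟨x, hβ⟩ : H)
          simpa using this
        obtain ⟨i, hi⟩ := mem_zpowers_iff.mp (e1 ▸ mem_zpowers (m'⁻¹ * ⟨x, hβ⟩ * m') :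
          m'⁻¹ * ⟨x, hβ⟩ * m' ∈ zpowers (⟨x, hβ⟩ : H))
        have hi' : (x : G) ^ i = m⁻¹ * x * m := congrArg Subtype.val hi
        have hxi : (x ^ i) • δ = δ := by
          have hle : X ≤ MulAction.stabilizer G δ := zpowers_le.mpr hδ
          exact hle (zpow_mem (mem_zpowers x) i)
        rw [hi', mul_smul, mul_smul, inv_smul_eq_iff, hm2] at hxi
        exact hxi
      have hx1 : x = 1 := FaithfulSMul.eq_of_smul_eq_smul fun ω : Ω => by rw [hfix, one_smul]
      rw [hx1, orderOf_one] at hx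
      exact hq.out.ne_one hx.symm
    let k' : H := ⟨k, hk⟩
    have hc1 : k' * ⟨x, hβ⟩ * k'⁻¹ * (⟨x, hβ⟩ : H)⁻¹ ∈ commutator ↥H :=
      Subgroup.commutator_mem_commutator (mem_top k') (mem_top _)
    have hc2 : k * x * k⁻¹ * x⁻¹ ∈ X := mul_mem hkx (inv_mem (mem_zpowers x))
    by_cases e : k * x * k⁻¹ * x⁻¹ = 1
    · exact mul_inv_eq_iff_eq_mul.mp (mul_inv_eq_one.mp e)
    exfalso
    have hxq : x ^ q = 1 := by rw [← hx]; exact pow_orderOf_eq_one x
    obtain ⟨i, hi⟩ := mem_zpowers_iff.mp (CfsgLib.Metacyclic.mem_zpowers_swap hxq hc2 e)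
    refine hkey ?_
    have : (⟨x, hβ⟩ : H) = (k' * ⟨x, hβ⟩ * k'⁻¹ * (⟨x, hβ⟩ : H)⁻¹) ^ i := Subtype.ext hi.symm
    rw [this]
    exact zpow_mem hc1 i
  -- the centraliser is transitive on the fixed points
  have step2 : ∀ β γ : Ω, x • β = β → x • γ = γ → ∃ c : G, Commute c x ∧ c • β = γ := by
    intro β γ hβ hγ
    obtain ⟨δ, hδ, hδβ, hδγ⟩ := hthree β γ
    obtain ⟨m, hm1, hm2⟩ := h2 hδβ hδγ
    let K := MulAction.stabilizer G δ ⊓ MulAction.stabilizer G γ
    haveI := hst δ
    have hKZ : IsZGroup ↥K := IsZGroup.of_injective (f := inclusion (inf_le_left : K ≤ _)) (inclusion_injective _)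
    have hxK : x ∈ K := mem_inf.mpr ⟨hδ, hγ⟩
    have hmK : m * x * m⁻¹ ∈ K := by
      refine mem_inf.mpr ⟨?_, ?_⟩ <;> rw [MulAction.mem_stabilizer_iff, mul_smul, mul_smul]
      · conv_lhs => rw [← hm1, inv_smul_smul, hδ, hm1]
      · conv_lhs => rw [← hm2, inv_smul_smul, hβ, hm2]
    obtain ⟨k, hk⟩ := conj_of_zgroup hKZ (q := q) (x := ⟨x, hxK⟩) (y := ⟨m * x * m⁻¹, hmK⟩)
      (by rw [orderOf_mk, hx])
      (by rw [orderOf_mk]; exact (orderOf_injective (MulAut.conj m).toMonoidHom (MulEquiv.injective _) x).trans hx)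
    obtain ⟨i, hi⟩ := mem_zpowers_iff.mp hk
    have hi' : x ^ i = (k : G) * (m * x * m⁻¹) * (k : G)⁻¹ := congrArg Subtype.val hi
    obtain ⟨hk1, hk2⟩ := mem_inf.mp k.2
    refine ⟨(k : G) * m, step1 δ hδ _ (by rw [mul_smul, hm1]; exact hk1) ?_, by rw [mul_smul, hm2]; exact hk2⟩
    rw [mul_inv_rev, show (k : G) * m * x * (m⁻¹ * (k : G)⁻¹) = (k : G) * (m * x * m⁻¹) * (k : G)⁻¹ by group, ← hi']
    exact zpow_mem (mem_zpowers x) i
  -- conclusion
  have hgα : x • (g • α) = g • α := by
    obtain ⟨i, hi⟩ := mem_zpowers_iff.mp (mem_zpowers_of_conj_eq hg)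
    have hle : X ≤ MulAction.stabilizer G α := zpowers_le.mpr hxα
    have e : x = g * x ^ i * g⁻¹ := by rw [← conj_zpow, hi]
    conv_lhs => rw [e, mul_smul, mul_smul, inv_smul_smul, show (x ^ i) • α = α from hle (zpow_mem (mem_zpowers x) i)]
  obtain ⟨c, hc, hcα⟩ := step2 α (g • α) hxα hgα
  have h3 : Commute (c⁻¹ * g) x := by
    refine step1 α hxα _ (by rw [mul_smul, ← hcα, inv_smul_smul]) ?_
    obtain ⟨i, hi⟩ := mem_zpowers_iff.mp hg
    rw [mul_inv_rev, inv_inv, show c⁻¹ * g * x * (g⁻¹ * c) = c⁻¹ * (g * x * g⁻¹ * c) by group, ← hi,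
      ← (hc.zpow_right i).eq, inv_mul_cancel_left]
    exact zpow_mem (mem_zpowers x) i
  have := hc.mul_left h3
  rwa [mul_inv_cancel_left] at this

end Action

variable {G : Type u} [Group G] [Finite G] {A B : Subgroup G}

/-- The cyclic factor has even order. -/
theorem Hyp.two_dvd_A (h : Hyp G A B) : 2 ∣ Nat.card A := by
  by_contra hodd
  haveI := Fact.mk Nat.prime_two
  obtain ⟨P, a, b, haA, hbB, hf⟩ := h.sylow_fac 2
  have ha1 : a = 1 := by
    refine orderOf_eq_one_iff.mp ?_
    obtain ⟨k, hk⟩ := IsPGroup.iff_orderOf.mp hf.pgroup a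
    rcases k with _ | k
    · rw [hk, pow_zero]
    · exfalso
      refine hodd ?_
      have h1 : orderOf (⟨(a : G), haA⟩ : A) ∣ Nat.card A := orderOf_dvd_natCard _
      rw [orderOf_mk, orderOf_coe, hk] at h1
      exact (dvd_pow_self 2 (by omega)).trans h1
  haveI : IsCyclic ↥(P : Subgroup G) := isCyclic_iff_exists_zpowers_eq_top.mpr ⟨b, by
    refine eq_top_iff.mpr fun x _ => ?_
    obtain ⟨u, hu, v, hv, rfl⟩ := hf.prod x
    rw [ha1, zpowers_one_eq_bot, mem_bot] at hu
    rw [hu, one_mul]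
    exact hv⟩
  obtain ⟨N, hNn, hNs, hNns, -, -⟩ := h.exists_socle
  haveI := hNn
  haveI := hNs
  refine simple_rank hNns fun X _ hX2 => ?_
  have hXp : IsPGroup 2 X := fun w => ⟨1, Subtype.ext (by simpa using hX2 w w.2)⟩
  obtain ⟨P', hP'⟩ := (hXp.map N.subtype).exists_le_sylow
  haveI : IsCyclic ↥(P' : Subgroup G) :=
    (P'.equiv P).isCyclic.mpr inferInstance
  haveI : IsCyclic ↥(X.map N.subtype) := isCyclic_of_injective (inclusion hP') (inclusion_injective hP')
  haveI : IsCyclic ↥X := isCyclic_of_injective (X.equivMapOfInjective N.subtype N.subtype_injective).toMonoidHom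
    (MulEquiv.injective _)
  classical
  haveI : Fintype X := Fintype.ofFinite X
  have h1 := IsCyclic.card_pow_eq_one_le (α := X) (n := 2) (by norm_num)
  rw [Finset.filter_true_of_mem (fun w _ => Subtype.ext (by simpa using hX2 w w.2)), Finset.card_univ,
    ← Nat.card_eq_fintype_card] at h1
  rwa [pow_one]

theorem Hyp.ne_top (h : Hyp G A B) : B ≠ ⊤ := fun e => h.hns (by
  haveI := h.solvB
  exact Group.isSolvable_of_surjective (f := B.subtype) (fun x => ⟨⟨x, e ▸ mem_top x⟩, rfl⟩))

/-- With `B` maximal, elements of odd prime order of `B` are central in their normalisers. -/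
theorem Hyp.commute_of_coatom (h : Hyp G A B) (hB : IsCoatom B) {q : ℕ} [hq : Fact q.Prime] (hq2 : q ≠ 2)
    (hqA : q ∣ Nat.card A) {x g : G} (hx : orderOf x = q) (hxB : x ∈ B) (hg : g * x * g⁻¹ ∈ zpowers x) :
    Commute g x := by
  classical
  set α : G ⧸ B := ((1 : G) : G ⧸ B) with hα
  haveI : FaithfulSMul G (G ⧸ B) := ⟨fun {a b} hab => by
    have hker : (MulAction.toPermHom G (G ⧸ B)).ker = ⊥ := by
      refine h.hR _ inferInstance (isSolvable_of_le h.solvB fun k hk => ?_)
      have h1 : k • α = α := by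
        have := congrArg (fun σ : Equiv.Perm (G ⧸ B) => σ α) (MonoidHom.mem_ker.mp hk)
        simpa using this
      have h2 : k ∈ MulAction.stabilizer G α := h1
      rwa [hα, MulAction.stabilizer_quotient] at h2
    refine (MonoidHom.ker_eq_bot_iff _).mp hker (Equiv.ext fun ω => ?_)
    exact hab ω⟩
  have hst : ∀ ω : G ⧸ B, ∃ k : G, MulAction.stabilizer G ω = B.map (MulAut.conj k).toMonoidHom := by
    intro ω
    obtain ⟨k, rfl⟩ := MulAction.exists_smul_eq G α ω
    exact ⟨k, by rw [MulAction.stabilizer_smul_eq_stabilizer_map_conj, hα, MulAction.stabilizer_quotient]⟩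
  have hfreeA : ∀ ω : G ⧸ B, MulAction.stabilizer ↥A ω = ⊥ := by
    intro ω
    refine eq_bot_iff.mpr fun a ha => mem_bot.mpr (Subtype.ext ?_)
    obtain ⟨k, hk⟩ := hst ω
    have h1 : (a : G) ∈ MulAction.stabilizer G ω := ha
    rw [hk] at h1
    obtain ⟨b, hb, hb'⟩ := h1
    refine h.not_conj a.2 (g := k⁻¹) ?_
    rw [← hb']
    simpa [mul_assoc] using hb
  have htransA : MulAction.IsPretransitive ↥A (G ⧸ B) := by
    refine (MulAction.isPretransitive_iff_orbit_eq_univ α).mpr (Set.eq_univ_of_forall fun ω => ?_)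
    induction ω using QuotientGroup.induction_on with
    | H k =>
      obtain ⟨a, ha, b, hb, rfl⟩ := h.hAB k
      refine ⟨⟨a, ha⟩, ?_⟩
      show ((a * 1 : G) : G ⧸ B) = ((a * b : G) : G ⧸ B)
      rw [mul_one, QuotientGroup.eq, inv_mul_cancel_left]
      exact hb
  have hcard : Nat.card (G ⧸ B) = Nat.card A := by
    have h1 := B.card_mul_index
    rw [h.card_eq, mul_comm (Nat.card A), Subgroup.index] at h1
    exact Nat.eq_of_mul_eq_mul_left Nat.card_pos h1
  have hnp : ¬ IsPrimePow (Nat.card (G ⧸ B)) := by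
    rw [hcard]
    intro hp
    obtain ⟨r, k, hr, hk, e⟩ := hp
    rw [← Nat.prime_iff] at hr
    have h1 : 2 ∣ r ^ k := e ▸ h.two_dvd_A
    have h2 : q ∣ r ^ k := e ▸ hqA
    exact hq2 (((Nat.prime_dvd_prime_iff_eq hq.out hr).mp (hq.out.dvd_of_dvd_pow h2)).trans
      ((Nat.prime_dvd_prime_iff_eq Nat.prime_two hr).mp (Nat.prime_two.dvd_of_dvd_pow h1)).symm)
  have hn : 2 ≤ Nat.card (G ⧸ B) := hcard ▸ Nat.le_of_dvd Nat.card_pos h.two_dvd_A
  haveI : Nontrivial (G ⧸ B) := Finite.one_lt_card_iff_nontrivial.mp (by omega)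
  have hprim : MulAction.IsPreprimitive G (G ⧸ B) := by
    rw [← MulAction.isCoatom_stabilizer_iff_preprimitive (G := G) (a := α), hα, MulAction.stabilizer_quotient]
    exact hB
  have h2t := (Cfsg.Agent.S3559.result (G := G) (Ω := G ⧸ B) inferInstance hn hnp A h.hA
    ⟨htransA, hfreeA⟩).resolve_left (not_not.mpr hprim)
  refine commute_of_two_trans h2t (fun ω => ?_) hq2 (hcard ▸ hqA) hx (α := α) ?_ hg
  · obtain ⟨k, hk⟩ := hst ω
    rw [hk]
    haveI := h.isZGroup
    exact IsZGroup.of_injective (f := (B.equivMapOfInjective _ (MulEquiv.injective (MulAut.conj k))).symm.toMonoidHom)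
      (MulEquiv.injective _)
  · have : x ∈ MulAction.stabilizer G α := by rw [hα, MulAction.stabilizer_quotient]; exact hxB
    exact this

end CfsgLib.BicyclicFactor
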